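import Groth.Agent.Unr55.EtAscent
import Groth.Agent.FlatMor68.DedekindFlat
import Mathlib.RingTheory.Smooth.StandardSmoothOfFree
import Mathlib.RingTheory.RingHom.StandardSmooth
import Mathlib.RingTheory.Localization.LocalizationLocalization
import Mathlib.RingTheory.DiscreteValuationRing.TFAE
import Mathlib.AlgebraicGeometry.Morphisms.Smooth
import Mathlib.RingTheory.Polynomial.UniqueFactorization

/-! Smooth schemes over a field are normal; smooth curves have valuation rings as stalks. -/

set_option autoImplicit false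
universe u

open AlgebraicGeometry CategoryTheory

namespace Groth.Agent.Curves2

theorem isNormalDomain_localization_of_smooth (k A : Type u) [Field k] [CommRing A] [Algebra k A]
    [Algebra.Smooth k A] (q : Ideal A) [q.IsPrime] :
    IsDomain (Localization.AtPrime q) ∧ IsIntegrallyClosed (Localization.AtPrime q) := by
  obtain ⟨f, hf, hstd⟩ := Algebra.IsSmoothAt.exists_notMem_isStandardSmooth (R := k) q
  have h' : (algebraMap k (Localization.Away f)).IsStandardSmooth := RingHom.isStandardSmooth_algebraMap.2 hstd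
  obtain ⟨n, g, hg, het⟩ := h'.exists_etale_mvPolynomial
  algebraize [g]
  have hdisj : Disjoint (Submonoid.powers f : Set A) (q : Set A) := by
    rw [Set.disjoint_left]
    rintro _ ⟨j, rfl⟩ hj
    exact hf ((inferInstance : q.IsPrime).mem_of_pow_mem j hj)
  set q' := q.map (algebraMap A (Localization.Away f)) with hq'
  have hp : q'.IsPrime := IsLocalization.isPrime_of_isPrime_disjoint (Submonoid.powers f) _ q inferInstance hdisj
  have hc : q'.comap (algebraMap A (Localization.Away f)) = q :=
    IsLocalization.comap_map_of_isPrime_disjoint (Submonoid.powers f) _ inferInstance hdisj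
  obtain ⟨h1, h2⟩ := Unr55.isNormalDomain_localization_of_etale (A := MvPolynomial (Fin n) k) q'
  have hloc : IsLocalization.AtPrime (Localization.AtPrime q') q := by
    have := IsLocalization.isLocalization_isLocalization_atPrime_isLocalization
      (R := A) (S := Localization.Away f) (Submonoid.powers f) (T := Localization.AtPrime q') q'
    have e : (q'.under A).primeCompl = q.primeCompl :=
      Submonoid.ext fun a => Iff.not (SetLike.ext_iff.mp hc a)
    unfold IsLocalization.AtPrime at this ⊢
    rw [← e]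
    exact this
  let e : Localization.AtPrime q' ≃ₐ[A] Localization.AtPrime q := IsLocalization.algEquiv q.primeCompl _ _
  have : IsDomain (Localization.AtPrime q) := e.symm.injective.isDomain e.symm.toRingHom
  exact ⟨this, IsIntegrallyClosed.of_equiv e.toRingEquiv⟩

theorem isIntegrallyClosed_stalk_of_smooth {k : Type u} [Field k] {X : Scheme.{u}}
    (f : X ⟶ Spec (CommRingCat.of k)) [Smooth f] (x : X) :
    IsDomain (X.presheaf.stalk x) ∧ IsIntegrallyClosed (X.presheaf.stalk x) := by
  obtain ⟨U, hU, hx, -⟩ := exists_isAffineOpen_mem_and_subset (U := ⊤) (show x ∈ (⊤ : X.Opens) from trivial)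
  have h : Smooth (Spec.map (Spec.preimage (hU.fromSpec ≫ f))) := by
    rw [Spec.map_preimage]; infer_instance
  let φ : k →+* Γ(X, U) := (Spec.preimage (hU.fromSpec ≫ f)).hom
  have hφ : φ.Smooth := (HasRingHomProperty.Spec_iff (P := @Smooth)).1 h
  let : Algebra k Γ(X, U) := φ.toAlgebra
  have : Algebra.Smooth k Γ(X, U) := hφ
  obtain ⟨h1, h2⟩ := isNormalDomain_localization_of_smooth k Γ(X, U) (hU.primeIdealOf ⟨x, hx⟩).asIdeal
  let := TopCat.Presheaf.algebra_section_stalk X.presheaf ⟨x, hx⟩
  have := hU.isLocalization_stalk ⟨x, hx⟩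
  let e : Localization.AtPrime (hU.primeIdealOf ⟨x, hx⟩).asIdeal ≃ₐ[Γ(X, U)] X.presheaf.stalk x :=
    IsLocalization.algEquiv (hU.primeIdealOf ⟨x, hx⟩).asIdeal.primeCompl _ _
  have : IsDomain (X.presheaf.stalk x) := e.symm.injective.isDomain e.symm.toRingHom
  exact ⟨this, IsIntegrallyClosed.of_equiv e.toRingEquiv⟩

theorem valuationRing_stalk_of_smooth {k : Type u} [Field k] {X : Scheme.{u}} [IsIntegral X]
    (f : X ⟶ Spec (CommRingCat.of k)) [Smooth f] (hdim : topologicalKrullDim X ≤ 1) (x : X) :
    ValuationRing (X.presheaf.stalk x) := by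
  have : IsLocallyNoetherian X := LocallyOfFiniteType.isLocallyNoetherian f
  have : IsNoetherianRing (X.presheaf.stalk x) := inferInstance
  have := (isIntegrallyClosed_stalk_of_smooth f x).2
  have hd : Ring.KrullDimLE 1 (X.presheaf.stalk x) :=
    Ring.krullDimLE_iff.mpr (le_trans (FlatMor68.DedekindFlat.stalk_dim_le x) hdim)
  refine ((tfae_of_isNoetherianRing_of_isLocalRing_of_isDomain (X.presheaf.stalk x)).out 1 3 rfl rfl).mpr
    ⟨inferInstance, fun P hP0 hP => IsLocalRing.eq_maximalIdeal (Ring.krullDimLE_one_iff_of_noZeroDivisors.mp hd P hP0 hP)⟩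

theorem surjective_of_valuationRing {A B K : Type*} [CommRing A] [IsDomain A] [ValuationRing A] [CommRing B]
    [IsLocalRing A] [Field K] [Algebra A K] [IsFractionRing A K] (f : A →+* B) [IsLocalHom f]
    (g : B →+* K) (hg : Function.Injective g) (hgf : g.comp f = algebraMap A K) :
    Function.Surjective f := by
  intro b
  obtain ⟨a, ha⟩ | ⟨a, ha⟩ :=
    (ValuationRing.isInteger_or_isInteger A (g b) : IsLocalization.IsInteger A (g b) ∨ IsLocalization.IsInteger A (g b)⁻¹)
  · exact ⟨a, hg (by rw [← RingHom.comp_apply, hgf, ha])⟩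
  · by_cases hb : b = 0
    · exact ⟨0, by rw [hb, map_zero]⟩
    have hgb : g b ≠ 0 := fun h => hb (hg (by rw [h, map_zero]))
    have h1 : f a * b = 1 := hg (by
      rw [map_mul, map_one, ← RingHom.comp_apply, hgf]
      rw [ha, inv_mul_cancel₀ hgb])
    obtain ⟨u, hu⟩ := (isUnit_map_iff f a).mp (IsUnit.of_mul_eq_one _ h1)
    refine ⟨(u⁻¹ : Aˣ), hg ?_⟩
    have h2 : f ((u⁻¹ : Aˣ) : A) * f a = 1 := by rw [← map_mul, ← hu, Units.inv_mul, map_one]
    calc g (f ((u⁻¹ : Aˣ) : A)) = g (f ((u⁻¹ : Aˣ) : A) * (f a * b)) := by rw [h1, mul_one]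
      _ = g b := by rw [← mul_assoc, h2, one_mul]

end Groth.Agent.Curves2
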