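import Groth.Agent.Curves2.ProjLine
import Groth.Agent.EGA73.ExtendCodimOne
import Mathlib.AlgebraicGeometry.ProjectiveSpectrum.Proper
import Mathlib.AlgebraicGeometry.FunctionField

/-! Projective space over a field is proper; stalks of the projective line; extension of morphisms
from dense opens of normal curves to proper schemes. -/

universe u

open CategoryTheory AlgebraicGeometry TopologicalSpace

set_option backward.isDefEq.respectTransparency false

namespace Groth.Agent.Curves2.ProjLine

open Var76.ProjCoord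

variable (k : Type u) [Field k]

theorem isProper_toSpec (n : ℕ) : IsProper (CohB1.ProjSpace.toSpec n k) := by
  classical
  let 𝒜 := CohB1.polyGrading n k
  have hsurj : Function.Surjective (algebraMap k (𝒜 0)) := fun p => by
    have h := p.2
    simp only [𝒜, CohB1.polyGrading, MvPolynomial.mem_homogeneousSubmodule] at h
    refine ⟨MvPolynomial.coeff 0 p.1, Subtype.ext ?_⟩
    rw [SetLike.GradeZero.coe_algebraMap, MvPolynomial.algebraMap_eq,
      ← MvPolynomial.homogeneousComponent_zero, MvPolynomial.homogeneousComponent_of_mem h, if_pos rfl]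
  have : IsScalarTower k (𝒜 0) (MvPolynomial (Fin (n + 1)) k) :=
    IsScalarTower.of_algebraMap_eq (R := k) (S := 𝒜 0) (A := MvPolynomial (Fin (n + 1)) k) fun r => rfl
  have : Algebra.FiniteType (𝒜 0) (MvPolynomial (Fin (n + 1)) k) :=
    Algebra.FiniteType.of_restrictScalars_finiteType k (𝒜 0) _
  have : IsClosedImmersion (Spec.map (CommRingCat.ofHom (algebraMap k (𝒜 0)))) :=
    IsClosedImmersion.spec_of_surjective _ hsurj
  exact MorphismProperty.comp_mem _ _ _ (inferInstance : IsProper (Proj.toSpecZero 𝒜)) inferInstance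

theorem isLocallyNoetherian (n : ℕ) : IsLocallyNoetherian (CohB1.ProjSpace n k) :=
  have := isProper_toSpec k n
  LocallyOfFiniteType.isLocallyNoetherian (CohB1.ProjSpace.toSpec n k)

theorem valuationRing_stalk (y : CohB1.ProjSpace 1 k) :
    ∃ _ : IsDomain ((CohB1.ProjSpace 1 k).presheaf.stalk y),
      ValuationRing ((CohB1.ProjSpace 1 k).presheaf.stalk y) := by
  obtain ⟨j, hj⟩ := exists_mem_U k 1 y
  let R := Γ(CohB1.ProjSpace 1 k, U k 1 j)
  have : IsDomain R := isDomain_chart k 1 j
  have : IsPrincipalIdealRing R := isPrincipalIdealRing_chart k j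
  let := TopCat.Presheaf.algebra_section_stalk (CohB1.ProjSpace 1 k).presheaf ⟨y, hj⟩
  have := (isAffineOpen_U k 1 j).isLocalization_stalk ⟨y, hj⟩
  let p := ((isAffineOpen_U k 1 j).primeIdealOf ⟨y, hj⟩).asIdeal
  have hd : IsDomain ((CohB1.ProjSpace 1 k).presheaf.stalk y) :=
    IsLocalization.isDomain_of_le_nonZeroDivisors (R := R) ((CohB1.ProjSpace 1 k).presheaf.stalk y)
      (M := p.primeCompl) p.primeCompl_le_nonZeroDivisors
  refine ⟨hd, ?_⟩
  have : IsBezout ((CohB1.ProjSpace 1 k).presheaf.stalk y) := by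
    have : IsPrincipalIdealRing ((CohB1.ProjSpace 1 k).presheaf.stalk y) :=
      ⟨fun J => by
        obtain ⟨g, hg⟩ := IsPrincipalIdealRing.principal (Ideal.under R J)
        exact ⟨algebraMap R _ g, by
          rw [← IsLocalization.map_under p.primeCompl _ J, hg, Ideal.submodule_span_eq, Ideal.map_span,
            Set.image_singleton]⟩⟩
    infer_instance
  exact ValuationRing.iff_local_bezout_domain.mpr ⟨inferInstance, inferInstance⟩

end Groth.Agent.Curves2.ProjLine

namespace Groth.Agent.Curves2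

theorem exists_extension_of_valuationRing {S P Y : Scheme.{u}} (p : P ⟶ S) [IsProper p] (q : Y ⟶ S)
    [IsIntegral Y] [IsLocallyNoetherian Y]
    (hval : ∀ y : Y, ∃ _ : IsDomain (Y.presheaf.stalk y), ValuationRing (Y.presheaf.stalk y))
    (V : Y.Opens) [Nonempty V] (g : V.toScheme ⟶ P) (hg : g ≫ p = V.ι ≫ q) :
    ∃ g' : Y ⟶ P, g' ≫ p = q ∧ V.ι ≫ g' = g := by
  have hV : Dense (V : Set Y) := V.isOpen.dense (Set.nonempty_coe_sort.mp ‹Nonempty V›)
  obtain ⟨W, hVW, g', h1, h2, h3⟩ :=
    EGA73.extend_proper_codim_one p q Set.univ (fun y _ => hval y) V hV g hg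
  obtain rfl : W = ⊤ := eq_top_iff.mpr fun y _ => h3 y trivial
  refine ⟨Y.topIso.inv ≫ g', ?_, ?_⟩
  · rw [Category.assoc, h1, ← Category.assoc]
    simp
  · rw [← h2, ← Category.assoc]
    congr 1
    rw [← cancel_mono (⊤ : Y.Opens).ι]
    simp

end Groth.Agent.Curves2
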