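import Groth.Agent.Var76.ProjCoord
import Mathlib.AlgebraicGeometry.Properties
import Mathlib.RingTheory.PrincipalIdealDomain

/-! The projective line over a field: coordinate rings of the standard charts are principal ideal
domains; integrality. -/

universe u

open CategoryTheory AlgebraicGeometry TopologicalSpace

set_option backward.isDefEq.respectTransparency false

namespace Groth.Agent.Curves2.ProjLine

open Var76.ProjCoord HomogeneousLocalization

variable (k : Type u) [Field k]

theorem away_val_injective {n : ℕ} (f : MvPolynomial (Fin (n + 1)) k) :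
    Function.Injective (HomogeneousLocalization.val (𝒜 := CohB1.polyGrading n k) (x := Submonoid.powers f)) :=
  HomogeneousLocalization.val_injective _

theorem isDomain_chart (n : ℕ) (j : Fin (n + 1)) :
    IsDomain Γ(CohB1.ProjSpace n k, U k n j) := by
  let 𝒜 := CohB1.polyGrading n k
  let f : MvPolynomial (Fin (n + 1)) k := MvPolynomial.X j
  have : IsIso (Proj.awayToSection 𝒜 f) := (Proj.basicOpenIsoAway 𝒜 f (X₁ k n j).2 one_pos).isIso_hom
  have : IsDomain (Localization (Submonoid.powers f)) :=
    IsLocalization.isDomain_localization (powers_le_nonZeroDivisors_of_noZeroDivisors (MvPolynomial.X_ne_zero j))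
  have : IsDomain (Away 𝒜 f) :=
    (away_val_injective k f).isDomain (algebraMap (Away 𝒜 f) (Localization (Submonoid.powers f)))
  exact (asIso (Proj.awayToSection 𝒜 f)).commRingCatIsoToRingEquiv.symm.injective.isDomain _

theorem exists_polynomial_surjective (j : Fin 2) :
    ∃ ψ : Polynomial k →+* Γ(CohB1.ProjSpace 1 k, U k 1 j), Function.Surjective ψ := by
  classical
  let v : Fin 2 → Γ(CohB1.ProjSpace 1 k, U k 1 j) := fun i =>
    Proj.awayToSection (CohB1.polyGrading 1 k) (MvPolynomial.X j) (frac k 1 j (X₁ k 1 i))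
  obtain ⟨i₀, hi₀⟩ : ∃ i₀, ∀ i, i = j ∨ i = i₀ := by
    fin_cases j
    · exact ⟨1, by decide⟩
    · exact ⟨0, by decide⟩
  let w : Fin 2 → Polynomial k := fun i => if i = j then 1 else Polynomial.X
  let ψ := Polynomial.eval₂RingHom (Var76.BertiniScheme.const (k := k) (CohB1.ProjSpace 1 k) (U k 1 j)) (v i₀)
  refine ⟨ψ, fun x => ?_⟩
  obtain ⟨p, rfl⟩ := exists_eval₂_eq k 1 j x
  refine ⟨MvPolynomial.eval₂ Polynomial.C w p, ?_⟩
  rw [MvPolynomial.eval₂_comp_left ψ]
  congr 1
  · ext r
    simp [ψ]
  · funext i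
    show ψ (w i) = _
    by_cases hij : i = j
    · subst hij
      simp only [w, if_true, map_one]
      have : frac k 1 i (X₁ k 1 i) = 1 := by
        apply HomogeneousLocalization.val_injective
        rw [frac, HomogeneousLocalization.val_mk, HomogeneousLocalization.val_one]
        exact Localization.mk_self (⟨(X₁ k 1 i).1, 1, pow_one _⟩ : Submonoid.powers _)
      rw [this, map_one]
    · obtain rfl := (hi₀ i).resolve_left hij
      simp [w, ψ, v, hij]

theorem isPrincipalIdealRing_chart (j : Fin 2) :
    IsPrincipalIdealRing Γ(CohB1.ProjSpace 1 k, U k 1 j) := by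
  obtain ⟨ψ, hψ⟩ := exists_polynomial_surjective k j
  exact IsPrincipalIdealRing.of_surjective ψ hψ

theorem irreducibleSpace (n : ℕ) : IrreducibleSpace (CohB1.ProjSpace n k) := by
  let 𝒜 := CohB1.polyGrading n k
  let y : ProjectiveSpectrum 𝒜 := ⟨⊥, (Ideal.isPrime_bot : (⊥ : Ideal (MvPolynomial (Fin (n + 1)) k)).IsPrime), fun h => by
    have h0 : MvPolynomial.X (0 : Fin (n + 1)) ∈ HomogeneousIdeal.irrelevant 𝒜 :=
      HomogeneousIdeal.mem_irrelevant_of_mem 𝒜 zero_lt_one (MvPolynomial.isHomogeneous_X k 0)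
    have h1 : (MvPolynomial.X 0 : MvPolynomial (Fin (n + 1)) k) ∈ (⊥ : HomogeneousIdeal 𝒜).toIdeal := h h0
    rw [HomogeneousIdeal.toIdeal_bot] at h1
    exact MvPolynomial.X_ne_zero (R := k) (0 : Fin (n + 1)) ((Submodule.mem_bot _).mp h1)⟩
  have : IrreducibleSpace (ProjectiveSpectrum 𝒜) := by
    rw [irreducibleSpace_def]
    have : closure ({y} : Set (ProjectiveSpectrum 𝒜)) = Set.univ := Set.eq_univ_of_forall fun x =>
      (ProjectiveSpectrum.le_iff_mem_closure _ y x).mp ((ProjectiveSpectrum.as_ideal_le_as_ideal _ y x).mp bot_le)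
    show IsIrreducible (Set.univ : Set (ProjectiveSpectrum 𝒜))
    rw [← this]
    exact isIrreducible_singleton.closure
  exact this

theorem isIntegral (n : ℕ) : IsIntegral (CohB1.ProjSpace n k) := by
  have := irreducibleSpace k n
  have : ∀ x : CohB1.ProjSpace n k, _root_.IsReduced ((CohB1.ProjSpace n k).presheaf.stalk x) := fun x => by
    obtain ⟨j, hj⟩ := exists_mem_U k n x
    have := isDomain_chart k n j
    let := TopCat.Presheaf.algebra_section_stalk (CohB1.ProjSpace n k).presheaf ⟨x, hj⟩
    have := (isAffineOpen_U k n j).isLocalization_stalk ⟨x, hj⟩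
    have := IsLocalization.isDomain_of_le_nonZeroDivisors (R := Γ(CohB1.ProjSpace n k, U k n j)) ((CohB1.ProjSpace n k).presheaf.stalk x) (M := ((isAffineOpen_U k n j).primeIdealOf ⟨x, hj⟩).asIdeal.primeCompl)
      ((isAffineOpen_U k n j).primeIdealOf ⟨x, hj⟩).asIdeal.primeCompl_le_nonZeroDivisors
    exact inferInstance
  have : IsReduced (CohB1.ProjSpace n k) := isReduced_of_isReduced_stalk _
  exact isIntegral_of_irreducibleSpace_of_isReduced _

end Groth.Agent.Curves2.ProjLine
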