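import Groth.Agent.Omega57.Diag
import Groth.Agent.Div89.Cartier
import Groth.Agent.Mero90.Frames
import Groth.Agent.Mero90.Sections

/-!
The ideal sheaf of a closed subscheme, as a module, is invertible exactly when the ideal is effective Cartier.
-/

set_option autoImplicit false
set_option backward.isDefEq.respectTransparency.types false

noncomputable section

universe u

open CategoryTheory Limits AlgebraicGeometry TopologicalSpace Opposite
open Groth.Agent Groth.Agent.Var76.LineBundle
open scoped nonZeroDivisors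

namespace Groth.Agent.Curves2

variable {X : Scheme.{u}} (I : X.IdealSheafData)

theorem idealSect_res {U V : X.Opens} (h : V ≤ U) (m : Γ(ClSub.idealMod I, U)) :
    OmegaSh.idealSect I V (res (ClSub.idealMod I) h m) =
      X.presheaf.map (homOfLE h).op (OmegaSh.idealSect I U m) :=
  OmegaSh.idealModι_app_map U I h m

/-- Sections of the ideal module on an affine open are the ideal. -/
theorem idealSect_mem_ideal (U : X.affineOpens) (m : Γ(ClSub.idealMod I, U.1)) :
    OmegaSh.idealSect I U.1 m ∈ I.ideal U := by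
  rw [← I.ker_subschemeι_app U]
  exact Omega57.subschemeι_idealSect I U.1 m

theorem exists_idealSect_of_mem (U : X.affineOpens) {r : Γ(X, U.1)} (hr : r ∈ I.ideal U) :
    ∃ m, OmegaSh.idealSect I U.1 m = r := by
  rw [← I.ker_subschemeι_app U] at hr
  exact Omega57.exists_idealSect_eq I U.1 r hr

/-- A non-zero-divisor generator of the ideal on an affine open frames the ideal module. -/
theorem isFrame_of_span (U : X.affineOpens) {f : Γ(X, U.1)} (hf : f ∈ Γ(X, U.1)⁰)
    (hI : I.ideal U = Ideal.span {f}) (e : Γ(ClSub.idealMod I, U.1))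
    (he : OmegaSh.idealSect I U.1 e = f) : IsFrame (ClSub.idealMod I) U.1 e := by
  intro V h
  have hsm : ∀ a : Γ(X, V), OmegaSh.idealSect I V (a • res (ClSub.idealMod I) h e) =
      a * X.presheaf.map (homOfLE h).op f := by
    intro a; rw [Omega57.idealSect_smul, idealSect_res, he]
  have hcancel : ∀ (W : X.Opens) (hW : W ≤ U.1) (a b : Γ(X, W)),
      a * X.presheaf.map (homOfLE hW).op f = b * X.presheaf.map (homOfLE hW).op f → a = b := by
    intro W hW a b hab
    refine TopCat.Presheaf.section_ext X.sheaf W a b fun y hy => ?_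
    have h1 := congrArg (X.presheaf.germ W y hy) hab
    rw [map_mul, map_mul, TopCat.Presheaf.germ_res_apply] at h1
    show (X.presheaf.germ W y hy).hom a = (X.presheaf.germ W y hy).hom b
    refine sub_eq_zero.1 (mem_nonZeroDivisors_iff_right.1
      (Div89.germ_mem_nonZeroDivisors U hf y (hW hy)) _ ?_)
    rw [sub_mul, sub_eq_zero]; exact h1
  refine ⟨fun a b hab => hcancel V h a b ?_, fun m => ?_⟩
  · rw [← hsm, ← hsm]; exact congrArg _ hab
  · -- glue the quotients
    set g := OmegaSh.idealSect I V m with hg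
    have hloc : ∀ y : V, ∃ (W : X.affineOpens) (hWV : W.1 ≤ V) (c : Γ(X, W.1)), y.1 ∈ W.1 ∧
        c * X.presheaf.map (homOfLE (hWV.trans h)).op f = X.presheaf.map (homOfLE hWV).op g := by
      intro y
      obtain ⟨W, hyW, hWV⟩ := Div89.exists_affine_le y.2
      have h1 : X.presheaf.map (homOfLE hWV).op g ∈ I.ideal W := by
        rw [hg, ← idealSect_res]; exact idealSect_mem_ideal I W _
      rw [Div89.ideal_res_span (hWV.trans h) hI, Ideal.mem_span_singleton'] at h1
      obtain ⟨c, hc⟩ := h1
      exact ⟨W, hWV, c, hyW, hc⟩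
    choose W hWV c hyW hc using hloc
    have hcover : V ≤ iSup fun y : V => (W y).1 := fun y hy => Opens.mem_iSup.mpr ⟨⟨y, hy⟩, hyW ⟨y, hy⟩⟩
    have hcompat : TopCat.Presheaf.IsCompatible X.sheaf.obj (fun y : V => (W y).1) c := by
      intro y z
      refine hcancel _ (inf_le_left.trans ((hWV y).trans h)) _ _ ?_
      have e1 := congrArg (X.presheaf.map (homOfLE (inf_le_left : (W y).1 ⊓ (W z).1 ≤ _)).op) (hc y)
      have e2 := congrArg (X.presheaf.map (homOfLE (inf_le_right : (W y).1 ⊓ (W z).1 ≤ _)).op) (hc z)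
      simp only [map_mul, ← ConcreteCategory.comp_apply, ← Functor.map_comp] at e1 e2
      exact e1.trans e2.symm
    obtain ⟨(a : Γ(X, V)), ha, -⟩ := X.sheaf.existsUnique_gluing' (fun y : V => (W y).1) V
      (fun y => homOfLE (hWV y)) hcover c hcompat
    refine ⟨a, OmegaSh.idealModι_app_injective (W := V) I (?_ : OmegaSh.idealSect I V _ = g)⟩
    rw [hsm]
    refine TopCat.Sheaf.eq_of_locally_eq' X.sheaf (fun y : V => (W y).1) V (fun y => homOfLE (hWV y))
      hcover _ _ fun y => ?_
    change X.presheaf.map (homOfLE (hWV y)).op (a * _) = X.presheaf.map (homOfLE (hWV y)).op g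
    rw [map_mul, show X.presheaf.map (homOfLE (hWV y)).op a = c y from ha y, ← ConcreteCategory.comp_apply,
      ← Functor.map_comp]
    exact hc y

/-- The ideal module is invertible iff the ideal is effective Cartier. -/
theorem isInvertible_idealMod_iff :
    PicF.IsInvertible (ClSub.idealMod I) ↔ BlowUp.IsEffCartierIdeal I := by
  constructor
  · intro hinv x
    obtain ⟨W, hxW, -, e, he⟩ := Mero90.exists_affine_frame hinv x ⊤ trivial
    have hsm : ∀ a : Γ(X, W.1), OmegaSh.idealSect I W.1 (a • res (ClSub.idealMod I) le_rfl e) =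
        a * OmegaSh.idealSect I W.1 e := by
      intro a; rw [Omega57.idealSect_smul, idealSect_res]; simp
    refine ⟨W, hxW, OmegaSh.idealSect I W.1 e, mem_nonZeroDivisors_iff_right.2 fun a ha => ?_, ?_⟩
    · refine (he W.1 le_rfl).1 (Omega57.idealSect_injective I W.1 ?_ : _ = (0 : Γ(X, W.1)) • _)
      rw [hsm, hsm, ha, zero_mul]
    · refine le_antisymm (fun r hr => ?_) ?_
      · obtain ⟨m, rfl⟩ := exists_idealSect_of_mem I W hr
        obtain ⟨a, rfl⟩ := (he W.1 le_rfl).2 m
        exact Ideal.mem_span_singleton'.2 ⟨a, (hsm a).symm⟩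
      · rw [Ideal.span_singleton_le_iff_mem]; exact idealSect_mem_ideal I W e
  · intro hI
    refine Mero90.isInvertible_of_frames fun x => ?_
    obtain ⟨U, hx, f, hf, hfI⟩ := hI x
    obtain ⟨e, he⟩ := exists_idealSect_of_mem I U (hfI ▸ Ideal.mem_span_singleton_self f)
    exact ⟨U.1, hx, e, isFrame_of_span I U hf hfI e he⟩

end Groth.Agent.Curves2
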