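import Mathlib.RingTheory.DedekindDomain.Basic
import Mathlib.RingTheory.KrullDimension.Basic
import Mathlib.RingTheory.FiniteType
import Mathlib.RingTheory.Jacobson.Ring
import Mathlib.FieldTheory.Perfect
import Mathlib.RingTheory.LocalRing.ResidueField.Ideal

/-! Coordinate rings of affine curves over a field. -/

namespace Groth.Agent.Curves2

theorem dimensionLEOne_of_ringKrullDim (A : Type*) [CommRing A] [IsDomain A]
    (h : ringKrullDim A = 1) : Ring.DimensionLEOne A := by
  have : Ring.KrullDimLE 1 A := Ring.krullDimLE_iff.mpr (by simp [h])
  exact ⟨fun {p} hp hp' => Ring.krullDimLE_one_iff_of_noZeroDivisors.mp this p hp hp'⟩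

theorem isDedekindDomain_of_ringKrullDim (k A : Type*) [Field k] [CommRing A] [IsDomain A]
    [IsIntegrallyClosed A] [Algebra k A] [Algebra.FiniteType k A] (h : ringKrullDim A = 1) :
    IsDedekindDomain A := by
  have := dimensionLEOne_of_ringKrullDim A h
  have : IsNoetherianRing A := Algebra.FiniteType.isNoetherianRing k A
  exact { }

theorem perfectField_residueField (k A : Type*) [Field k] [PerfectField k] [CommRing A] [Algebra k A]
    [Algebra.FiniteType k A] (P : Ideal A) [P.IsMaximal] : PerfectField P.ResidueField := by
  let : Field (A ⧸ P) := Ideal.Quotient.field P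
  have := finite_of_finite_type_of_isJacobsonRing k (A ⧸ P)
  have : Module.Finite k P.ResidueField :=
    Module.Finite.of_surjective (IsScalarTower.toAlgHom k (A ⧸ P) P.ResidueField).toLinearMap
      P.bijective_algebraMap_quotient_residueField.2
  exact Algebra.IsAlgebraic.perfectField k

end Groth.Agent.Curves2
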