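import Groth.Agent.Curves2.SmoothNormal
import Groth.Agent.SchBasics.Birational
import Mathlib.AlgebraicGeometry.Morphisms.Etale
import Mathlib.AlgebraicGeometry.Morphisms.Flat
import Mathlib.RingTheory.Flat.TorsionFree

/-! Morphisms of smooth curves: flatness of dominant maps, stalks at closed points. -/

set_option autoImplicit false
universe u

open AlgebraicGeometry CategoryTheory

namespace Groth.Agent.Curves2

theorem flat_of_dominant {k : Type u} [Field k] {X Y : Scheme.{u}} [IsIntegral X] [IsIntegral Y]
    (pY : Y ⟶ Spec (CommRingCat.of k)) [Smooth pY] (hdim : topologicalKrullDim Y ≤ 1) (f : X ⟶ Y)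
    (h : f (genericPoint X) = genericPoint Y) : Flat f := by
  refine Flat.of_stalkMap f fun x => ?_
  have := valuationRing_stalk_of_smooth pY hdim (f x)
  let := (f.stalkMap x).hom.toAlgebra
  have hinj := SchBasics.stalkMap_injective f h x
  have : Module.IsTorsionFree (Y.presheaf.stalk (f x)) (X.presheaf.stalk x) :=
    Module.isTorsionFree_iff_algebraMap_injective.mpr hinj
  have : IsLocallyNoetherian Y := LocallyOfFiniteType.isLocallyNoetherian pY
  have : IsDedekindDomain (Y.presheaf.stalk (f x)) :=
    ((tfae_of_isNoetherianRing_of_isLocalRing_of_isDomain (Y.presheaf.stalk (f x))).out 1 2 rfl rfl).mp ‹_›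
  exact (inferInstance : Module.Flat (Y.presheaf.stalk (f x)) (X.presheaf.stalk x))

theorem eq_genericPoint_of_isField {X : Scheme.{u}} [IsIntegral X] (x : X)
    (h : IsField (X.presheaf.stalk x)) : x = genericPoint X := by
  obtain ⟨z, hz⟩ : genericPoint X ∈ Set.range (X.fromSpecStalk x) := by
    rw [Scheme.range_fromSpecStalk]; exact genericPoint_specializes x
  have : z = IsLocalRing.closedPoint (X.presheaf.stalk x) := by
    apply PrimeSpectrum.ext
    let := h.toField
    exact ((Ideal.eq_bot_or_top z.asIdeal).resolve_right z.isPrime.ne_top).trans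
      ((Ideal.eq_bot_or_top _).resolve_right (IsLocalRing.closedPoint (X.presheaf.stalk x)).isPrime.ne_top).symm
  rw [← hz, this, Scheme.fromSpecStalk_closedPoint]

theorem maximalIdeal_stalk_ne_bot {X : Scheme.{u}} [IsIntegral X] (hdim : 0 < topologicalKrullDim X)
    (x : X) (hx : IsClosed ({x} : Set X)) : IsLocalRing.maximalIdeal (X.presheaf.stalk x) ≠ ⊥ := by
  intro h
  have hF : IsField (X.presheaf.stalk x) := IsLocalRing.isField_iff_maximalIdeal_eq.mpr h
  have hgen := eq_genericPoint_of_isField x hF
  have hsub : Subsingleton X := by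
    constructor
    intro a b
    have : ∀ a : X, a = x := fun a =>
      Set.mem_singleton_iff.mp ((genericPoint_specializes a).mem_closed hx (hgen ▸ rfl))
    rw [this a, this b]
  have : topologicalKrullDim X ≤ 0 := by
    have : DiscreteTopology X := inferInstance
    exact (topologicalKrullDim_zero_of_discreteTopology X)
  exact absurd (hdim.trans_le this) (lt_irrefl _)

theorem isClosed_primeIdealOf {X : Scheme.{u}} {V : X.Opens} (hV : IsAffineOpen V) {x : X} (hxV : x ∈ V)
    (hx : IsClosed ({x} : Set X)) : (hV.primeIdealOf ⟨x, hxV⟩).asIdeal.IsMaximal := by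
  rw [← PrimeSpectrum.isClosed_singleton_iff_isMaximal]
  have h1 : IsClosed (hV.fromSpec ⁻¹' ({x} : Set X)) := hx.preimage hV.fromSpec.continuous
  suffices e : ({hV.primeIdealOf ⟨x, hxV⟩} : Set _) = hV.fromSpec ⁻¹' ({x} : Set X) by
    rw [← e] at h1; exact h1
  ext z
  simp only [Set.mem_singleton_iff, Set.mem_preimage]
  refine ⟨fun h => h ▸ hV.fromSpec_primeIdealOf ⟨x, hxV⟩, fun h => ?_⟩
  exact hV.fromSpec.isOpenEmbedding.injective (h.trans (hV.fromSpec_primeIdealOf ⟨x, hxV⟩).symm)

end Groth.Agent.Curves2
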