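import Groth.Agent.Curves2.SmoothAtSep
import Groth.Agent.Curves2.CurveMaps
import Groth.Agent.Curves2.CurveDim
import Groth.Agent.Crv77.Basic
import Groth.Agent.Curves2.SmoothNormal
import Groth.Agent.Var76.VarDim
import Mathlib.AlgebraicGeometry.Morphisms.Smooth

/-! Smooth and normal curves over perfect fields. -/

set_option autoImplicit false

universe u

open CategoryTheory CategoryTheory.Limits AlgebraicGeometry

namespace Groth.Agent.Curves2

set_option backward.isDefEq.respectTransparency false

/-- An integral curve over a perfect field with valuation stalks is smooth. -/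
theorem smooth_of_valuationRing {k : Type u} [Field k] [PerfectField k] {X : Scheme.{u}}
    (f : X ⟶ Spec (CommRingCat.of k)) [LocallyOfFiniteType f] [IsIntegral X]
    (hdim : topologicalKrullDim X = 1)
    (hval : ∀ x : X, ∃ _ : IsDomain (X.presheaf.stalk x), ValuationRing (X.presheaf.stalk x)) :
    Smooth f := by
  have : LocallyOfFinitePresentation f := inferInstance
  have : JacobsonSpace X := LocallyOfFiniteType.jacobsonSpace f
  rw [← Scheme.Hom.smoothLocus_eq_top_iff, ← top_le_iff]
  have hclosed : ∀ x : X, IsClosed ({x} : Set X) → x ∈ f.smoothLocus := by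
    intro x hx
    obtain ⟨V, hV, hxV, -⟩ := exists_isAffineOpen_mem_and_subset (U := ⊤) (show x ∈ (⊤ : X.Opens) from trivial)
    have : Nonempty V := ⟨⟨x, hxV⟩⟩
    let U : (Spec (CommRingCat.of k)).Opens := ⊤
    have hU : IsAffineOpen U := isAffineOpen_top _
    rw [Scheme.Hom.mem_smoothLocus, formallySmooth_stalkMap_iff U hU V hV le_top hxV]
    let e : k ≃+* Γ(Spec (CommRingCat.of k), U) :=
      (Scheme.ΓSpecIso (CommRingCat.of k)).symm.commRingCatIsoToRingEquiv
    let : Field Γ(Spec (CommRingCat.of k), U) :=
      (MulEquiv.isField (Field.toIsField k) e.symm.toMulEquiv).toField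
    have : PerfectField Γ(Spec (CommRingCat.of k), U) := by
      let : Algebra k Γ(Spec (CommRingCat.of k), U) := e.toRingHom.toAlgebra
      have : Algebra.IsAlgebraic k Γ(Spec (CommRingCat.of k), U) :=
        ⟨fun y => by obtain ⟨r, rfl⟩ := e.surjective y; exact isAlgebraic_algebraMap r⟩
      exact Algebra.IsAlgebraic.perfectField k
    let : Algebra Γ(Spec (CommRingCat.of k), U) Γ(X, V) := (f.appLE U V le_top).hom.toAlgebra
    have : Algebra.FiniteType Γ(Spec (CommRingCat.of k), U) Γ(X, V) := f.finiteType_appLE hU hV le_top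
    set m := (hV.primeIdealOf ⟨x, hxV⟩).asIdeal with hm
    have hmax : m.IsMaximal := isClosed_primeIdealOf hV hxV hx
    let : Algebra Γ(X, V) (X.presheaf.stalk x) := TopCat.Presheaf.algebra_section_stalk X.presheaf ⟨x, hxV⟩
    have := hV.isLocalization_stalk ⟨x, hxV⟩
    let est : X.presheaf.stalk x ≃ₐ[Γ(X, V)] Localization.AtPrime m :=
      IsLocalization.algEquiv m.primeCompl _ _
    obtain ⟨_, _⟩ := hval x
    have hic : IsIntegrallyClosed (Localization.AtPrime m) := IsIntegrallyClosed.of_equiv est.toRingEquiv
    have hd : Ring.KrullDimLE 1 (Localization.AtPrime m) := Ring.krullDimLE_iff.mpr (by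
      rw [← ringKrullDim_eq_of_ringEquiv est.toRingEquiv]
      exact (Crv77.stalk_dim_le x).trans hdim.le)
    have : Algebra.FiniteType Γ(X, V) m.ResidueField :=
      Algebra.FiniteType.of_surjective (IsScalarTower.toAlgHom Γ(X, V) Γ(X, V) m.ResidueField)
        (Ideal.algebraMap_residueField_surjective m)
    have : Algebra.FiniteType Γ(Spec (CommRingCat.of k), U) m.ResidueField :=
      Algebra.FiniteType.trans (‹_› : Algebra.FiniteType Γ(Spec (CommRingCat.of k), U) Γ(X, V)) (‹_› : Algebra.FiniteType Γ(X, V) m.ResidueField)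
    have : Module.Finite Γ(Spec (CommRingCat.of k), U) m.ResidueField :=
      finite_of_finite_type_of_isJacobsonRing _ _
    have hsep : Algebra.IsSeparable Γ(Spec (CommRingCat.of k), U) m.ResidueField := inferInstance
    exact isSmoothAt_of_separable_residue Γ(Spec (CommRingCat.of k), U) Γ(X, V) m hic hd hsep
  intro x _
  by_contra hx
  have hne : ((f.smoothLocus : Set X)ᶜ).Nonempty := ⟨x, hx⟩
  obtain ⟨c, hc, hcc⟩ := nonempty_inter_closedPoints hne f.smoothLocus.2.isClosed_compl.isLocallyClosed
  exact hc (hclosed c hcc)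

end Groth.Agent.Curves2
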