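import Groth.Agent.Curves2.Completion
import Mathlib.RingTheory.LocalProperties.Reduced

/-! The scheme-theoretic image of a reduced scheme is reduced. -/

set_option autoImplicit false

universe u

open CategoryTheory AlgebraicGeometry

noncomputable section

namespace Groth.Agent.Curves2

theorem isReduced_of_dominant {X Y : Scheme.{u}} (f : X ⟶ Y) [QuasiCompact f] [AlgebraicGeometry.IsReduced X]
    [IsSchemeTheoreticallyDominant f] : AlgebraicGeometry.IsReduced Y := by
  have : ∀ U : Y.affineOpens, _root_.IsReduced Γ(Y, U) := fun U => by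
    refine isReduced_of_injective (f.app (U : Y.Opens)).hom ((RingHom.injective_iff_ker_eq_bot _).2 ?_)
    rw [← Scheme.Hom.ker_apply, IsSchemeTheoreticallyDominant.ker_eq_bot f]
    rfl
  have : ∀ y : Y, _root_.IsReduced (Y.presheaf.stalk y) := fun y => by
    obtain ⟨U, hU, hy, -⟩ := exists_isAffineOpen_mem_and_subset (U := (⊤ : Y.Opens)) (x := y) trivial
    have : _root_.IsReduced Γ(Y, U) := this ⟨U, hU⟩
    let : Algebra Γ(Y, U) (Y.presheaf.stalk y) := TopCat.Presheaf.algebra_section_stalk Y.presheaf ⟨y, hy⟩
    have : IsLocalization.AtPrime (Y.presheaf.stalk y) (hU.primeIdealOf ⟨y, hy⟩).asIdeal :=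
      hU.isLocalization_stalk ⟨y, hy⟩
    exact isReduced_localizationPreserves (hU.primeIdealOf ⟨y, hy⟩).asIdeal.primeCompl (Y.presheaf.stalk y) inferInstance
  exact isReduced_of_isReduced_stalk Y

theorem isReduced_image {X Y : Scheme.{u}} (f : X ⟶ Y) [QuasiCompact f] [AlgebraicGeometry.IsReduced X] :
    AlgebraicGeometry.IsReduced f.image :=
  have := isSchemeTheoreticallyDominant_toImage f
  isReduced_of_dominant f.toImage

end Groth.Agent.Curves2
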