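import Groth.Agent.Curves2.NilLift
import Mathlib.AlgebraicGeometry.Morphisms.Affine
import Mathlib.AlgebraicGeometry.Noetherian
import Mathlib.RingTheory.Noetherian.Nilpotent

/-! A scheme is affine if a surjective closed subscheme is, for a nilpotent (e.g. Noetherian) ideal. -/

set_option autoImplicit false

universe u

open CategoryTheory AlgebraicGeometry Opposite TopologicalSpace

noncomputable section

set_option backward.isDefEq.respectTransparency false

namespace Groth.Agent.Curves2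

variable {Z X : Scheme.{u}} (i : Z ⟶ X)

theorem app_resHom {U V : X.Opens} (h : V ≤ U) (a : Γ(X, U)) :
    i.app V (resHom h a) = resHom (i.preimage_mono h) (i.app U a) := by
  show (X.presheaf.map (homOfLE h).op ≫ i.app V).hom a = _
  rw [i.naturality]
  rfl

theorem preimage_le_iff [Surjective i] {U V : X.Opens} : U ≤ V ↔ i ⁻¹ᵁ U ≤ i ⁻¹ᵁ V := by
  refine ⟨fun h => i.preimage_mono h, fun h x hx => ?_⟩
  obtain ⟨z, rfl⟩ := (inferInstance : Surjective i).surj x
  exact h hx

theorem preimage_injective [Surjective i] {U V : X.Opens} (h : i ⁻¹ᵁ U = i ⁻¹ᵁ V) : U = V :=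
  le_antisymm ((preimage_le_iff i).2 h.le) ((preimage_le_iff i).2 h.ge)

variable [IsClosedImmersion i] [Surjective i] [IsAffine Z]

omit [Surjective i] in
/-- Topological part: a finite affine cover by opens with traces basic opens. -/
theorem exists_cover :
    ∃ (ι : Type u) (_ : Fintype ι) (b : ι → Γ(Z, ⊤)) (O : ι → X.affineOpens),
      (∀ l, i ⁻¹ᵁ (O l : X.Opens) = Z.basicOpen (b l)) ∧ Ideal.span (Set.range b) = ⊤ := by
  classical
  have key : ∀ z : Z, ∃ (b : Γ(Z, ⊤)) (O : X.affineOpens), i ⁻¹ᵁ (O : X.Opens) = Z.basicOpen b ∧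
      z ∈ Z.basicOpen b := by
    intro z
    obtain ⟨U, hU, hzU, -⟩ := exists_isAffineOpen_mem_and_subset (U := (⊤ : X.Opens)) (x := i z) trivial
    obtain ⟨b, hb, hzb⟩ := (isAffineOpen_top Z).exists_basicOpen_le (V := i ⁻¹ᵁ U) (⟨z, hzU⟩) trivial
    obtain ⟨bt, hbt⟩ := i.app_surjective U hU (resHom le_top b)
    refine ⟨b, ⟨X.basicOpen bt, hU.basicOpen _⟩, ?_, hzb⟩
    show i ⁻¹ᵁ X.basicOpen bt = _
    rw [Scheme.preimage_basicOpen, hbt]
    show Z.basicOpen (Z.presheaf.map (homOfLE le_top).op b) = _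
    rw [Scheme.basicOpen_res]
    exact inf_eq_right.2 hb
  choose b O hO hmem using key
  obtain ⟨t, ht⟩ := isCompact_univ.elim_finite_subcover (fun z => ((Z.basicOpen (b z) : Z.Opens) : Set Z))
    (fun z => (Z.basicOpen (b z)).isOpen) (fun z _ => Set.mem_iUnion.2 ⟨z, hmem z⟩)
  refine ⟨t, inferInstance, fun z => b z.1, fun z => O z.1, fun z => hO z.1, ?_⟩
  rw [← (isAffineOpen_top Z).iSup_basicOpen_eq_self_iff]
  refine le_antisymm le_top fun z _ => ?_
  obtain ⟨w, hw, hzw⟩ := Set.mem_iUnion₂.1 (ht (Set.mem_univ z))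
  exact Opens.mem_iSup.2 ⟨⟨b w, ⟨⟨w, hw⟩, rfl⟩⟩, hzw⟩

/-- Functions lift along a surjective closed immersion from an affine scheme with nilpotent ideal. -/
theorem exists_lift_function (hnil : ∀ U : X.affineOpens, IsNilpotent (i.ker.ideal U))
    (f₀ : Γ(Z, ⊤)) : ∃ f : Γ(X, ⊤), i.app ⊤ f = f₀ := by
  classical
  obtain ⟨ι, hfin, b, O, hO, hspan⟩ := exists_cover i
  obtain ⟨c, hc⟩ := Ideal.mem_span_range_iff_exists_fun.1 (hspan ▸ Submodule.mem_top : (1 : Γ(Z, ⊤)) ∈ _)
  have hlift : ∀ (j : ι) (a : Γ(Z, ⊤)), ∃ at' : Γ(X, O j), i.app (O j : X.Opens) at' = resHom le_top a :=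
    fun j a => i.app_surjective _ (O j).2 _
  choose β hβ using fun j l => hlift j (b l)
  choose γ hγ using fun j l => hlift j (c l)
  choose s hs using fun j => hlift j f₀
  have hbasEq : ∀ j l, X.basicOpen (β j l) = (O j : X.Opens) ⊓ O l := fun j l => preimage_injective i <| by
    rw [Scheme.preimage_basicOpen, hβ]
    show Z.basicOpen (Z.presheaf.map (homOfLE le_top).op (b l)) = _
    rw [Scheme.basicOpen_res]
    show _ = i ⁻¹ᵁ (O j : X.Opens) ⊓ i ⁻¹ᵁ (O l : X.Opens)
    rw [hO l]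
  let W : ι → ι → X.affineOpens := fun j l =>
    ⟨(O j : X.Opens) ⊓ O l, (hbasEq j l) ▸ (O j).2.basicOpen (β j l)⟩
  have hker : ∀ (j l : ι) (aj : Γ(X, O j)) (al : Γ(X, O l)) (a : Γ(Z, ⊤)),
      i.app (O j : X.Opens) aj = resHom le_top a → i.app (O l : X.Opens) al = resHom le_top a →
      resHom (V := W j l) inf_le_left aj - resHom (V := W j l) inf_le_right al ∈
        i.ker.ideal (W j l) := by
    intro j l aj al a h1 h2
    rw [Scheme.Hom.ker_apply, RingHom.mem_ker, map_sub, app_resHom, app_resHom, h1, h2,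
      resHom_resHom, resHom_resHom, sub_self]
  have hone : ∀ j, ∑ l, γ j l * β j l - 1 ∈ i.ker.ideal (O j) := fun j => by
    rw [Scheme.Hom.ker_apply, RingHom.mem_ker, map_sub, map_sum, map_one]
    simp only [map_mul, hγ, hβ]
    rw [← (resHom (le_top (a := i ⁻¹ᵁ (O j : X.Opens)))).map_one, ← hc, map_sum, sub_eq_zero]
    simp only [smul_eq_mul, map_mul]
  have hcover : ⨆ j, (O j : X.Opens) = ⊤ := by
    refine top_le_iff.1 fun x _ => ?_
    obtain ⟨z, rfl⟩ := (inferInstance : Surjective i).surj x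
    have h1 := (isAffineOpen_top Z).iSup_basicOpen_eq_self_iff.2 hspan
    obtain ⟨⟨-, l, rfl⟩, hl⟩ := Opens.mem_iSup.1 (h1.ge (trivial : z ∈ (⊤ : Z.Opens)))
    exact Opens.mem_iSup.2 ⟨l, show z ∈ i ⁻¹ᵁ (O l : X.Opens) from (hO l).symm ▸ hl⟩
  obtain ⟨f, hf⟩ := exists_global_mod i.ker O W (fun _ _ => rfl) β γ (fun j l => (hbasEq j l).symm)
    (fun _ _ => inf_le_left) (fun _ _ => inf_le_right)
    (fun j l m => hker j l _ _ _ (hβ j m) (hβ l m))
    (fun j l m => hker j l _ _ _ (hγ j m) (hγ l m)) hone hcover (fun j l => hnil (W j l)) s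
    (fun j l => hker j l _ _ _ (hs j) (hs l))
  refine ⟨f, ?_⟩
  have hle : (⊤ : Z.Opens) ≤ ⨆ j, i ⁻¹ᵁ (O j : X.Opens) := fun z _ => by
    obtain ⟨j, hj⟩ := Opens.mem_iSup.1 (hcover.ge (trivial : i z ∈ (⊤ : X.Opens)))
    exact Opens.mem_iSup.2 ⟨j, hj⟩
  refine Z.sheaf.eq_of_locally_eq' (fun j => i ⁻¹ᵁ (O j : X.Opens)) ⊤ (fun j => homOfLE le_top) hle _ _
    fun j => ?_
  have h1 := hf j
  rw [Scheme.Hom.ker_apply, RingHom.mem_ker, map_sub, sub_eq_zero, app_resHom, hs] at h1
  exact h1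

/-- If a surjective closed subscheme with nilpotent ideal is affine, so is the scheme. -/
theorem isAffine_of_nilpotent (hnil : ∀ U : X.affineOpens, IsNilpotent (i.ker.ideal U)) : IsAffine X := by
  classical
  obtain ⟨ι, hfin, b, O, hO, hspan⟩ := exists_cover i
  obtain ⟨c, hc⟩ := Ideal.mem_span_range_iff_exists_fun.1 (hspan ▸ Submodule.mem_top : (1 : Γ(Z, ⊤)) ∈ _)
  choose f hf using fun l => exists_lift_function i hnil (b l)
  choose g hg using fun l => exists_lift_function i hnil (c l)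
  refine isAffine_of_isAffineOpen_basicOpen (Set.range f) ?_ ?_
  · have hu : IsUnit (∑ l, g l * f l) := by
      have htop : X.basicOpen (∑ l, g l * f l) = ⊤ := preimage_injective i <| by
        rw [Scheme.preimage_basicOpen, map_sum]
        simp only [map_mul, hf, hg]
        exact Scheme.basicOpen_of_isUnit _ (hc.symm ▸ isUnit_one)
      exact X.toRingedSpace.isUnit_of_isUnit_germ ⊤ _ fun x hx =>
        (X.mem_basicOpen _ x hx).1 (htop.ge hx)
    exact Ideal.eq_top_of_isUnit_mem _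
      (Submodule.sum_mem _ fun l _ => Ideal.mul_mem_left _ _ (Ideal.subset_span ⟨l, rfl⟩)) hu
  · rintro _ ⟨l, rfl⟩
    have : X.basicOpen (f l) = (O l : X.Opens) := preimage_injective i <| by
      rw [Scheme.preimage_basicOpen, hf, hO]
    rw [this]
    exact (O l).2

omit [IsAffine Z] in
/-- On a locally Noetherian scheme the ideal of a surjective closed subscheme is nilpotent. -/
theorem isNilpotent_ker [IsLocallyNoetherian X] (U : X.affineOpens) : IsNilpotent (i.ker.ideal U) := by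
  have : IsNoetherianRing Γ(X, U) := IsLocallyNoetherian.component_noetherian U
  have hle : i.ker.ideal U ≤ nilradical Γ(X, U) := fun a ha => by
    rw [Scheme.Hom.ker_apply, RingHom.mem_ker] at ha
    have hbot : X.basicOpen a = ⊥ := preimage_injective i <| by
      rw [Scheme.preimage_basicOpen]
      show Z.basicOpen ((i.app (U : X.Opens)).hom a) = _
      rw [ha, Scheme.basicOpen_zero]
      rfl
    have h2 : PrimeSpectrum.basicOpen a = ⊥ := by
      rw [← U.2.fromSpec_preimage_basicOpen, hbot]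
      rfl
    exact (PrimeSpectrum.basicOpen_eq_bot_iff _).1 h2
  obtain ⟨n, hn⟩ := IsNoetherianRing.isNilpotent_nilradical Γ(X, U)
  exact ⟨n, le_bot_iff.1 ((Ideal.pow_right_mono hle n).trans hn.le)⟩

include i in
theorem isAffine_of_surjective_closedImmersion [IsLocallyNoetherian X] : IsAffine X :=
  isAffine_of_nilpotent i (isNilpotent_ker i)

end Groth.Agent.Curves2
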