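import Groth.Agent.FF30.Riemann

/-! Functions with prescribed poles and high vanishing at prescribed places (Riemann's inequality). -/

open FunFld WithZero
open scoped Multiplicative

namespace Groth.Agent.Curves2

open Groth.Agent.FF30

variable {k K : Type*} [Field k] [Field K] [Algebra k K]

theorem exists_single_pole (h : FF k K) (P : Place k K) (T : Finset (Place k K)) (hP : P ∉ T)
    (n : Place k K → ℕ) :
    ∃ x : K, (∀ R, R ≠ P → R.1 x ≤ 1) ∧ 1 < P.1 x ∧ ∀ Q ∈ T, Q.1 x ≤ exp (-(n Q : ℤ)) := by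
  classical
  let D₀ : Divisor k K := ∑ Q ∈ T, Finsupp.single Q (-(n Q : ℤ))
  have hD₀ : ∀ R, D₀ R = if R ∈ T then -(n R : ℤ) else 0 := fun R => by
    simp only [D₀, Finsupp.finsetSum_apply, Finsupp.single_apply]
    exact Finset.sum_ite_eq' T R (fun Q => -(n Q : ℤ))
  obtain ⟨m, hm⟩ : ∃ m : ℕ, (ell D₀ : ℤ) < D₀.deg + m * P.deg + 1 - genus k K := by
    refine ⟨((ell D₀ : ℤ) - D₀.deg + genus k K).toNat + 1, ?_⟩
    have h1 := h.deg_pos P
    have h2 : ((ell D₀ : ℤ) - D₀.deg + genus k K) ≤ (((ell D₀ : ℤ) - D₀.deg + genus k K).toNat : ℤ) :=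
      Int.self_le_toNat _
    push_cast
    nlinarith
  let D : Divisor k K := D₀ + Finsupp.single P (m : ℤ)
  have hdelta := h.delta_le_genus D
  rw [delta, show D.deg = D₀.deg + Divisor.deg (Finsupp.single P (m : ℤ)) from deg_add _ _, deg_single] at hdelta
  obtain ⟨x, hx, hx0⟩ : ∃ x ∈ L D, x ∉ L D₀ := by
    by_contra hc
    push Not at hc
    have hle : L D₀ ≤ L D := fun x hx R => (hx R).trans (exp_le_exp.2 (by
      simp only [D, Finsupp.add_apply, Finsupp.single_apply]
      split <;> omega))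
    have : L D = L D₀ := le_antisymm hc hle
    rw [ell, this, ← ell] at hdelta
    omega
  have hR : ∀ R, R ≠ P → R.1 x ≤ exp (D₀ R) := fun R hne => by
    have := hx R
    simpa [D, Finsupp.single_apply, Ne.symm hne] using this
  refine ⟨x, fun R hne => (hR R hne).trans ?_, ?_, fun Q hQ => ?_⟩
  · rw [hD₀, ← exp_zero, exp_le_exp]; split <;> omega
  · by_contra hc
    refine hx0 fun R => ?_
    by_cases hne : R = P
    · subst hne
      rw [hD₀, if_neg hP, exp_zero]
      exact le_of_not_gt hc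
    · exact hR R hne
  · have := hR Q fun e => hP (e ▸ hQ)
    rwa [hD₀, if_pos hQ] at this

/-- Poles exactly at `F`, and vanishing to given orders on `T`. -/
theorem exists_poles (h : FF k K) (F T : Finset (Place k K)) (hFT : Disjoint F T) (n : Place k K → ℕ) :
    ∃ x : K, (∀ R, R ∉ F → R.1 x ≤ 1) ∧ (∀ P ∈ F, 1 < P.1 x) ∧ ∀ Q ∈ T, Q.1 x ≤ exp (-(n Q : ℤ)) := by
  classical
  induction F using Finset.induction_on with
  | empty => exact ⟨0, fun R _ => by simp, by simp, fun Q _ => by simp⟩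
  | insert P F hP ih =>
    rw [Finset.disjoint_insert_left] at hFT
    obtain ⟨x, hx1, hx2, hx3⟩ := ih hFT.2
    obtain ⟨y, hy1, hy2, hy3⟩ := exists_single_pole h P T hFT.1 n
    refine ⟨x + y, fun R hR => ?_, fun Q hQ => ?_, fun Q hQ => ?_⟩
    · rw [Finset.mem_insert, not_or] at hR
      exact (R.1.map_add x y).trans (max_le (hx1 R hR.2) (hy1 R hR.1))
    · rcases Finset.mem_insert.1 hQ with rfl | hQ
      · rw [Valuation.map_add_eq_of_lt_right _ ((hx1 Q hP).trans_lt hy2)]; exact hy2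
      · rw [Valuation.map_add_eq_of_lt_left _ ((hy1 Q fun e => hP (e ▸ hQ)).trans_lt (hx2 Q hQ))]
        exact hx2 Q hQ
    · exact (Q.1.map_add x y).trans (max_le (hx3 Q hQ) (hy3 Q hQ))

end Groth.Agent.Curves2
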