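import Groth.Agent.Cyc90.CurveDeg
import Groth.Agent.Curves2.PlaceSections
import Groth.Agent.Curves2.CurveMaps

/-! Rational functions with prescribed poles and zeros on a proper normal curve; sections from stalks. -/

set_option autoImplicit false

universe u

open CategoryTheory AlgebraicGeometry TopologicalSpace IsLocalRing Opposite
open Groth.Agent.Cyc90

namespace Groth.Agent.Curves2

variable {K : Type u} [Field K] {Y : Scheme.{u}} [IsIntegral Y]

/-- `z` is regular at `y`. -/
def RegAt (y : Y) (z : Y.functionField) : Prop :=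
  ∃ a : Y.presheaf.stalk y, algebraMap (Y.presheaf.stalk y) Y.functionField a = z

theorem regAt_genericPoint (z : Y.functionField) : RegAt (genericPoint Y) z := by
  refine ⟨z, ?_⟩
  show Y.presheaf.stalkSpecializes _ z = z
  rw [TopCat.Presheaf.stalkSpecializes_refl]
  rfl

theorem algebraMap_germ {V : Y.Opens} (y : Y) (hy : y ∈ V) (s : Γ(Y, V)) :
    algebraMap (Y.presheaf.stalk y) Y.functionField (Y.presheaf.germ V y hy s) =
      Y.presheaf.germ V (genericPoint Y) ((genericPoint_specializes y).mem_open V.2 hy) s := by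
  show Y.presheaf.stalkSpecializes _ _ = _
  rw [TopCat.Presheaf.germ_stalkSpecializes_apply]

/-- A rational function regular on all of `V` is a section. -/
theorem exists_section_of_regAt (V : Y.Opens) (hgV : genericPoint Y ∈ V) (z : Y.functionField)
    (h : ∀ y ∈ V, RegAt y z) : ∃ s : Γ(Y, V), Y.presheaf.germ V (genericPoint Y) hgV s = z := by
  have hloc : ∀ y : V, ∃ (U : Y.Opens) (hyU : y.1 ∈ U) (hUV : U ≤ V) (s : Γ(Y, U)),
      Y.presheaf.germ U (genericPoint Y) ((genericPoint_specializes y.1).mem_open U.2 hyU) s = z := by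
    intro y
    obtain ⟨a, ha⟩ := h y.1 y.2
    obtain ⟨U, hU, s, rfl⟩ := TopCat.Presheaf.exists_germ_eq Y.presheaf a
    refine ⟨U ⊓ V, ⟨hU, y.2⟩, inf_le_right, Y.presheaf.map (homOfLE inf_le_left).op s, ?_⟩
    rw [TopCat.Presheaf.germ_res_apply, ← algebraMap_germ y.1 hU, ha]
  choose U hyU hUV s hs using hloc
  have hcover : V ≤ iSup U := fun y hy => Opens.mem_iSup.mpr ⟨⟨y, hy⟩, hyU ⟨y, hy⟩⟩
  have hcompat : TopCat.Presheaf.IsCompatible Y.sheaf.obj U s := by
    intro a b
    have hne : (genericPoint Y) ∈ U a ⊓ U b :=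
      ⟨(genericPoint_specializes a.1).mem_open (U a).2 (hyU a), (genericPoint_specializes b.1).mem_open (U b).2 (hyU b)⟩
    refine germ_injective_of_isIntegral Y (genericPoint Y) hne ?_
    show Y.presheaf.germ _ _ hne (Y.presheaf.map (homOfLE (inf_le_left : U a ⊓ U b ≤ U a)).op (s a)) =
      Y.presheaf.germ _ _ hne (Y.presheaf.map (homOfLE (inf_le_right : U a ⊓ U b ≤ U b)).op (s b))
    rw [TopCat.Presheaf.germ_res_apply, TopCat.Presheaf.germ_res_apply, hs, hs]
  obtain ⟨(t : Γ(Y, V)), ht, -⟩ := Y.sheaf.existsUnique_gluing' U V (fun y => homOfLE (hUV y)) hcover s hcompat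
  let y0 : V := ⟨_, hgV⟩
  refine ⟨t, ?_⟩
  rw [← hs y0, ← show Y.presheaf.map (homOfLE (hUV y0)).op t = s y0 from ht y0, TopCat.Presheaf.germ_res_apply]

variable (c : Y ⟶ Spec (CommRingCat.of K)) [IsProper c]

theorem exists_place_at (hdim : topologicalKrullDim Y = 1)
    (hval : ∀ y : Y, ∃ _ : IsDomain (Y.presheaf.stalk y), ValuationRing (Y.presheaf.stalk y))
    (y : Y) (hy : IsClosed ({y} : Set Y)) :
    letI := (kStalk c (genericPoint Y)).toAlgebra
    ∃ P : FunFld.Place K Y.functionField, (∀ z, P.1 z ≤ 1 ↔ RegAt y z) ∧ Centre P (Y.presheaf.stalk y) := by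
  letI := (kStalk c (genericPoint Y)).toAlgebra
  obtain ⟨_, _⟩ := hval y
  let R := Y.presheaf.stalk y
  let V : ValuationSubring Y.functionField :=
    { (algebraMap R Y.functionField).range with
      mem_or_inv_mem' := fun z => (ValuationRing.isInteger_or_isInteger R z).imp id id }
  have hmem : ∀ z, z ∈ V ↔ RegAt y z := fun z => Iff.rfl
  have hk : ∀ r : K, algebraMap K Y.functionField r ∈ V := fun r =>
    ⟨kStalk c y r, RingHom.congr_fun (kStalk_specializes c ((genericPoint_spec Y).specializes (y := y) trivial)) r⟩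
  have hV : V ≠ ⊤ := by
    intro h
    have hdim' : 0 < topologicalKrullDim Y := by rw [hdim]; exact zero_lt_one
    have hF : IsField R := by
      refine ⟨⟨0, 1, zero_ne_one⟩, mul_comm, fun {a} ha => ?_⟩
      obtain ⟨b, hb⟩ : (algebraMap R Y.functionField a)⁻¹ ∈ V := h ▸ ValuationSubring.mem_top _
      refine ⟨b, IsFractionRing.injective R Y.functionField ?_⟩
      rw [map_mul, hb, map_one, mul_inv_cancel₀]
      exact fun h0 => ha (IsFractionRing.injective R Y.functionField (h0.trans (map_zero _).symm))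
    exact maximalIdeal_stalk_ne_bot hdim' y hy (IsLocalRing.isField_iff_maximalIdeal_eq.mp hF)
  obtain ⟨P, hP⟩ := (ff_functionField c hdim).exists_place V hk hV
  have hiff : ∀ z, P.1 z ≤ 1 ↔ RegAt y z := fun z => by rw [← hmem, ← hP]; rfl
  refine ⟨P, hiff, fun a => ⟨(hiff _).2 ⟨a, rfl⟩, fun ha => ?_⟩⟩
  refine lt_of_le_of_ne ((hiff _).2 ⟨a, rfl⟩) fun h1 => ?_
  obtain ⟨b, hb⟩ := (hiff (algebraMap R Y.functionField a)⁻¹).1 (by rw [map_inv₀, h1, inv_one])
  refine (IsLocalRing.mem_maximalIdeal a).1 ha (IsUnit.of_mul_eq_one b (IsFractionRing.injective R Y.functionField ?_))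
  rw [map_mul, hb, map_one, mul_inv_cancel₀]
  intro h0
  rw [h0, map_zero] at h1
  exact zero_ne_one h1

include c in
/-- Poles exactly at `F`; quotients by the `e i` regular on `T`. -/
theorem exists_fun_poles (hdim : topologicalKrullDim Y = 1)
    (hval : ∀ y : Y, ∃ _ : IsDomain (Y.presheaf.stalk y), ValuationRing (Y.presheaf.stalk y))
    (F T : Finset Y) (hF : ∀ y ∈ F, IsClosed ({y} : Set Y)) (hT : ∀ y ∈ T, IsClosed ({y} : Set Y))
    (hFT : Disjoint F T) {ι : Type*} [Fintype ι] (e : ι → Y.functionField) :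
    ∃ z : Y.functionField, (∀ y, y ∉ F → RegAt y z) ∧ (∀ y ∈ F, ¬ RegAt y z) ∧
      ∀ y ∈ T, ∀ i, RegAt y (z * (e i)⁻¹) := by
  classical
  letI := (kStalk c (genericPoint Y)).toAlgebra
  choose p hp hc using exists_place_at c hdim hval
  have hinj : ∀ y y' (hy : IsClosed ({y} : Set Y)) (hy' : IsClosed ({y'} : Set Y)), p y hy = p y' hy' → y = y' :=
    fun y y' hy hy' e => (existsUnique_centre c hdim (p y hy)).unique ⟨hy, hc y hy⟩ ⟨hy', e ▸ hc y' hy'⟩
  let FP := F.attach.image fun y => p y.1 (hF y.1 y.2)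
  let TP := T.attach.image fun y => p y.1 (hT y.1 y.2)
  have hdisj : Disjoint FP TP := by
    rw [Finset.disjoint_left]
    intro P hP hP'
    obtain ⟨a, -, rfl⟩ := Finset.mem_image.1 hP
    obtain ⟨b, -, hb⟩ := Finset.mem_image.1 hP'
    exact Finset.disjoint_left.1 hFT a.2 (hinj _ _ _ _ hb ▸ b.2)
  obtain ⟨z, h1, h2, h3⟩ := exists_poles (ff_functionField c hdim) FP TP hdisj
    (fun P => ∑ i, (P.ord (e i)).natAbs)
  refine ⟨z, fun y hy => ?_, fun y hy hr => ?_, fun y hy i => ?_⟩
  · by_cases hyc : IsClosed ({y} : Set Y)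
    · refine (hp y hyc z).1 (h1 _ fun hmem => ?_)
      obtain ⟨a, -, ha⟩ := Finset.mem_image.1 hmem
      exact hy (hinj _ _ _ _ ha ▸ a.2)
    · have : y = genericPoint Y := by
        by_contra hne
        exact hyc (Crv77.isClosed_singleton hdim.le hne)
      subst this
      exact regAt_genericPoint z
  · have := h2 _ (Finset.mem_image.2 ⟨⟨y, hy⟩, Finset.mem_attach _ _, rfl⟩)
    exact this.not_ge ((hp y (hF y hy) z).2 hr)
  · by_cases he : e i = 0
    · exact ⟨0, by rw [he, inv_zero, mul_zero, map_zero]⟩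
    set P := p y (hT y hy)
    refine (hp y (hT y hy) _).1 ?_
    have h := h3 P (Finset.mem_image.2 ⟨⟨y, hy⟩, Finset.mem_attach _ _, rfl⟩)
    rw [map_mul, map_inv₀, FF30.val_eq P he, ← WithZero.exp_neg, neg_neg]
    refine (mul_le_mul' h le_rfl).trans ?_
    rw [← WithZero.exp_add, ← WithZero.exp_zero, WithZero.exp_le_exp]
    have h4 : (P.ord (e i)).natAbs ≤ ∑ j, (P.ord (e j)).natAbs :=
      Finset.single_le_sum (f := fun j => (P.ord (e j)).natAbs) (fun j _ => Nat.zero_le _) (Finset.mem_univ i)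
    omega

end Groth.Agent.Curves2
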