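import Groth.Agent.Curves2.AffineNil
import Groth.Agent.SchBasics.Reduced
import Mathlib.AlgebraicGeometry.IdealSheaf.Subscheme
import Mathlib.AlgebraicGeometry.Morphisms.ClosedImmersion
import Mathlib.AlgebraicGeometry.Morphisms.UnderlyingMap

/-! Schemes covered by finitely many affine closed subschemes are affine. -/

set_option autoImplicit false

universe u

open CategoryTheory CategoryTheory.Limits AlgebraicGeometry Opposite TopologicalSpace

noncomputable section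

set_option backward.isDefEq.respectTransparency false

namespace Groth.Agent.Curves2

/-- Membership in the radical of an ideal, read off from basic opens of an affine scheme. -/
theorem mem_radical_of_basicOpen_le {Y : Scheme.{u}} [IsAffine Y] (S : Ideal Γ(Y, ⊤)) (b : Γ(Y, ⊤))
    (h : ∀ y ∈ Y.basicOpen b, ∃ s ∈ S, y ∈ Y.basicOpen s) : b ∈ S.radical := by
  rw [Ideal.radical_eq_sInf, Ideal.mem_sInf]
  rintro q ⟨hSq, hq⟩
  by_contra hb
  let p : PrimeSpectrum Γ(Y, ⊤) := ⟨q, hq⟩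
  let y : Y := (isAffineOpen_top Y).fromSpec p
  have key : ∀ s : Γ(Y, ⊤), y ∈ Y.basicOpen s ↔ s ∉ q := fun s => by
    show p ∈ (isAffineOpen_top Y).fromSpec ⁻¹ᵁ Y.basicOpen s ↔ _
    rw [(isAffineOpen_top Y).fromSpec_preimage_basicOpen]
    rfl
  obtain ⟨s, hs, hys⟩ := h y ((key b).2 hb)
  exact (key s).1 hys (hSq hs)

/-- The ideal of global functions vanishing on a closed set. -/
def vanishOn (Y : Scheme.{u}) (T : Set Y) : Ideal Γ(Y, ⊤) where
  carrier := {s | ∀ y ∈ T, y ∉ Y.basicOpen s}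
  add_mem' {a b} ha hb y hy h := by
    have h' : IsUnit (Y.presheaf.germ ⊤ y trivial a + Y.presheaf.germ ⊤ y trivial b) := by
      rw [← map_add]; exact (Y.mem_basicOpen (U := ⊤) _ y trivial).1 h
    rcases IsLocalRing.isUnit_or_isUnit_of_isUnit_add h' with h1 | h1
    · exact ha y hy ((Y.mem_basicOpen (U := ⊤) _ y trivial).2 h1)
    · exact hb y hy ((Y.mem_basicOpen (U := ⊤) _ y trivial).2 h1)
  zero_mem' y _ h := by simp at h
  smul_mem' c a ha y hy h := by
    rw [smul_eq_mul, Scheme.basicOpen_mul] at h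
    exact ha y hy h.2

theorem exists_mem_vanishOn (Y : Scheme.{u}) [IsAffine Y] {T : Set Y} (hT : IsClosed T) {y : Y}
    (hy : y ∉ T) : ∃ s ∈ vanishOn Y T, y ∈ Y.basicOpen s := by
  obtain ⟨f, hf, hyf⟩ := (isAffineOpen_top Y).exists_basicOpen_le
    (V := ⟨Tᶜ, hT.isOpen_compl⟩) (⟨y, hy⟩) trivial
  exact ⟨f, fun z hz h => hf h hz, hyf⟩

section Two

variable {X Y₁ Y₂ : Scheme.{u}} (j₁ : Y₁ ⟶ X) (j₂ : Y₂ ⟶ X) [IsClosedImmersion j₁]
  [IsClosedImmersion j₂] (hcov : Set.range j₁ ∪ Set.range j₂ = Set.univ)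

/-- The scheme-theoretic intersection, packaged as data. -/
structure Inter where
  P : Scheme.{u}
  g : P ⟶ X
  q₁ : P ⟶ Y₁
  q₂ : P ⟶ Y₂
  comp₁ : q₁ ≫ j₁ = g
  comp₂ : q₂ ≫ j₂ = g
  closed₁ : IsClosedImmersion q₁
  closed₂ : IsClosedImmersion q₂
  ker_app : ∀ U : X.affineOpens, RingHom.ker (g.app U).hom = (j₁.ker ⊔ j₂.ker).ideal U

attribute [instance] Inter.closed₁ Inter.closed₂

theorem exists_inter : Nonempty (Inter j₁ j₂) := by
  let I := j₁.ker ⊔ j₂.ker
  let a := IsClosedImmersion.lift j₁ I.subschemeι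
    ((le_sup_left).trans_eq (Scheme.IdealSheafData.ker_subschemeι I).symm)
  let b := IsClosedImmersion.lift j₂ I.subschemeι
    ((le_sup_right).trans_eq (Scheme.IdealSheafData.ker_subschemeι I).symm)
  have ha : a ≫ j₁ = I.subschemeι := IsClosedImmersion.lift_fac _ _ _
  have hb : b ≫ j₂ = I.subschemeι := IsClosedImmersion.lift_fac _ _ _
  have : IsClosedImmersion (a ≫ j₁) := by rw [ha]; infer_instance
  have : IsClosedImmersion (b ≫ j₂) := by rw [hb]; infer_instance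
  exact ⟨⟨I.subscheme, I.subschemeι, a, b, ha, hb, IsClosedImmersion.of_comp a j₁,
    IsClosedImmersion.of_comp b j₂, I.ker_subschemeι_app⟩⟩

omit [IsClosedImmersion j₁] in
theorem app_of_eq {P : Scheme.{u}} {g : P ⟶ X} {a : P ⟶ Y₁} (h : a ≫ j₁ = g) {U : X.Opens}
    (t : Γ(X, U)) (hle : g ⁻¹ᵁ U ≤ a ⁻¹ᵁ (j₁ ⁻¹ᵁ U)) :
    g.app U t = resHom hle (a.app (j₁ ⁻¹ᵁ U) (j₁.app U t)) := by
  subst h
  show (j₁.app U ≫ a.app (j₁ ⁻¹ᵁ U)).hom t = _
  rw [show resHom hle = RingHom.id Γ(P, a ⁻¹ᵁ j₁ ⁻¹ᵁ U) from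
    congrArg CommRingCat.Hom.hom (P.presheaf.map_id _)]
  rfl

omit [IsClosedImmersion j₁] [IsClosedImmersion j₂] in
include hcov in
theorem eq_zero_of_app_eq_zero [IsReduced X] {W : X.Opens} (d : Γ(X, W)) (h₁ : j₁.app W d = 0)
    (h₂ : j₂.app W d = 0) : d = 0 := by
  rw [← basicOpen_eq_bot_iff]
  refine bot_unique fun x hx => ?_
  rcases hcov.ge (Set.mem_univ x) with ⟨y, rfl⟩ | ⟨y, rfl⟩
  · have : y ∈ j₁ ⁻¹ᵁ X.basicOpen d := hx
    rw [Scheme.preimage_basicOpen, h₁, Scheme.basicOpen_zero] at this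
    exact this.elim
  · have : y ∈ j₂ ⁻¹ᵁ X.basicOpen d := hx
    rw [Scheme.preimage_basicOpen, h₂, Scheme.basicOpen_zero] at this
    exact this.elim

variable (D : Inter j₁ j₂)

include hcov in
/-- Compatible functions on two closed subschemes covering a reduced scheme glue. -/
theorem exists_glue_closed [IsReduced X] (a₁ : Γ(Y₁, ⊤)) (a₂ : Γ(Y₂, ⊤))
    (h : D.q₁.app ⊤ a₁ = D.q₂.app ⊤ a₂) :
    ∃ f : Γ(X, ⊤), j₁.app ⊤ f = a₁ ∧ j₂.app ⊤ f = a₂ := by
  have key : ∀ U : X.affineOpens, ∃ t : Γ(X, U), j₁.app (U : X.Opens) t = resHom le_top a₁ ∧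
      j₂.app (U : X.Opens) t = resHom le_top a₂ := by
    intro U
    obtain ⟨t₁, ht₁⟩ := j₁.app_surjective _ U.2 (resHom le_top a₁)
    obtain ⟨t₂, ht₂⟩ := j₂.app_surjective _ U.2 (resHom le_top a₂)
    have e1 : D.g.app (U : X.Opens) t₁ = D.g.app (U : X.Opens) t₂ := by
      rw [app_of_eq j₁ D.comp₁ t₁ (le_of_eq (by rw [← D.comp₁]; rfl)),
        app_of_eq j₂ D.comp₂ t₂ (le_of_eq (by rw [← D.comp₂]; rfl)), ht₁, ht₂,
        app_resHom, app_resHom, resHom_resHom, resHom_resHom, h]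
      rfl
    have h3 : t₁ - t₂ ∈ (j₁.ker ⊔ j₂.ker).ideal U := by
      rw [← D.ker_app, RingHom.mem_ker, map_sub]
      exact sub_eq_zero.2 e1
    rw [Scheme.IdealSheafData.ideal_sup, Pi.sup_apply, Submodule.mem_sup] at h3
    obtain ⟨u₁, hu₁, u₂, hu₂, he⟩ := h3
    rw [Scheme.Hom.ker_apply, RingHom.mem_ker] at hu₁ hu₂
    refine ⟨t₁ - u₁, ?_, ?_⟩
    · rw [map_sub, ht₁]; exact (congrArg (_ - ·) hu₁).trans (sub_zero _)
    · rw [show t₁ - u₁ = t₂ + u₂ by linear_combination -he, map_add, ht₂]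
      exact (congrArg (_ + ·) hu₂).trans (add_zero _)
  choose t ht₁ ht₂ using key
  have hcompat : TopCat.Presheaf.IsCompatible X.sheaf.1 (fun U : X.affineOpens => (U : X.Opens)) t := by
    intro U V
    have : resHom (inf_le_left : (U : X.Opens) ⊓ V ≤ U) (t U) -
        resHom (inf_le_right : (U : X.Opens) ⊓ V ≤ V) (t V) = 0 := by
      refine eq_zero_of_app_eq_zero j₁ j₂ hcov _ ?_ ?_
      · rw [map_sub, app_resHom, app_resHom, ht₁, ht₁, resHom_resHom, resHom_resHom, sub_self]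
      · rw [map_sub, app_resHom, app_resHom, ht₂, ht₂, resHom_resHom, resHom_resHom, sub_self]
    exact sub_eq_zero.1 this
  have hX : (⊤ : X.Opens) ≤ ⨆ U : X.affineOpens, (U : X.Opens) := (iSup_affineOpens_eq_top X).ge
  obtain ⟨f, hf, -⟩ := X.sheaf.existsUnique_gluing' (fun U : X.affineOpens => (U : X.Opens)) ⊤
    (fun U => homOfLE le_top) hX t hcompat
  refine ⟨f, ?_, ?_⟩
  · refine Y₁.sheaf.eq_of_locally_eq' (fun U : X.affineOpens => j₁ ⁻¹ᵁ (U : X.Opens)) ⊤
      (fun U => homOfLE le_top) ?_ _ _ fun U => ?_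
    · rw [← Scheme.Hom.preimage_iSup]; exact fun y _ => hX trivial
    · show resHom le_top (j₁.app ⊤ f) = resHom le_top a₁
      exact (app_resHom j₁ le_top f).symm.trans
        ((congrArg (j₁.app (U : X.Opens)) (hf U)).trans (ht₁ U))
  · refine Y₂.sheaf.eq_of_locally_eq' (fun U : X.affineOpens => j₂ ⁻¹ᵁ (U : X.Opens)) ⊤
      (fun U => homOfLE le_top) ?_ _ _ fun U => ?_
    · rw [← Scheme.Hom.preimage_iSup]; exact fun y _ => hX trivial
    · show resHom le_top (j₂.app ⊤ f) = resHom le_top a₂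
      exact (app_resHom j₂ le_top f).symm.trans
        ((congrArg (j₂.app (U : X.Opens)) (hf U)).trans (ht₂ U))

include hcov in
theorem exists_extend [IsReduced X] [IsAffine Y₂] (a₁ : Γ(Y₁, ⊤)) :
    ∃ f : Γ(X, ⊤), j₁.app ⊤ f = a₁ := by
  obtain ⟨D⟩ := exists_inter j₁ j₂
  obtain ⟨a₂, ha₂⟩ := D.q₂.app_surjective ⊤ (isAffineOpen_top Y₂)
    (D.q₁.app ⊤ a₁)
  obtain ⟨f, hf, -⟩ := exists_glue_closed j₁ j₂ hcov D a₁ a₂ ha₂.symm
  exact ⟨f, hf⟩

include hcov in
theorem exists_nhd_fun [IsReduced X] [IsAffine Y₁] [IsAffine Y₂] {T : Set X} (hT : IsClosed T) (y : Y₁)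
    (hy : j₁ y ∉ T) : ∃ f : Γ(X, ⊤), j₁ y ∈ X.basicOpen f ∧ ∀ x ∈ T, x ∉ X.basicOpen f := by
  let T₁ : Set Y₁ := j₁ ⁻¹' T
  let T₂ : Set Y₂ := j₂ ⁻¹' T
  obtain ⟨a, ha, hya⟩ := exists_mem_vanishOn Y₁ (T := T₁) (hT.preimage j₁.continuous) hy
  obtain ⟨D⟩ := exists_inter j₁ j₂
  let q₂ := D.q₂
  let q₁ := D.q₁
  obtain ⟨b, hb⟩ := q₂.app_surjective ⊤ (isAffineOpen_top Y₂) (q₁.app ⊤ a)
  let K : Ideal Γ(Y₂, ⊤) := RingHom.ker (q₂.app ⊤).hom
  have hrad : b ∈ (vanishOn Y₂ T₂ ⊔ K).radical := by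
    refine Ideal.radical_le_radical_iff.2 ?_ (mem_radical_of_basicOpen_le
      ((vanishOn Y₂ T₂ ⊔ K).radical) b fun z hz => ?_)
    · exact le_rfl
    by_cases hzr : z ∈ Set.range q₂
    · obtain ⟨w, rfl⟩ := hzr
      have hw : w ∈ q₂ ⁻¹ᵁ Y₂.basicOpen b := hz
      rw [Scheme.preimage_basicOpen, hb] at hw
      have hw' : w ∈ q₁ ⁻¹ᵁ Y₁.basicOpen a := by rw [Scheme.preimage_basicOpen]; exact hw
      have hnT : q₂ w ∉ T₂ := by
        intro hwT
        refine ha (q₁ w) ?_ hw'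
        have e : j₁ (q₁ w) = j₂ (q₂ w) := by
          rw [← Scheme.Hom.comp_apply, ← Scheme.Hom.comp_apply, D.comp₁, D.comp₂]
        show j₁ (q₁ w) ∈ T
        rw [e]; exact hwT
      obtain ⟨s, hs, hys⟩ := exists_mem_vanishOn Y₂ (T := T₂) (hT.preimage j₂.continuous) hnT
      exact ⟨s, Ideal.le_radical (Ideal.mem_sup_left hs), hys⟩
    · obtain ⟨s, hs, hzs⟩ := exists_mem_vanishOn Y₂ q₂.isClosedEmbedding.isClosed_range hzr
      have : IsAffine D.P := isAffine_of_isAffineHom q₂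
      have hnil : IsNilpotent (q₂.app ⊤ s) := by
        refine (PrimeSpectrum.basicOpen_eq_bot_iff _).1 ?_
        rw [← (isAffineOpen_top D.P).fromSpec_preimage_basicOpen]
        have : D.P.basicOpen (q₂.app ⊤ s) = ⊥ := bot_unique fun w hw => by
          rw [← Scheme.preimage_basicOpen] at hw
          exact (hs (q₂ w) ⟨w, rfl⟩ hw).elim
        rw [this]
        rfl
      obtain ⟨n, hn⟩ := hnil
      refine ⟨s, ⟨n, Ideal.mem_sup_right ?_⟩, hzs⟩
      show (q₂.app ⊤).hom (s ^ n) = 0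
      rw [map_pow]; exact hn
  obtain ⟨n, hn⟩ := hrad
  obtain ⟨a₂, ha₂, c, hc, he⟩ := Submodule.mem_sup.1 (Ideal.pow_mem_of_mem _ hn 1 Nat.one_pos)
  rw [pow_one] at he
  have hcompat : q₁.app ⊤ (a ^ n) = q₂.app ⊤ a₂ := by
    have := congrArg (q₂.app ⊤).hom he
    rw [map_add, show (q₂.app ⊤).hom c = 0 from hc, add_zero, map_pow] at this
    rw [map_pow, ← hb]
    exact this.symm
  obtain ⟨f, hf₁, hf₂⟩ := exists_glue_closed j₁ j₂ hcov D (a ^ (n + 1)) (a₂ * b) (by
    show q₁.app ⊤ (a ^ (n + 1)) = q₂.app ⊤ (a₂ * b)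
    rw [pow_succ, map_mul, map_mul, hcompat, hb])
  refine ⟨f, ?_, fun x hx h => ?_⟩
  · show y ∈ j₁ ⁻¹ᵁ X.basicOpen f
    rw [Scheme.preimage_basicOpen, hf₁, Scheme.basicOpen_pow _ _ (Nat.succ_pos n)]
    exact hya
  · rcases hcov.ge (Set.mem_univ x) with ⟨z, rfl⟩ | ⟨z, rfl⟩
    · have hz : z ∈ j₁ ⁻¹ᵁ X.basicOpen f := h
      rw [Scheme.preimage_basicOpen, hf₁, Scheme.basicOpen_pow _ _ (Nat.succ_pos n)] at hz
      exact ha z hx hz
    · have hz : z ∈ j₂ ⁻¹ᵁ X.basicOpen f := h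
      rw [Scheme.preimage_basicOpen, hf₂, Scheme.basicOpen_mul] at hz
      exact ha₂ z hx hz.1

include hcov in
/-- A reduced scheme covered by two affine closed subschemes is affine. -/
theorem isAffine_of_two_closed [IsReduced X] [IsAffine Y₁] [IsAffine Y₂] : IsAffine X := by
  classical
  let G : Set Γ(X, ⊤) := {f | IsAffineOpen (X.basicOpen f)}
  have hcov' : Set.range j₂ ∪ Set.range j₁ = Set.univ := (Set.union_comm _ _).trans hcov
  have hpt : ∀ x : X, ∃ f ∈ G, x ∈ X.basicOpen f := by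
    intro x
    obtain ⟨U, hU, hxU, -⟩ := exists_isAffineOpen_mem_and_subset (U := (⊤ : X.Opens)) (x := x) trivial
    have fin : ∀ f : Γ(X, ⊤), x ∈ X.basicOpen f → (∀ z ∈ (U : Set X)ᶜ, z ∉ X.basicOpen f) →
        ∃ f ∈ G, x ∈ X.basicOpen f := fun f h1 h2 => by
      refine ⟨f, ?_, h1⟩
      have e : X.basicOpen f = X.basicOpen (resHom (le_top (a := U)) f) := by
        show _ = X.basicOpen (X.presheaf.map (homOfLE le_top).op f)
        rw [Scheme.basicOpen_res]
        exact (inf_eq_right.2 fun z hz => by_contra fun hzU => h2 z hzU hz).symm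
      show IsAffineOpen _
      rw [e]
      exact hU.basicOpen _
    rcases hcov.ge (Set.mem_univ x) with ⟨y, rfl⟩ | ⟨y, rfl⟩
    · obtain ⟨f, h1, h2⟩ := exists_nhd_fun j₁ j₂ hcov U.isOpen.isClosed_compl y (not_not_intro hxU)
      exact fin f h1 h2
    · obtain ⟨f, h1, h2⟩ := exists_nhd_fun j₂ j₁ hcov' U.isOpen.isClosed_compl y (not_not_intro hxU)
      exact fin f h1 h2
  have hmap : ∀ {Y : Scheme.{u}} [IsAffine Y] (j : Y ⟶ X),
      Ideal.span ((j.app ⊤).hom '' G) = ⊤ := fun {Y} _ j => by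
    rw [← (isAffineOpen_top Y).iSup_basicOpen_eq_self_iff]
    refine top_le_iff.1 fun y _ => ?_
    obtain ⟨f, hf, hyf⟩ := hpt (j y)
    refine Opens.mem_iSup.2 ⟨⟨_, f, hf, rfl⟩, ?_⟩
    show y ∈ Y.basicOpen (j.app ⊤ f)
    rw [← Scheme.preimage_basicOpen]
    exact hyf
  have hone : ∀ {Y Y' : Scheme.{u}} [IsAffine Y] [IsAffine Y'] (j : Y ⟶ X) (j' : Y' ⟶ X)
      [IsClosedImmersion j] [IsClosedImmersion j'], Set.range j ∪ Set.range j' = Set.univ →
      ∃ g ∈ Ideal.span G, j.app ⊤ g = 1 := fun {Y Y'} _ _ j j' _ _ hc => by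
    have hs : Function.Surjective (j.app ⊤).hom := fun a => exists_extend j j' hc a
    have h1 : (1 : Γ(Y, j ⁻¹ᵁ ⊤)) ∈ Ideal.map (j.app ⊤).hom (Ideal.span G) := by
      rw [Ideal.map_span]
      exact (hmap j).ge Submodule.mem_top
    obtain ⟨g, hg, he⟩ := (Ideal.mem_map_iff_of_surjective _ hs).1 h1
    exact ⟨g, hg, he⟩
  obtain ⟨g, hg, hg1⟩ := hone j₁ j₂ hcov
  obtain ⟨g', hg', hg'1⟩ := hone j₂ j₁ hcov'
  refine isAffine_of_isAffineOpen_basicOpen G ?_ fun f hf => hf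
  rw [Ideal.eq_top_iff_one]
  have hz : (1 - g) * (1 - g') = 0 := eq_zero_of_app_eq_zero j₁ j₂ hcov _
    (by rw [map_mul, map_sub, map_one, hg1, sub_self, zero_mul])
    (by rw [map_mul, map_sub, map_sub, map_one, hg'1, sub_self, mul_zero])
  rw [show (1 : Γ(X, ⊤)) = g + g' - g * g' by linear_combination hz]
  exact sub_mem (add_mem hg hg') (Ideal.mul_mem_left _ _ hg')

end Two

/-- A Noetherian scheme covered by finitely many affine closed subschemes is affine. -/
theorem isAffine_of_closed_cover : ∀ (n : ℕ) (X : Scheme.{u}) [IsLocallyNoetherian X]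
    (Y : Fin n → Scheme.{u}) (j : ∀ l, Y l ⟶ X), (∀ l, IsClosedImmersion (j l)) → (∀ l, IsAffine (Y l)) →
      (⋃ l, Set.range (j l)) = Set.univ → IsAffine X := by
  intro n
  induction n with
  | zero =>
    intro X _ Y j _ _ hcov
    have : IsEmpty X := ⟨fun x => by
      obtain ⟨l, -⟩ := Set.mem_iUnion.1 (hcov.ge (Set.mem_univ x))
      exact l.elim0⟩
    infer_instance
  | succ n ih =>
    intro X _ Y j hj hY hcov
    let R : X.IdealSheafData := Scheme.IdealSheafData.vanishingIdeal ⊤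
    have : AlgebraicGeometry.IsReduced R.subscheme := SchBasics.isReduced_vanishingIdeal_subscheme _
    have hR : Surjective R.subschemeι := ⟨fun x => by
      have : x ∈ Set.range R.subschemeι := by
        rw [Scheme.IdealSheafData.range_subschemeι, Scheme.IdealSheafData.coe_support_vanishingIdeal]
        trivial
      exact this⟩
    let T : Closeds X := ⟨⋃ l : Fin n, Set.range (j l.castSucc),
      isClosed_iUnion_of_finite fun l => (hj l.castSucc).isClosedEmbedding.isClosed_range⟩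
    let I : X.IdealSheafData := Scheme.IdealSheafData.vanishingIdeal T
    have hI : Set.range I.subschemeι = (T : Set X) := by
      rw [Scheme.IdealSheafData.range_subschemeι, Scheme.IdealSheafData.coe_support_vanishingIdeal]
    have := LocallyOfFiniteType.isLocallyNoetherian I.subschemeι
    have hIaff : IsAffine I.subscheme := by
      refine ih I.subscheme (fun l => pullback I.subschemeι (j l.castSucc))
        (fun l => pullback.fst _ _) (fun l => ?_) (fun l => ?_) ?_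
      · have := hj l.castSucc; infer_instance
      · have := hY l.castSucc; exact isAffine_of_isAffineHom (pullback.snd I.subschemeι (j l.castSucc))
      · refine Set.eq_univ_of_forall fun z => Set.mem_iUnion.2 ?_
        have : I.subschemeι z ∈ (T : Set X) := hI ▸ ⟨z, rfl⟩
        obtain ⟨l, w, hw⟩ := Set.mem_iUnion.1 this
        obtain ⟨p, hp, -⟩ := Scheme.Pullback.exists_preimage_pullback z w hw.symm
        exact ⟨l, p, hp⟩
    have : IsAffine R.subscheme := by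
      have h1 := hj (Fin.last n)
      have h2 := hY (Fin.last n)
      let q₁ : pullback R.subschemeι I.subschemeι ⟶ R.subscheme := pullback.fst _ _
      let q₂ : pullback R.subschemeι (j (Fin.last n)) ⟶ R.subscheme := pullback.fst _ _
      have : IsAffine (pullback R.subschemeι I.subschemeι) :=
        isAffine_of_isAffineHom (pullback.snd R.subschemeι I.subschemeι)
      have : IsAffine (pullback R.subschemeι (j (Fin.last n))) :=
        isAffine_of_isAffineHom (pullback.snd R.subschemeι (j (Fin.last n)))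
      refine isAffine_of_two_closed q₁ q₂ (Set.eq_univ_of_forall fun r => ?_)
      obtain ⟨l, hl⟩ := Set.mem_iUnion.1 (hcov.ge (Set.mem_univ (R.subschemeι r)))
      refine Fin.lastCases (motive := fun l => R.subschemeι r ∈ Set.range (j l) → _) ?_ ?_ l hl
      · rintro ⟨w, hw⟩
        obtain ⟨p, hp, -⟩ := Scheme.Pullback.exists_preimage_pullback r w hw.symm
        exact Or.inr ⟨p, hp⟩
      · intro l hl
        obtain ⟨w, hw⟩ : R.subschemeι r ∈ Set.range I.subschemeι := hI.ge (Set.mem_iUnion.2 ⟨l, hl⟩)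
        obtain ⟨p, hp, -⟩ := Scheme.Pullback.exists_preimage_pullback r w hw.symm
        exact Or.inl ⟨p, hp⟩
    exact isAffine_of_surjective_closedImmersion R.subschemeι

end Groth.Agent.Curves2
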