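import Groth.Agent.Curves2.AffineCurve
import Groth.Agent.Curves2.ClosedCover
import Mathlib.AlgebraicGeometry.IdealSheaf.IrreducibleComponent

/-! Affineness of one-dimensional schemes component by component. -/

set_option autoImplicit false

universe u

open CategoryTheory CategoryTheory.Limits AlgebraicGeometry Opposite TopologicalSpace

noncomputable section

set_option backward.isDefEq.respectTransparency false

namespace Groth.Agent.Curves2

variable {X : Scheme.{u}}

/-- The reduced subscheme on an irreducible closed set is integral. -/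
theorem isIntegral_vanishingIdeal (Z : Closeds X) (hZ : IsIrreducible (Z : Set X)) :
    IsIntegral (Scheme.IdealSheafData.vanishingIdeal Z).subscheme := by
  let I := Scheme.IdealSheafData.vanishingIdeal Z
  have hr : Set.range I.subschemeι = (Z : Set X) := by
    rw [Scheme.IdealSheafData.range_subschemeι, Scheme.IdealSheafData.coe_support_vanishingIdeal]
  have he := I.subschemeι.isClosedEmbedding
  have : AlgebraicGeometry.IsReduced I.subscheme := SchBasics.isReduced_vanishingIdeal_subscheme _
  have : Nonempty I.subscheme := by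
    obtain ⟨x, hx⟩ := hZ.1
    obtain ⟨y, -⟩ := hr.ge hx
    exact ⟨y⟩
  have : PreirreducibleSpace I.subscheme := ⟨by
    have h2 : IsPreirreducible (I.subschemeι ⁻¹' (Z : Set X)) := by
      intro u v hu hv hu' hv'
      obtain ⟨u', hu'o, rfl⟩ := he.isInducing.isOpen_iff.1 hu
      obtain ⟨v', hv'o, rfl⟩ := he.isInducing.isOpen_iff.1 hv
      obtain ⟨a, ha, ha'⟩ := hu'
      obtain ⟨b, hb, hb'⟩ := hv'
      obtain ⟨x, hx, hxu, hxv⟩ := hZ.2 u' v' hu'o hv'o ⟨_, ha, ha'⟩ ⟨_, hb, hb'⟩
      obtain ⟨w, rfl⟩ := hr.ge hx
      exact ⟨w, hx, hxu, hxv⟩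
    rwa [show I.subschemeι ⁻¹' (Z : Set X) = Set.univ from
      Set.eq_univ_of_forall fun y => hr ▸ ⟨y, rfl⟩] at h2⟩
  have : IrreducibleSpace I.subscheme := ⟨inferInstance⟩
  exact isIntegral_of_irreducibleSpace_of_isReduced _

theorem range_vanishingIdeal (Z : Closeds X) :
    Set.range (Scheme.IdealSheafData.vanishingIdeal Z).subschemeι = (Z : Set X) := by
  rw [Scheme.IdealSheafData.range_subschemeι, Scheme.IdealSheafData.coe_support_vanishingIdeal]

theorem dim_vanishingIdeal (Z : Closeds X) :
    topologicalKrullDim (Scheme.IdealSheafData.vanishingIdeal Z).subscheme =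
      topologicalKrullDim (Z : Set X) := by
  have e := (Scheme.IdealSheafData.vanishingIdeal Z).subschemeι.isClosedEmbedding.isEmbedding.toHomeomorph
  rw [e.isHomeomorph.topologicalKrullDim_eq]
  exact congrArg (fun s : Set X => topologicalKrullDim s) (range_vanishingIdeal Z)

/-- An integral Noetherian scheme of dimension `≤ 0` is affine. -/
theorem isAffine_of_dim_le_zero [IsIntegral X] [IsLocallyNoetherian X] (h : topologicalKrullDim X ≤ 0) :
    IsAffine X := by
  have hsub : Subsingleton X := ⟨fun a b => by
    have hc : ∀ x : X, x = genericPoint X := fun x => by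
      by_contra hne
      have h1 : IrreducibleCloseds.mk (closure {x}) isIrreducible_singleton.closure isClosed_closure <
          IrreducibleCloseds.mk (closure {genericPoint X}) isIrreducible_singleton.closure
            isClosed_closure := by
        rw [lt_iff_le_and_ne]
        refine ⟨closure_minimal (Set.singleton_subset_iff.2
          (specializes_iff_mem_closure.1 (genericPoint_specializes x))) isClosed_closure, fun he => hne ?_⟩
        exact ((specializes_iff_mem_closure.2
          ((congrArg IrreducibleCloseds.carrier he).ge (subset_closure (Set.mem_singleton _)))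
            ).antisymm (genericPoint_specializes x)).eq
      exact absurd h (Order.krullDim_pos_iff.2 ⟨_, _, h1⟩).not_ge
    rw [hc a, hc b]⟩
  obtain ⟨U, hU, hxU, -⟩ :=
    exists_isAffineOpen_mem_and_subset (U := (⊤ : X.Opens)) (x := genericPoint X) trivial
  have : U = ⊤ := top_le_iff.1 fun x _ => (Subsingleton.elim x (genericPoint X)).symm ▸ hxU
  have h2 : IsAffineOpen (⊤ : X.Opens) := this ▸ hU
  have : IsAffine (⊤ : X.Opens).toScheme := h2
  exact IsAffine.of_isIso X.topIso.inv

theorem eq_one_of_not_le_zero {d : WithBot ℕ∞} (h0 : ¬ d ≤ 0) (h1 : d ≤ 1) : d = 1 := by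
  induction d using WithBot.recBotCoe with
  | bot => exact absurd bot_le h0
  | coe d =>
    norm_cast at h0 h1 ⊢
    exact le_antisymm h1 (Order.one_le_iff_pos.2 (lt_of_not_ge h0))

/-- A one-dimensional separated scheme without proper one-dimensional component is affine. -/
theorem isAffine_of_components (k : Type u) [Field k] (X : Scheme.{u})
    [X.Over (Spec (CommRingCat.of k))] [IsSeparated (X ↘ Spec (CommRingCat.of k))]
    [LocallyOfFiniteType (X ↘ Spec (CommRingCat.of k))] [IsNoetherian X]
    (hdim : topologicalKrullDim X ≤ 1)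
    (h : ∀ Z : Closeds X, (Z : Set X) ∈ irreducibleComponents (X : Type u) →
      topologicalKrullDim (Z : Set X) = 1 →
      ¬ IsProper ((Scheme.IdealSheafData.vanishingIdeal Z).subschemeι ≫ (X ↘ Spec (CommRingCat.of k)))) :
    IsAffine X := by
  classical
  have hfin : (irreducibleComponents (X : Type u)).Finite :=
    TopologicalSpace.NoetherianSpace.finite_irreducibleComponents
  have := hfin.fintype
  let e := Fintype.equivFin (irreducibleComponents (X : Type u))
  let Z : Fin (Fintype.card (irreducibleComponents (X : Type u))) → Closeds X := fun l =>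
    ⟨(e.symm l).1, isClosed_of_mem_irreducibleComponents _ (e.symm l).2⟩
  refine isAffine_of_closed_cover _ X (fun l => (Scheme.IdealSheafData.vanishingIdeal (Z l)).subscheme)
    (fun l => (Scheme.IdealSheafData.vanishingIdeal (Z l)).subschemeι) (fun l => inferInstance)
    (fun l => ?_) ?_
  · let I := Scheme.IdealSheafData.vanishingIdeal (Z l)
    have hZ : (Z l : Set X) ∈ irreducibleComponents (X : Type u) := (e.symm l).2
    have := isIntegral_vanishingIdeal (Z l) hZ.1
    let sI : I.subscheme ⟶ Spec (CommRingCat.of k) := I.subschemeι ≫ (X ↘ Spec (CommRingCat.of k))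
    let : I.subscheme.Over (Spec (CommRingCat.of k)) := ⟨sI⟩
    have : LocallyOfFiniteType (I.subscheme ↘ Spec (CommRingCat.of k)) :=
      inferInstanceAs (LocallyOfFiniteType (I.subschemeι ≫ (X ↘ Spec (CommRingCat.of k))))
    have : IsSeparated (I.subscheme ↘ Spec (CommRingCat.of k)) :=
      inferInstanceAs (IsSeparated (I.subschemeι ≫ (X ↘ Spec (CommRingCat.of k))))
    have : QuasiCompact (X ↘ Spec (CommRingCat.of k)) :=
      quasiCompact_of_noetherianSpace_source _
    have : QuasiCompact (I.subscheme ↘ Spec (CommRingCat.of k)) :=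
      inferInstanceAs (QuasiCompact (I.subschemeι ≫ (X ↘ Spec (CommRingCat.of k))))
    have := LocallyOfFiniteType.isLocallyNoetherian (I.subschemeι)
    show IsAffine I.subscheme
    by_cases h0 : topologicalKrullDim (Z l : Set X) ≤ 0
    · exact isAffine_of_dim_le_zero ((dim_vanishingIdeal (Z l)).trans_le h0)
    · have h1 : topologicalKrullDim (Z l : Set X) = 1 := by
        have hle : topologicalKrullDim (Z l : Set X) ≤ 1 :=
          (Topology.IsInducing.subtypeVal.topologicalKrullDim_le).trans hdim
        exact eq_one_of_not_le_zero h0 hle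
      exact isAffine_of_not_isProper (k := k) I.subscheme ((dim_vanishingIdeal (Z l)).trans h1) (h (Z l) hZ h1)
  · refine Set.eq_univ_of_forall fun x => Set.mem_iUnion.2 ⟨e ⟨_, irreducibleComponent_mem_irreducibleComponents x⟩, ?_⟩
    rw [range_vanishingIdeal]
    simp only [Z, Equiv.symm_apply_apply]
    exact mem_irreducibleComponent

end Groth.Agent.Curves2
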