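import Groth.Agent.Var76.FibBC
import Groth.Agent.LimTop61.FiniteBirational
import Mathlib.AlgebraicGeometry.Morphisms.Proper
import Mathlib.AlgebraicGeometry.FunctionField

/-!
# Proper birational morphisms onto normal schemes push the structure sheaf to itself
-/

set_option autoImplicit false

universe u

set_option backward.isDefEq.respectTransparency false

open CategoryTheory AlgebraicGeometry TopologicalSpace

namespace Groth.Agent.Curves2

theorem isIntegral_of_comp_iso {A B C : CommRingCat.{u}} (f : A ⟶ B) (g : B ⟶ C) [IsIso g]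
    (h : (f ≫ g).hom.IsIntegral) : f.hom.IsIntegral :=
  RingHom.IsIntegral.tower_bot f.hom g.hom (ConcreteCategory.bijective_of_isIso g).1 h |> fun h' => h'

/-- `φ_* O_X = O_Y` for a universally closed birational morphism onto a normal integral scheme. -/
theorem isIso_app_of_birational {X Y : Scheme.{u}} [IsIntegral X] [IsIntegral Y] (φ : X ⟶ Y)
    [UniversallyClosed φ] (hN : ∀ y : Y, IsIntegrallyClosed (Y.presheaf.stalk y))
    (U : Y.Opens) (hU : (U : Set Y).Nonempty) [IsIso (φ ∣_ U)] (V : Y.Opens) :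
    IsIso (φ.app V) := by
  refine Var76.FibBC.isIso_app_of_isBasis φ Y.isBasis_affineOpens (fun V hV => ?_) V
  rw [ConcreteCategory.isIso_iff_bijective]
  have hiso : ∀ W : Y.Opens, W ≤ U → Function.Bijective (φ.app W) := fun W hW => by
    have h1 : IsIso (φ.app (U.ι ''ᵁ (U.ι ⁻¹ᵁ W))) := by
      have h2 : IsIso ((φ ∣_ U).app (U.ι ⁻¹ᵁ W)) := inferInstance
      rw [morphismRestrict_app] at h2
      exact @IsIso.of_isIso_comp_right _ _ _ _ _ _ _ inferInstance h2
    have e : U.ι ''ᵁ (U.ι ⁻¹ᵁ W) = W := by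
      rw [Scheme.Hom.image_preimage_eq_opensRange_inf, Scheme.Opens.opensRange_ι,
        inf_eq_right.mpr hW]
    rw [e] at h1
    exact (ConcreteCategory.isIso_iff_bijective _).mp h1
  by_cases hV0 : (V : Set Y).Nonempty
  swap
  · have hVe : V = ⊥ := Opens.ext (Set.not_nonempty_iff_eq_empty.mp hV0)
    have hle : V ≤ U := hVe ▸ bot_le
    exact hiso V hle
  let W := U ⊓ V
  obtain ⟨y, hyU, hyV⟩ := nonempty_preirreducible_inter U.isOpen V.isOpen hU hV0
  have : Nonempty W := ⟨⟨y, hyU, hyV⟩⟩
  have : Nonempty V := ⟨⟨y, hyV⟩⟩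
  have hXW : Nonempty (φ ⁻¹ᵁ W) := by
    obtain ⟨x, hx⟩ := (φ ∣_ U).surjective ⟨y, hyU⟩
    refine ⟨⟨x.1, ?_⟩⟩
    have hxy : φ x.1 = y := by
      have := congrArg Subtype.val hx
      rwa [morphismRestrict_base_coe] at this
    show φ x.1 ∈ W
    rw [hxy]; exact ⟨hyU, hyV⟩
  have hnat : ∀ b : Γ(Y, V), X.presheaf.map (homOfLE (φ.preimage_mono inf_le_right)).op (φ.app V b) =
      φ.app W (Y.presheaf.map (homOfLE (inf_le_right : W ≤ V)).op b) := fun b => by
    rw [← ConcreteCategory.comp_apply, ← ConcreteCategory.comp_apply]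
    exact congrArg (fun F : Γ(Y, V) ⟶ Γ(X, φ ⁻¹ᵁ W) => F b)
      (φ.naturality (homOfLE (inf_le_right : W ≤ V)).op).symm
  have hinjV : Function.Injective (Y.presheaf.map (homOfLE (inf_le_right : W ≤ V)).op) :=
    map_injective_of_isIntegral Y _
  have hinjX : Function.Injective (X.presheaf.map (homOfLE (φ.preimage_mono (inf_le_right : W ≤ V))).op) :=
    map_injective_of_isIntegral X _
  refine ⟨fun a b hab => ?_, fun a => ?_⟩
  · exact hinjV ((hiso W inf_le_left).1 (by rw [← hnat, ← hnat, hab]))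
  obtain ⟨b, hb⟩ := (hiso W inf_le_left).2
    (X.presheaf.map (homOfLE (φ.preimage_mono (inf_le_right : W ≤ V))).op a)
  have hint : (φ.app V).hom.IsIntegralElem a := by
    have : IsAffine (V : Scheme.{u}) := hV
    have : UniversallyClosed (φ ∣_ V) := inferInstance
    have h1 := isIntegral_appTop_of_universallyClosed (φ ∣_ V)
    rw [Scheme.Hom.appTop, morphismRestrict_app] at h1
    have e : V.ι ''ᵁ ⊤ = V := V.ι_image_top
    have h2 : (φ.app (V.ι ''ᵁ ⊤)).hom.IsIntegral := by
      exact @isIntegral_of_comp_iso _ _ _ _ _ inferInstance h1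
    rw [e] at h2
    exact h2 a
  obtain ⟨p, hp, hpa⟩ := hint
  let g : Γ(Y, V) →+* Y.functionField := (Y.germToFunctionField V).hom
  have hg : (Y.germToFunctionField W).hom.comp
      (Y.presheaf.map (homOfLE (inf_le_right : W ≤ V)).op).hom = g := by
    ext z
    exact TopCat.Presheaf.germ_res_apply Y.presheaf (homOfLE (inf_le_right : W ≤ V)) _ _ z
  have hbint : g.IsIntegralElem ((Y.germToFunctionField W).hom b) := by
    refine ⟨p, hp, ?_⟩
    rw [← hg, ← Polynomial.hom_eval₂]
    refine (congrArg _ ?_).trans (map_zero (Y.germToFunctionField W).hom)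
    apply (hiso W inf_le_left).1
    rw [map_zero, show φ.app W (Polynomial.eval₂ _ b p) = (φ.app W).hom (Polynomial.eval₂ _ b p) from rfl,
      Polynomial.hom_eval₂]
    have hcomp : (φ.app W).hom.comp (Y.presheaf.map (homOfLE (inf_le_right : W ≤ V)).op).hom =
        (X.presheaf.map (homOfLE (φ.preimage_mono (inf_le_right : W ≤ V))).op).hom.comp
          (φ.app V).hom := RingHom.ext fun z => (hnat z).symm
    rw [hcomp, show (φ.app W).hom b = _ from hb, ← Polynomial.hom_eval₂, hpa, map_zero]
  have := LimTop61.isIntegrallyClosed_affineOpen hN hV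
  have := functionField_isFractionRing_of_isAffineOpen Y V hV
  have hb' : IsIntegral Γ(Y, V) ((Y.germToFunctionField W).hom b) := hbint
  obtain ⟨c, hc⟩ := (IsIntegrallyClosed.isIntegral_iff (R := Γ(Y, V)) (K := Y.functionField)).mp hb'
  refine ⟨c, hinjX ?_⟩
  rw [hnat, ← hb]
  congr 1
  apply germ_injective_of_isIntegral Y (genericPoint Y)
  exact (TopCat.Presheaf.germ_res_apply _ _ _ _ _).trans hc

end Groth.Agent.Curves2
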