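import Groth.Agent.Curves2.PointTwists
import Groth.Agent.Stein58.FinitePoints

/-!
# Rational points and degree one modules on curves over any field
-/

set_option autoImplicit false

universe u

open CategoryTheory CategoryTheory.Limits AlgebraicGeometry
open Groth.Agent.Var76.LineBundle Groth.Agent.Amp73
attribute [local instance] Curv2.resAlgebra

namespace Groth.Agent.Curves2

section Twist

variable {X : Scheme.{u}}

/-- The standard map `I ⊗ L → L`. -/
noncomputable def idealTwistι (I : X.IdealSheafData) {L : X.Modules} (hL : PicF.IsInvertible L) :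
    CohB1.tensorMod (ClSub.idealMod I) L ⟶ L :=
  haveI := Crv77.isIso_unitTm hL
  Crv77.twistMap (ClSub.idealModι I) L ≫ inv (Crv77.unitTm L)

theorem idealTwistι_tm (I : X.IdealSheafData) {L : X.Modules} (hL : PicF.IsInvertible L)
    {U : X.Opens} (e : Γ(L, U)) {W : X.Opens} (h : W ≤ U) (i : Γ(ClSub.idealMod I, W)) :
    (idealTwistι I hL).app W (tm (ClSub.idealMod I) L i (res L h e)) =
      OmegaSh.idealSect I W i • res L h e := by
  haveI := Crv77.isIso_unitTm hL
  have h1 : (Crv77.twistMap (ClSub.idealModι I) L).app W (tm (ClSub.idealMod I) L i (res L h e)) =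
      (Crv77.unitTm L).app W (OmegaSh.idealSect I W i • res L h e) :=
    (Crv77.twist_map_tm (ClSub.idealModι I) L W i (res L h e)).trans
      (Crv77.unitTm_frame L e h (OmegaSh.idealSect I W i)).symm
  refine (congrArg ((inv (Crv77.unitTm L)).app W) h1).trans ?_
  exact congrArg (fun φ : L ⟶ L => φ.app W (OmegaSh.idealSect I W i • res L h e))
    (IsIso.hom_inv_id (Crv77.unitTm L))

theorem bijective_idealSect_of_disjoint (I : X.IdealSheafData) (V : X.Opens)
    (hV : ∀ y ∈ V, y ∉ (I.support : Set X)) :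
    Function.Bijective (OmegaSh.idealSect I V) :=
  ⟨Omega57.idealSect_injective I V, fun a => Omega57.exists_idealSect_eq I V a
    ((Crv77.suppIn_quotMod I).section_eq_zero hV
      ((ClSub.toSubscheme I).app V (a : Γ(Coh.structureModule X, V))))⟩

theorem bijective_idealTwistι (I : X.IdealSheafData) {L : X.Modules} (hL : PicF.IsInvertible L)
    {U : X.Opens} {e : Γ(L, U)} (he : IsFrame L U e) {V : X.Opens} (h : V ≤ U)
    (hV : ∀ y ∈ V, y ∉ (I.support : Set X)) :
    Function.Bijective ((idealTwistι I hL).app V) := by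
  have hb := bijective_idealSect_of_disjoint I V hV
  constructor
  · intro z z' hz
    obtain ⟨i, rfl⟩ := exists_eq_tm_frame (L := ClSub.idealMod I) he h z
    obtain ⟨i', rfl⟩ := exists_eq_tm_frame (L := ClSub.idealMod I) he h z'
    rw [idealTwistι_tm, idealTwistι_tm] at hz
    rw [hb.1 ((he V h).1 hz)]
  · intro s
    obtain ⟨a, rfl⟩ := (he V h).2 s
    obtain ⟨i, rfl⟩ := hb.2 a
    exact ⟨_, idealTwistι_tm I hL e h i⟩

/-- If `I ⊗ L` is generated at a point off `V(I)` by a global section, then so is `L`. -/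
theorem exists_gen_of_gen_twist (I : X.IdealSheafData) {L : X.Modules} (hL : PicF.IsInvertible L)
    {x : X} (hx : x ∉ (I.support : Set X)) (u : Γ(CohB1.tensorMod (ClSub.idealMod I) L, ⊤))
    (hu : x ∈ CohB1.genLocus _ (Var76.Frames.ofSection _ u)) :
    ∃ t : Γ(L, ⊤), x ∈ CohB1.genLocus L (Var76.Frames.ofSection L t) := by
  refine ⟨(idealTwistι I hL).app ⊤ u, ?_⟩
  obtain ⟨U, hxU, e, he⟩ := Mero90.exists_frame' hL x
  obtain ⟨U', hxU', hu'⟩ := mem_genLocus_iff.1 hu
  rw [Var76.Frames.val_ofSection] at hu'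
  let W : X.Opens := (U ⊓ U') ⊓ ⟨(I.support : Set X)ᶜ, I.support.isClosed.isOpen_compl⟩
  have hWU : W ≤ U := inf_le_left.trans inf_le_left
  have hWU' : W ≤ U' := inf_le_left.trans inf_le_right
  refine mem_genLocus_iff.2 ⟨W, ⟨⟨hxU, hxU'⟩, hx⟩, ?_⟩
  rw [Var76.Frames.val_ofSection, ← Mero90.app_res]
  intro V hV
  have hb := bijective_idealTwistι I hL he (hV.trans hWU) (fun y hy => (hV hy).2)
  have h2 := (hu' V (hV.trans hWU'))
  convert hb.comp h2 using 1
  funext a
  simp only [Function.comp_apply]
  rw [Scheme.Modules.Hom.app_smul, ← Mero90.app_res, res_res, res_res]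

end Twist

variable {k : Type u} [Field k] {X : Scheme.{u}} [X.Over (Spec (CommRingCat.of k))]
  [IsProper (X ↘ Spec (CommRingCat.of k))]

/-- Only constants, in the presence of a rational point. -/
theorem finrank_h0_structureModule_of_ratPoint [IsIntegral X] {P : X}
    (hP : Function.Bijective (Curv2.resMap k X P)) :
    Module.finrank k (Coh.HH X (Coh.structureModule X) 0) = 1 := by
  set f := X ↘ Spec (CommRingCat.of k)
  have : Nonempty (⊤ : X.Opens) := ⟨⟨Nonempty.some inferInstance, trivial⟩⟩
  let str : k →+* Γ(X, ⊤) := Coh.toGlobal f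
  have hfld : IsField Γ(X, ⊤) := isField_of_universallyClosed (K := k) f
  let ev : Γ(X, ⊤) →+* X.residueField P := (X.residue P).hom.comp (X.presheaf.germ ⊤ P trivial).hom
  have hcomp : ev.comp str = Curv2.resMap k X P := rfl
  have hinj : Function.Injective ev := by
    letI := hfld.toField
    exact ev.injective
  have hbij : Function.Bijective str := by
    refine ⟨str.injective, fun b => ?_⟩
    obtain ⟨a, ha⟩ := hP.2 (ev b)
    exact ⟨a, hinj (by rw [← ha, ← hcomp]; rfl)⟩
  let x₁ : Coh.HH X (Coh.structureModule X) 0 :=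
    (Crv77.sec (Coh.structureModule X)).symm (1 : Γ(X, ⊤))
  let φ : k →ₗ[k] Coh.HH X (Coh.structureModule X) 0 := LinearMap.toSpanSingleton k _ x₁
  have hφ : ∀ a, Crv77.sec (Coh.structureModule X) (φ a) = str a := by
    intro a
    show Crv77.sec _ (a • x₁) = _
    rw [Crv77.sec_smul, AddEquiv.apply_symm_apply]
    exact mul_one (M := Γ(X, ⊤)) (str a)
  have hφb : Function.Bijective φ := by
    refine ⟨fun a b hab => hbij.1 ?_, fun z => ?_⟩
    · have := congrArg (Crv77.sec (Coh.structureModule X)) hab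
      rwa [hφ, hφ] at this
    · obtain ⟨a, ha⟩ := hbij.2 (Crv77.sec (Coh.structureModule X) z)
      exact ⟨a, (Crv77.sec (Coh.structureModule X)).injective ((hφ a).trans ha)⟩
  rw [← (LinearEquiv.ofBijective φ hφb).finrank_eq, Module.finrank_self]

theorem finite_residueField {P : X} (hP : IsClosed ({P} : Set X)) :
    Module.Finite k (X.residueField P) := by
  have : IsClosedImmersion (X.fromSpecResidueField P) :=
    (isClosed_singleton_iff_isClosedImmersion (x := P)).1 hP
  have h2 : IsFinite (Spec.map (CommRingCat.ofHom (Curv2.resMap k X P))) := by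
    rw [Stein58.SpecMap_resMap, isFinite_iff_locallyOfFiniteType_of_jacobsonSpace]
    infer_instance
  exact (IsFinite.SpecMap_iff _).1 h2

theorem one_le_finrank_residueField {P : X} (hP : IsClosed ({P} : Set X)) :
    1 ≤ Module.finrank k (X.residueField P) := by
  have := finite_residueField (k := k) hP
  exact Module.finrank_pos

theorem resMap_bijective_of_finrank_eq_one {P : X}
    (h : Module.finrank k (X.residueField P) = 1) : Function.Bijective (Curv2.resMap k X P) := by
  refine ⟨(Curv2.resMap k X P).injective, fun b => ?_⟩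
  obtain ⟨c, hc⟩ := (finrank_eq_one_iff_of_nonzero' (1 : X.residueField P) one_ne_zero).1 h b
  refine ⟨c, ?_⟩
  rw [← hc]
  exact (Algebra.algebraMap_eq_smul_one c)

theorem finrank_residueField_of_bijective {P : X} (h : Function.Bijective (Curv2.resMap k X P)) :
    Module.finrank k (X.residueField P) = 1 := by
  rw [← Module.finrank_self k]
  exact (LinearEquiv.ofBijective (Algebra.linearMap k (X.residueField P)) h).finrank_eq.symm

theorem deg_ptIdeal_tensor' (hdim : topologicalKrullDim X ≤ 1) {P : X}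
    (hP : IsClosed ({P} : Set X)) {L : X.Modules} (hL : PicF.IsInvertible L) :
    Curv2.deg k X (CohB1.tensorMod (ClSub.idealMod (Crv77.ptIdeal hP)) L) 1 =
      Curv2.deg k X L 1 - Module.finrank k (X.residueField P) := by
  have : IsNoetherian X := Crv77.isNoetherian_of_proper k X
  have hX := Crv77.curveCoh_of_proper k X hdim
  have hs : ((Crv77.ptIdeal hP).support : Set X).Finite := by
    rw [Crv77.ptIdeal_support]; exact Set.finite_singleton P
  have hc : ∀ x ∈ ((Crv77.ptIdeal hP).support : Set X), IsClosed ({x} : Set X) := by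
    rw [Crv77.ptIdeal_support]; rintro x rfl; exact hP
  simp only [Curv2.deg]
  rw [hX.euler_idealMod_tensor (Crv77.ptIdeal hP) hs hc hL (Crv77.isCoh_of_isInvertible hL)]
  simp only [Crv77.h]
  rw [Crv77.finrank_quot_point k hP]
  push_cast
  ring

variable [IsIntegral X]

theorem deg_nonneg_of_nontrivial (hdim : topologicalKrullDim X ≤ 1) {L : X.Modules}
    (hL : PicF.IsInvertible L) (hs : Nontrivial (Coh.HH X L 0)) : 0 ≤ Curv2.deg k X L 1 := by
  have : IsNoetherian X := Crv77.isNoetherian_of_proper k X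
  obtain ⟨_, _, -, -, -, -, -, hd, -⟩ :=
    (Crv77.curveCoh_of_proper k X hdim).exists_section_seq hdim hL hs
  rw [hd]
  exact Int.natCast_nonneg _

theorem finrank_h0_eq_zero_of_deg_neg (hdim : topologicalKrullDim X ≤ 1) {L : X.Modules}
    (hL : PicF.IsInvertible L) (hd : Curv2.deg k X L 1 < 0) :
    Module.finrank k (Coh.HH X L 0) = 0 := by
  have hs : Subsingleton (Coh.HH X L 0) := by
    rw [← not_nontrivial_iff_subsingleton]
    exact fun hs => absurd (deg_nonneg_of_nontrivial hdim hL hs) (not_le.2 hd)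
  exact Module.finrank_zero_of_subsingleton

/-- The unique section of a module of nonzero degree vanishes at some closed point. -/
theorem exists_closed_h0_eq (hdim : topologicalKrullDim X ≤ 1) {L : X.Modules}
    (hL : PicF.IsInvertible L) (hn : Module.finrank k (Coh.HH X L 0) = 1)
    (hdeg : Curv2.deg k X L 1 ≠ 0) :
    ∃ (x : X) (hx : IsClosed ({x} : Set X)),
      Module.finrank k (Coh.HH X (CohB1.tensorMod (ClSub.idealMod (Crv77.ptIdeal hx)) L) 0) = 1 := by
  have : IsNoetherian X := Crv77.isNoetherian_of_proper k X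
  have hC := Crv77.curveCoh_of_proper k X hdim
  obtain ⟨v₀, hv₀, hspan⟩ := finrank_eq_one_iff'.1 hn
  by_cases hex : ∃ (x : X) (hx : IsClosed ({x} : Set X)),
      x ∉ CohB1.genLocus L (Var76.Frames.ofSection L (Crv77.sec L v₀))
  · obtain ⟨x, hx, hxn⟩ := hex
    refine ⟨x, hx, ?_⟩
    have hno : ¬ ∃ t : Γ(L, ⊤), x ∈ CohB1.genLocus L (Var76.Frames.ofSection L t) := by
      rintro ⟨t, ht⟩
      obtain ⟨a, ha⟩ := hspan ((Crv77.sec L).symm t)
      have h0 := (Crv77.CurveCoh.valueAt_hmap_eq_zero (k := k) hx hL v₀).2 hxn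
      refine (Crv77.CurveCoh.valueAt_hmap_eq_zero (k := k) hx hL ((Crv77.sec L).symm t)).1 ?_
        (by rwa [AddEquiv.apply_symm_apply])
      rw [← ha, map_smul, h0, smul_zero]
    have h1 := mt (hC.exists_gen_iff_h0_lt hx hL).2 hno
    obtain ⟨j, hj, -⟩ := Crv77.exists_point_seq (k := k) (Crv77.ptIdeal hx) hL
    have := hC.finite _ (Crv77.isCoh_of_isInvertible hL) 0
    have h2 := LinearMap.finrank_le_finrank_of_injective hj
    omega
  · push Not at hex
    exfalso
    have htop : CohB1.genLocus L (Var76.Frames.ofSection L (Crv77.sec L v₀)) = ⊤ := by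
      refine eq_top_iff.2 fun y _ => ?_
      obtain ⟨z, hz, hyz⟩ := Crv77.exists_isClosed_specializes y
      exact hyz.mem_open (CohB1.genLocus L _).2 (hex z hz)
    have hf := (isFrame_iff_le_genLocus (Var76.Frames.ofSection L (Crv77.sec L v₀)) ⊤).2
      htop.ge
    rw [Var76.Frames.val_ofSection] at hf
    have := Crv77.isIso_unitHom_of_isFrame hf
    have hd := deg_congr k (asIso (EGA73.unitHom L (res L le_top (Crv77.sec L v₀))))
    rw [deg_structureModule] at hd
    exact hdeg hd.symm

/-- The unique section of a degree one module vanishes at one point only. -/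
theorem eq_of_twist_trivial (hdim : topologicalKrullDim X ≤ 1)
    {L : X.Modules} (hL : PicF.IsInvertible L) (hn : Module.finrank k (Coh.HH X L 0) = 1)
    {P Q : X} (hP : IsClosed ({P} : Set X)) (hQ : IsClosed ({Q} : Set X))
    (hIP : PicF.IsInvertible (ClSub.idealMod (Crv77.ptIdeal hP)))
    (hO : Module.finrank k (Coh.HH X (Coh.structureModule X) 0) = 1)
    (eP : Nonempty (CohB1.tensorMod (ClSub.idealMod (Crv77.ptIdeal hP)) L ≅ Coh.structureModule X))
    (eQ : Nonempty (CohB1.tensorMod (ClSub.idealMod (Crv77.ptIdeal hQ)) L ≅ Coh.structureModule X)) :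
    P = Q := by
  have : IsNoetherian X := Crv77.isNoetherian_of_proper k X
  have hC := Crv77.curveCoh_of_proper k X hdim
  obtain ⟨eP⟩ := eP
  obtain ⟨eQ⟩ := eQ
  by_contra hne
  have hIQ : PicF.IsInvertible (CohB1.tensorMod (ClSub.idealMod (Crv77.ptIdeal hQ)) L) :=
    EGA73.isInvertible_of_iso eQ.symm EGA73.isInvertible_structureModule
  have hdI : Curv2.deg k X
      (CohB1.tensorMod (ClSub.idealMod (Crv77.ptIdeal hP))
        (CohB1.tensorMod (ClSub.idealMod (Crv77.ptIdeal hQ)) L)) 1 < 0 := by
    rw [deg_ptIdeal_tensor' hdim hP hIQ, deg_congr k eQ, deg_structureModule]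
    have := one_le_finrank_residueField (k := k) hP
    omega
  have h0 := finrank_h0_eq_zero_of_deg_neg (k := k) hdim
    (EGA73.isInvertible_tensorMod hIP hIQ) hdI
  obtain ⟨u, hu⟩ := (hC.exists_gen_iff_h0_lt hP hIQ).2 (by rw [h0, finrank_congr k eQ 0, hO]; omega)
  obtain ⟨t, ht⟩ := exists_gen_of_gen_twist (Crv77.ptIdeal hQ) hL
    (by rw [Crv77.ptIdeal_support]; exact hne) u hu
  have h1 := (hC.exists_gen_iff_h0_lt hP hL).1 ⟨t, ht⟩
  rw [finrank_congr k eP 0, hO, hn] at h1
  omega

end Groth.Agent.Curves2
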