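import Mathlib.AlgebraicGeometry.SpreadingOut
import Mathlib.AlgebraicGeometry.Morphisms.Separated
import Mathlib.AlgebraicGeometry.FunctionField
import Mathlib.AlgebraicGeometry.Restrict

/-! An isomorphism of function fields over the base spreads out to an isomorphism of dense opens. -/

universe u

open CategoryTheory CategoryTheory.Limits AlgebraicGeometry TopologicalSpace

namespace Groth.Agent.Curves2

theorem eq_genericPoint_of_specializes {X : Scheme.{u}} [IsIntegral X] {x : X}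
    (h : x ⤳ genericPoint X) : x = genericPoint X :=
  (h.antisymm (genericPoint_specializes x)).eq

theorem exists_lift_generic {X : Scheme.{u}} [IsIntegral X] {T : Scheme.{u}} (i : T ⟶ X)
    [IsOpenImmersion i] [Nonempty T] :
    ∃ j : Spec X.functionField ⟶ T, j ≫ i = X.fromSpecStalk _ ∧ IsDominant j := by
  have hgen : genericPoint X ∈ Set.range i :=
    ((genericPoint_spec X).mem_open_set_iff i.isOpenEmbedding.isOpen_range).mpr
      (by simpa using Set.range_nonempty i)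
  have hr : Set.range (X.fromSpecStalk (genericPoint X)) ⊆ Set.range i := by
    rw [Scheme.range_fromSpecStalk]
    exact fun y hy => eq_genericPoint_of_specializes hy ▸ hgen
  refine ⟨IsOpenImmersion.lift i _ hr, IsOpenImmersion.lift_fac _ _ _, ⟨fun t => ?_⟩⟩
  rw [i.isOpenEmbedding.isInducing.closure_eq_preimage_closure_image, Set.mem_preimage,
    ← Set.range_comp, show (i ∘ IsOpenImmersion.lift i _ hr) = X.fromSpecStalk (genericPoint X) by
      funext z; exact congr($(IsOpenImmersion.lift_fac i _ hr) z)]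
  refine closure_mono ?_ ((genericPoint_spec X).symm.le (Set.mem_univ (i t)))
  rintro _ rfl
  rw [Scheme.range_fromSpecStalk]
  exact specializes_rfl

theorem hom_ext_generic {S X Y T : Scheme.{u}} [IsIntegral X] (sY : Y ⟶ S) [IsSeparated sY]
    (i : T ⟶ X) [IsOpenImmersion i] [Nonempty T] (a b : T ⟶ Y) (hab : a ≫ sY = b ≫ sY)
    (h : ∀ j : Spec X.functionField ⟶ T, j ≫ i = X.fromSpecStalk _ → j ≫ a = j ≫ b) : a = b := by
  obtain ⟨j, hj, hdom⟩ := exists_lift_generic i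
  have : IsReduced T := isReduced_of_isOpenImmersion i
  exact ext_of_isDominant_of_isSeparated sY hab j (h j hj)

/-- one half: spread out a map on function fields -/
theorem exists_spread {S X Y : Scheme.{u}} (sX : X ⟶ S) (sY : Y ⟶ S) [IsIntegral X] [IsIntegral Y]
    [LocallyOfFiniteType sY] (φ : Y.functionField ⟶ X.functionField)
    (h : Spec.map φ ≫ Y.fromSpecStalk _ ≫ sY = X.fromSpecStalk _ ≫ sX) :
    ∃ (U : X.Opens) (hU : genericPoint X ∈ U) (g : U.toScheme ⟶ Y),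
      Spec.map φ ≫ Y.fromSpecStalk _ = U.fromSpecStalkOfMem _ hU ≫ g ∧ g ≫ sY = U.ι ≫ sX ∧
      g ⟨_, hU⟩ = genericPoint Y := by
  obtain ⟨U, hU, g, h1, h2⟩ := spread_out_of_isGermInjective' sX sY (x := genericPoint X)
    (Spec.map φ ≫ Y.fromSpecStalk (genericPoint Y)) (by rw [Category.assoc]; exact h)
  refine ⟨U, hU, g, h1, h2, ?_⟩
  let c := IsLocalRing.closedPoint X.functionField
  have e : U.fromSpecStalkOfMem _ hU c = ⟨_, hU⟩ := by
    apply U.ι.isOpenEmbedding.injective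
    show (U.fromSpecStalkOfMem _ hU ≫ U.ι) c = _
    rw [Scheme.Opens.fromSpecStalkOfMem_ι]
    exact Scheme.fromSpecStalk_closedPoint
  rw [← e]
  show (U.fromSpecStalkOfMem _ hU ≫ g) c = _
  rw [← h1]
  refine eq_genericPoint_of_specializes ?_
  have : (Spec.map φ ≫ Y.fromSpecStalk (genericPoint Y)) c ∈ Set.range (Y.fromSpecStalk (genericPoint Y)) :=
    ⟨Spec.map φ c, rfl⟩
  rw [Scheme.range_fromSpecStalk] at this
  exact this

theorem exists_open_iso_of_functionField {S X Y : Scheme.{u}} (sX : X ⟶ S) (sY : Y ⟶ S)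
    [IsIntegral X] [IsIntegral Y] [IsSeparated sX] [IsSeparated sY]
    [LocallyOfFiniteType sX] [LocallyOfFiniteType sY] (σ : Y.functionField ≅ X.functionField)
    (h : Spec.map σ.hom ≫ Y.fromSpecStalk _ ≫ sY = X.fromSpecStalk _ ≫ sX) :
    ∃ (U : X.Opens) (V : Y.Opens) (e : U.toScheme ≅ V.toScheme),
      genericPoint X ∈ U ∧ e.hom ≫ V.ι ≫ sY = U.ι ≫ sX := by
  obtain ⟨U, hU, g, g1, g2, g3⟩ := exists_spread sX sY σ.hom h
  obtain ⟨W, hW, f, f1, f2, f3⟩ := exists_spread sY sX σ.inv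
    (by rw [← h, ← Spec.map_comp_assoc, σ.hom_inv_id, Spec.map_id, Category.id_comp])
  let U1 : U.toScheme.Opens := g ⁻¹ᵁ W
  let W1 : W.toScheme.Opens := f ⁻¹ᵁ U
  have : Nonempty U1.toScheme := ⟨⟨⟨_, hU⟩, show g ⟨_, hU⟩ ∈ W by rw [g3]; exact hW⟩⟩
  have : Nonempty W1.toScheme := ⟨⟨⟨_, hW⟩, show f ⟨_, hW⟩ ∈ U by rw [f3]; exact hU⟩⟩
  have A : (g ∣_ W) ≫ f = U1.ι ≫ U.ι := by
    refine hom_ext_generic sX (U1.ι ≫ U.ι) _ _ ?_ fun j hj => ?_
    · rw [Category.assoc, f2, morphismRestrict_ι_assoc, g2, Category.assoc]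
    · have e1 : j ≫ U1.ι = U.fromSpecStalkOfMem _ hU := by
        rw [← cancel_mono U.ι, Category.assoc, hj, Scheme.Opens.fromSpecStalkOfMem_ι]
      have e2 : j ≫ (g ∣_ W) = Spec.map σ.hom ≫ W.fromSpecStalkOfMem _ hW := by
        rw [← cancel_mono W.ι, Category.assoc, morphismRestrict_ι, ← Category.assoc, e1, ← g1,
          Category.assoc, Scheme.Opens.fromSpecStalkOfMem_ι]
      rw [← Category.assoc, e2, Category.assoc, ← f1, ← Category.assoc, ← Spec.map_comp,
        σ.inv_hom_id, Spec.map_id, Category.id_comp, hj]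
  have B : (f ∣_ U) ≫ g = W1.ι ≫ W.ι := by
    refine hom_ext_generic sY (W1.ι ≫ W.ι) _ _ ?_ fun j hj => ?_
    · rw [Category.assoc, g2, morphismRestrict_ι_assoc, f2, Category.assoc]
    · have e1 : j ≫ W1.ι = W.fromSpecStalkOfMem _ hW := by
        rw [← cancel_mono W.ι, Category.assoc, hj, Scheme.Opens.fromSpecStalkOfMem_ι]
      have e2 : j ≫ (f ∣_ U) = Spec.map σ.inv ≫ U.fromSpecStalkOfMem _ hU := by
        rw [← cancel_mono U.ι, Category.assoc, morphismRestrict_ι, ← Category.assoc, e1, ← f1,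
          Category.assoc, Scheme.Opens.fromSpecStalkOfMem_ι]
      rw [← Category.assoc, e2, Category.assoc, ← g1, ← Category.assoc, ← Spec.map_comp,
        σ.hom_inv_id, Spec.map_id, Category.id_comp, hj]
  let a : U1.toScheme ⟶ W1.toScheme := IsOpenImmersion.lift W1.ι (g ∣_ W) (by
    rintro _ ⟨t, rfl⟩
    rw [Scheme.Opens.range_ι]
    show f ((g ∣_ W) t) ∈ U
    rw [← Scheme.Hom.comp_apply, A]
    exact (U1.ι t).2)
  let b : W1.toScheme ⟶ U1.toScheme := IsOpenImmersion.lift U1.ι (f ∣_ U) (by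
    rintro _ ⟨t, rfl⟩
    rw [Scheme.Opens.range_ι]
    show g ((f ∣_ U) t) ∈ W
    rw [← Scheme.Hom.comp_apply, B]
    exact (W1.ι t).2)
  have ha : a ≫ W1.ι = g ∣_ W := IsOpenImmersion.lift_fac _ _ _
  have hb : b ≫ U1.ι = f ∣_ U := IsOpenImmersion.lift_fac _ _ _
  have hb' : b ≫ U1.ι ≫ U.ι = W1.ι ≫ f := by
    rw [reassoc_of% hb]; exact morphismRestrict_ι f U
  have ha' : a ≫ W1.ι ≫ W.ι = U1.ι ≫ g := by
    rw [reassoc_of% ha]; exact morphismRestrict_ι g W
  have hab : a ≫ b = 𝟙 _ := by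
    rw [← cancel_mono U1.ι, ← cancel_mono U.ι, Category.assoc, Category.assoc, hb',
      reassoc_of% ha, A, Category.id_comp]
  have hba : b ≫ a = 𝟙 _ := by
    rw [← cancel_mono W1.ι, ← cancel_mono W.ι, Category.assoc, Category.assoc, ha',
      reassoc_of% hb, B, Category.id_comp]
  refine ⟨U.ι ''ᵁ U1, W.ι ''ᵁ W1, (U.ι.isoImage U1).symm ≪≫ Iso.mk a b hab hba ≪≫ W.ι.isoImage W1,
    ⟨⟨_, hU⟩, show g ⟨_, hU⟩ ∈ W by rw [g3]; exact hW, rfl⟩, ?_⟩
  simp only [Iso.trans_hom, Iso.symm_hom, Category.assoc, Scheme.Hom.isoImage_hom_ι_assoc]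
  rw [reassoc_of% ha', g2, Scheme.Hom.isoImage_inv_ι_assoc]

end Groth.Agent.Curves2
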