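import Mathlib.RingTheory.Length
import Mathlib.RingTheory.LocalRing.Length
import Mathlib.RingTheory.DedekindDomain.Ideal.Lemmas
import Mathlib.RingTheory.UniqueFactorizationDomain.Finite
import Mathlib.Algebra.Module.Submodule.Union
import Mathlib.FieldTheory.IsAlgClosed.Basic

/-! The conductor inequalities `δ + 1 ≤ ℓ(B/𝔠) ≤ 2δ`. -/

namespace Groth.Agent.Curves2

universe u v

theorem length_eq_of_residue (k A : Type*) [Field k] [CommRing A] [IsLocalRing A] [Algebra k A]
    (hk : Function.Surjective (algebraMap k (IsLocalRing.ResidueField A)))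
    (M : Type*) [AddCommGroup M] [Module k M] [Module A M] [IsScalarTower k A M] :
    Module.length k M = Module.length A M := by
  have : IsLocalHom (algebraMap k A) := inferInstance
  rw [IsLocalRing.length_restrictScalars k A M]
  suffices Module.length (IsLocalRing.ResidueField k) (IsLocalRing.ResidueField A) = 1 by
    rw [this, mul_one]
  have hs : Function.Surjective
      (algebraMap (IsLocalRing.ResidueField k) (IsLocalRing.ResidueField A)) := fun x => by
    obtain ⟨c, rfl⟩ := hk x
    exact ⟨IsLocalRing.residue k c, rfl⟩
  rw [Module.length_eq_of_surjective (M := IsLocalRing.ResidueField A) hs]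
  exact Module.length_eq_one_iff.mpr inferInstance

theorem length_quot_annihilator_le (k : Type*) [Field k] [Infinite k] {A : Type u} [CommRing A]
    [IsLocalRing A] [Algebra k A] (hk : Function.Surjective (algebraMap k (IsLocalRing.ResidueField A)))
    (M : Type*) [AddCommGroup M] [Module k M] [Module A M] [IsScalarTower k A M]
    (hfin : ¬ Module.length A M = ⊤) {T : Type*} [Finite T] (v : T → M) (hv : ∀ J, v J ≠ 0)
    (h : ∀ a ∉ Module.annihilator A M, ∃ J m, v J = a • m) :
    Module.length A (A ⧸ Module.annihilator A M) ≤ Module.length A M := by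
  obtain ⟨ψ, hψ⟩ := Module.exists_dual_forall_apply_ne_zero (K := k) v hv
  let F : A →ₗ[k] Module.Dual k M :=
    { toFun := fun a => ψ.comp ((LinearMap.lsmul A M a).restrictScalars k)
      map_add' := fun a b => by ext m; simp [add_smul]
      map_smul' := fun c a => by ext m; simp }
  have hker : LinearMap.ker F = (Module.annihilator A M).restrictScalars k := by
    ext a
    rw [LinearMap.mem_ker, Submodule.restrictScalars_mem]
    refine ⟨fun hF => ?_, fun hF => ?_⟩
    · by_contra ha
      obtain ⟨J, m, e⟩ := h a ha
      exact hψ J (by rw [e]; exact LinearMap.congr_fun hF m)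
    · ext m
      show ψ (a • m) = 0
      rw [Module.mem_annihilator.mp hF m, map_zero]
  have hfinM : Module.Finite k M := by
    have h1 : Module.length k M ≠ ⊤ := by rwa [length_eq_of_residue k A hk]
    have := (isFiniteLength_iff_isNoetherian_isArtinian.mp (Module.length_ne_top_iff.mp h1)).1
    infer_instance
  let G : (A ⧸ Module.annihilator A M) →ₗ[k] Module.Dual k M :=
    (Submodule.liftQ ((Module.annihilator A M).restrictScalars k) F hker.ge).comp
      (Submodule.Quotient.restrictScalarsEquiv k (Module.annihilator A M)).symm.toLinearMap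
  have hG : Function.Injective G := by
    intro x y h
    induction x using Submodule.Quotient.induction_on with
    | _ a =>
      induction y using Submodule.Quotient.induction_on with
      | _ b =>
        have e : F a = F b := h
        have : a - b ∈ LinearMap.ker F := by rw [LinearMap.mem_ker, map_sub, e, sub_self]
        rw [hker] at this
        exact (Submodule.Quotient.eq _).mpr this
  rw [← length_eq_of_residue k A hk, ← length_eq_of_residue k A hk]
  refine (Module.length_le_of_injective G hG).trans (le_of_eq ?_)
  rw [Module.length_eq_rank, Module.length_eq_rank, ← Module.finrank_eq_rank, ← Module.finrank_eq_rank,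
    Subspace.dual_finrank_eq]
  simp

variable (k : Type*) [Field k] [Infinite k] {A : Type u} [CommRing A] [IsLocalRing A] [Algebra k A]
  {B : Type v} [CommRing B] [Algebra A B]

variable (A B) in
/-- the conductor of `A` in `B` -/
noncomputable def conductorIdeal : Ideal A :=
  Module.annihilator A (B ⧸ LinearMap.range (Algebra.linearMap A B))

theorem mem_conductorIdeal {a : A} :
    a ∈ conductorIdeal A B ↔ ∀ b : B, ∃ a' : A, algebraMap A B a' = algebraMap A B a * b := by
  rw [conductorIdeal, Module.mem_annihilator]
  refine ⟨fun h b => ?_, fun h m => ?_⟩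
  · have := h (Submodule.Quotient.mk b)
    rw [← Submodule.Quotient.mk_smul, Submodule.Quotient.mk_eq_zero, Algebra.smul_def] at this
    exact this
  · induction m using Submodule.Quotient.induction_on with
    | _ b =>
      rw [← Submodule.Quotient.mk_smul, Submodule.Quotient.mk_eq_zero, Algebra.smul_def]
      exact h b

theorem smul_top_eq_map :
    conductorIdeal A B • (⊤ : Submodule A B) =
      Submodule.map (Algebra.linearMap A B) (conductorIdeal A B) := by
  refine le_antisymm (Submodule.smul_le.mpr fun a ha b _ => ?_) ?_
  · obtain ⟨a', ha'⟩ := mem_conductorIdeal.mp ha b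
    refine ⟨a', mem_conductorIdeal.mpr fun b' => ?_, by simpa [Algebra.smul_def] using ha'⟩
    obtain ⟨a'', h''⟩ := mem_conductorIdeal.mp ha (b * b')
    exact ⟨a'', by rw [h'', ha', mul_assoc]⟩
  · rintro _ ⟨a, ha, rfl⟩
    have := Submodule.smul_mem_smul ha (Submodule.mem_top (R := A) (x := (1 : B)))
    simpa [Algebra.smul_def] using this

/-- `ℓ(B/𝔠) = δ + ℓ(A/𝔠)` -/
theorem length_quot_conductor (hinj : Function.Injective (algebraMap A B)) :
    Module.length A (B ⧸ conductorIdeal A B • (⊤ : Submodule A B)) =
      Module.length A (B ⧸ LinearMap.range (Algebra.linearMap A B)) +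
        Module.length A (A ⧸ conductorIdeal A B) := by
  rw [smul_top_eq_map, add_comm]
  set l := Algebra.linearMap A B
  let f := Submodule.mapQ (conductorIdeal A B) (Submodule.map l (conductorIdeal A B)) l
    (Submodule.le_comap_map _ _)
  let g := Submodule.factor (show Submodule.map l (conductorIdeal A B) ≤ LinearMap.range l from
    LinearMap.map_le_range)
  refine Module.length_eq_add_of_exact f g ?_ (Submodule.factor_surjective _) ?_
  · rw [← LinearMap.ker_eq_bot, Submodule.eq_bot_iff]
    intro x hx
    induction x using Submodule.Quotient.induction_on with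
    | _ a =>
      rw [LinearMap.mem_ker, Submodule.mapQ_apply, Submodule.Quotient.mk_eq_zero] at hx
      obtain ⟨a', ha', he⟩ := hx
      rw [Submodule.Quotient.mk_eq_zero]
      rwa [← hinj he]
  · rw [LinearMap.exact_iff]
    ext x
    induction x using Submodule.Quotient.induction_on with
    | _ b =>
      show g (Submodule.Quotient.mk b) = 0 ↔ _
      rw [show g (Submodule.Quotient.mk b) = Submodule.Quotient.mk b from rfl, Submodule.Quotient.mk_eq_zero]
      constructor
      · rintro ⟨a, rfl⟩; exact ⟨Submodule.Quotient.mk a, rfl⟩
      · rintro ⟨y, hy⟩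
        induction y using Submodule.Quotient.induction_on with
        | _ a =>
          rw [Submodule.mapQ_apply, Submodule.Quotient.eq] at hy
          have h' := LinearMap.map_le_range hy
          have := Submodule.sub_mem _ (LinearMap.mem_range_self l a) h'
          simpa using this

theorem length_quot_conductor_le [IsDomain A] [IsDedekindDomain B] (hA : ¬ IsField A)
    (hinj : Function.Injective (algebraMap A B))
    (hk : Function.Surjective (algebraMap k (IsLocalRing.ResidueField A))) :
    Module.length A (A ⧸ conductorIdeal A B) ≤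
      Module.length A (B ⧸ LinearMap.range (Algebra.linearMap A B)) := by
  classical
  set M := B ⧸ LinearMap.range (Algebra.linearMap A B)
  by_cases hfin : Module.length A M = ⊤
  · rw [hfin]; exact le_top
  have hne : conductorIdeal A B ≠ ⊥ := by
    intro h0
    obtain ⟨hN, hArt⟩ := isFiniteLength_iff_isNoetherian_isArtinian.mp (Module.length_ne_top_iff.mp hfin)
    have hinj' : Function.Injective (algebraMap A (Module.End A M)) := by
      rw [RingHom.injective_iff_ker_eq_bot, eq_bot_iff]
      intro a ha
      rw [← h0, conductorIdeal, Module.mem_annihilator]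
      intro m
      exact LinearMap.congr_fun (RingHom.mem_ker.mp ha) m
    obtain ⟨s, hs⟩ := hN.noetherian (⊤ : Submodule A M)
    let Φ : A →ₗ[A] (s → M) := LinearMap.pi fun i => LinearMap.toSpanSingleton A M i.1
    have hΦ : Function.Injective Φ := by
      intro a a' h
      apply hinj'
      refine LinearMap.ext fun m => ?_
      have hm : m ∈ Submodule.span A (s : Set M) := hs ▸ trivial
      induction hm using Submodule.span_induction with
      | mem x hx => exact congrFun h ⟨x, hx⟩
      | zero => simp
      | add x y _ _ hx hy => rw [map_add, map_add, hx, hy]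
      | smul c x _ hx => rw [map_smul, map_smul, hx]
    have : IsArtinianRing A := isArtinian_of_injective Φ hΦ
    exact hA (IsArtinianRing.isField_of_isDomain A)
  let : Algebra k B := ((algebraMap A B).comp (algebraMap k A)).toAlgebra
  have : IsScalarTower k A B := .of_algebraMap_eq' rfl
  set C : Ideal B := (conductorIdeal A B).map (algebraMap A B) with hC
  have hC0 : C ≠ ⊥ := fun h => hne ((Ideal.map_eq_bot_iff_of_injective hinj).mp h)
  have hCsub : ∀ b ∈ C, b ∈ Submodule.map (Algebra.linearMap A B) (conductorIdeal A B) := by
    intro b hb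
    rw [← smul_top_eq_map, Ideal.smul_top_eq_map]
    exact hb
  let T : Type v := {J : Ideal B // C < J}
  have : Finite T := by
    have hd : Finite {J : Ideal B // J ∣ C} :=
      @Finite.of_fintype _ (UniqueFactorizationMonoid.fintypeSubtypeDvd C hC0)
    exact Finite.of_injective (fun J : T => (⟨J.1, Ideal.dvd_iff_le.mpr J.2.le⟩ : {J : Ideal B // J ∣ C}))
      fun J J' h => Subtype.ext (congrArg (fun x : {J : Ideal B // J ∣ C} => x.1) h)
  have hv : ∀ J : T, ∃ b ∈ J.1, Submodule.Quotient.mk (p := LinearMap.range (Algebra.linearMap A B)) b ≠ 0 := by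
    intro J
    by_contra hcon
    push Not at hcon
    refine J.2.not_ge fun b hb => ?_
    obtain ⟨a, rfl⟩ := (Submodule.Quotient.mk_eq_zero _).mp (hcon b hb)
    refine Ideal.mem_map_of_mem _ (mem_conductorIdeal.mpr fun b' => ?_)
    obtain ⟨a', ha'⟩ := (Submodule.Quotient.mk_eq_zero _).mp (hcon _ (J.1.mul_mem_right b' hb))
    exact ⟨a', ha'⟩
  choose v hvJ hv0 using hv
  refine length_quot_annihilator_le k hk M hfin (fun J : T => (Submodule.Quotient.mk (v J) : M)) hv0
    fun a ha => ?_
  have haC : algebraMap A B a ∉ C := fun hc => by
    obtain ⟨a', ha', he⟩ := hCsub _ hc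
    exact ha (hinj he ▸ ha')
  let J : T := ⟨C ⊔ Ideal.span {algebraMap A B a}, left_lt_sup.mpr fun hle =>
    haC (hle (Ideal.mem_span_singleton_self _))⟩
  obtain ⟨c, hc, y, hy, hsum⟩ := Submodule.mem_sup.mp (hvJ J)
  obtain ⟨b, rfl⟩ := Ideal.mem_span_singleton'.mp hy
  refine ⟨J, Submodule.Quotient.mk b, ?_⟩
  have e1 : (Submodule.Quotient.mk c : M) = 0 := by
    obtain ⟨a', -, rfl⟩ := hCsub c hc
    exact (Submodule.Quotient.mk_eq_zero _).mpr ⟨a', rfl⟩
  rw [← hsum, Submodule.Quotient.mk_add, e1, zero_add, ← Submodule.Quotient.mk_smul,
    Algebra.smul_def, mul_comm]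

end Groth.Agent.Curves2
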