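import Mathlib.RingTheory.Smooth.Basic
import Mathlib.RingTheory.FinitePresentation
import Mathlib.Algebra.MvPolynomial.PDeriv
import Mathlib.RingTheory.Ideal.Maps
import Mathlib.RingTheory.Polynomial.UniqueFactorization
import Mathlib.RingTheory.Polynomial.Resultant.Basic
import Mathlib.RingTheory.AdjoinRoot

/-! Smoothness of a hypersurface in affine space: the Jacobian criterion, algebraically. -/

namespace Groth.Agent.Curves2

open MvPolynomial

theorem aeval_add_mul_eq {k σ T : Type*} [CommRing k] [CommRing T] [Algebra k T] [Fintype σ]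
    (π : MvPolynomial σ k →ₐ[k] T) (ε : T) (hε : ε * ε = 0) (h : σ → T) (p : MvPolynomial σ k) :
    aeval (fun i => π (X i) + ε * h i) p = π p + ε * ∑ i, h i * π (pderiv i p) := by
  classical
  induction p using MvPolynomial.induction_on with
  | C c => simp [← MvPolynomial.algebraMap_eq, AlgHom.commutes]
  | add p q hp hq =>
    simp only [map_add, hp, hq, mul_add, Finset.sum_add_distrib]; ring
  | mul_X p j hp =>
    rw [map_mul, hp, aeval_X]
    have e : ∑ i, h i * π (pderiv i (p * X j)) = (∑ i, h i * π (pderiv i p)) * π (X j) + h j * π p := by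
      simp only [pderiv_mul, map_add, map_mul, mul_add, Finset.sum_add_distrib, Finset.sum_mul, mul_assoc]
      congr 1
      rw [Finset.sum_eq_single j (fun i _ hij => by simp [pderiv_X, hij.symm]) (by simp)]
      simp [pderiv_X]
    rw [e, map_mul]
    linear_combination (∑ i, h i * π (pderiv i p)) * h j * hε

theorem smooth_quot_singleton_iff {k σ : Type*} [Field k] [Fintype σ] (g : MvPolynomial σ k)
    (hg : g ≠ 0) :
    Algebra.Smooth k (MvPolynomial σ k ⧸ Ideal.span {g}) ↔
      ∃ (γ : MvPolynomial σ k) (α : σ → MvPolynomial σ k),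
        γ * g + ∑ i, α i * pderiv i g = 1 := by
  classical
  set I := Ideal.span {g} with hI
  set f : MvPolynomial σ k →ₐ[k] MvPolynomial σ k ⧸ I := Ideal.Quotient.mkₐ k I with hf
  have hker : RingHom.ker f.toRingHom = I := Ideal.Quotient.mkₐ_ker k I
  have hmem : ∀ x, x ∈ RingHom.ker f.toRingHom ^ 2 ↔ ∃ c, x = g * g * c := by
    intro x
    rw [hker, hI, Ideal.span_singleton_pow, Ideal.mem_span_singleton, sq]
    rfl
  have hsurj : Function.Surjective f := Ideal.Quotient.mkₐ_surjective k I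
  set T := MvPolynomial σ k ⧸ RingHom.ker f.toRingHom ^ 2
  set π : MvPolynomial σ k →ₐ[k] T := Ideal.Quotient.mkₐ k _ with hπ
  have hε : π g * π g = 0 := by
    rw [← map_mul]; exact Ideal.Quotient.eq_zero_iff_mem.mpr ((hmem _).mpr ⟨1, (mul_one _).symm⟩)
  constructor
  · intro hs
    obtain ⟨s, hs⟩ := (Algebra.FormallySmooth.iff_split_surjection f hsurj).mp inferInstance
    have hlift : ∀ i, ∃ h, s (f (X i)) = π (X i) + π g * π h := by
      intro i
      obtain ⟨y, hy⟩ := Ideal.Quotient.mkₐ_surjective k (RingHom.ker f.toRingHom ^ 2) (s (f (X i)))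
      have e : f y = f (X i) := by
        have := AlgHom.congr_fun hs (f (X i))
        rw [AlgHom.comp_apply, ← hy] at this
        exact this
      have : y - X i ∈ I := by
        rw [← hker]; exact RingHom.mem_ker.mpr (by rw [AlgHom.toRingHom_eq_coe, RingHom.coe_coe, map_sub, e, sub_self])
      obtain ⟨h, hh⟩ := Ideal.mem_span_singleton.mp this
      exact ⟨h, by rw [← hy, show y = X i + g * h by linear_combination hh, ← map_mul, ← map_add]⟩
    choose h hh using hlift
    have hcomp : s.comp f = aeval fun i => π (X i) + π g * π (h i) :=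
      MvPolynomial.algHom_ext fun i => by rw [AlgHom.comp_apply, hh, aeval_X]
    have h0 := AlgHom.congr_fun hcomp g
    rw [AlgHom.comp_apply, show f g = 0 from Ideal.Quotient.eq_zero_iff_mem.mpr (Ideal.mem_span_singleton_self g),
      map_zero, aeval_add_mul_eq π _ hε] at h0
    simp only [← map_mul, ← map_sum, ← map_add] at h0
    obtain ⟨c, hc⟩ := (hmem _).mp (Ideal.Quotient.eq_zero_iff_mem.mp h0.symm)
    refine ⟨c, fun i => -h i, mul_left_cancel₀ hg ?_⟩
    simp only [neg_mul, Finset.sum_neg_distrib]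
    linear_combination -hc
  · rintro ⟨γ, α, hγ⟩
    have hfs : Algebra.FormallySmooth k (MvPolynomial σ k ⧸ I) := by
      refine (Algebra.FormallySmooth.iff_split_surjection f hsurj).mpr ?_
      let θ : MvPolynomial σ k →ₐ[k] T := aeval fun i => π (X i) + π g * π (-α i)
      have hθg : θ g = 0 := by
        show aeval _ g = 0
        rw [aeval_add_mul_eq π _ hε]
        simp only [← map_mul, ← map_sum, ← map_add]
        refine Ideal.Quotient.eq_zero_iff_mem.mpr ((hmem _).mpr ⟨γ, ?_⟩)
        simp only [neg_mul, Finset.sum_neg_distrib]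
        linear_combination (-g) * hγ
      refine ⟨Ideal.Quotient.liftₐ I θ fun x hx => ?_, ?_⟩
      · obtain ⟨c, rfl⟩ := Ideal.mem_span_singleton.mp hx
        rw [map_mul, hθg, zero_mul]
      · refine Ideal.Quotient.algHom_ext k (MvPolynomial.algHom_ext fun i => ?_)
        simp only [AlgHom.comp_apply, AlgHom.id_apply]
        rw [show (Ideal.Quotient.liftₐ I θ _) (Ideal.Quotient.mkₐ k I (X i)) = θ (X i) from rfl]
        show f.kerSquareLift (aeval _ (X i)) = _
        rw [aeval_X, ← map_mul π, ← map_add π]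
        show f (X i + g * -α i) = f (X i)
        rw [map_add, map_mul, show f g = 0 from Ideal.Quotient.eq_zero_iff_mem.mpr (Ideal.mem_span_singleton_self g),
          zero_mul, add_zero]
    exact { formallySmooth := hfs, finitePresentation := Algebra.FinitePresentation.quotient ⟨{g}, by simp [hI]⟩ }

/-- the plane curve `a(t) + b(t) w = 0` and its twin are both smooth iff `a`, `b` are coprime -/
theorem smooth_pair_iff {k : Type*} [Field k] (a b : Polynomial k) (hab : a ≠ 0 ∨ b ≠ 0) :
    (Algebra.Smooth k (MvPolynomial (Fin 2) k ⧸ Ideal.span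
        {Polynomial.aeval (X 0) a + Polynomial.aeval (X 0 : MvPolynomial (Fin 2) k) b * X 1}) ∧
      Algebra.Smooth k (MvPolynomial (Fin 2) k ⧸ Ideal.span
        {Polynomial.aeval (X 0 : MvPolynomial (Fin 2) k) a * X 1 + Polynomial.aeval (X 0) b})) ↔
      IsCoprime a b := by
  classical
  set A : MvPolynomial (Fin 2) k := Polynomial.aeval (X 0) a with hA
  set B : MvPolynomial (Fin 2) k := Polynomial.aeval (X 0) b with hB
  have hsep : ∀ (p q : Polynomial k),
      Polynomial.aeval (X 0 : MvPolynomial (Fin 2) k) p + Polynomial.aeval (X 0) q * X 1 = 0 →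
        p = 0 ∧ q = 0 := by
    intro p q h
    have h0 := congrArg (MvPolynomial.aeval ![(Polynomial.X : Polynomial k), 0]) h
    have h1 := congrArg (MvPolynomial.aeval ![(Polynomial.X : Polynomial k), 1]) h
    simp [← Polynomial.aeval_algHom_apply] at h0 h1
    exact ⟨h0, by simpa [h0] using h1⟩
  have hg1 : A + B * X 1 ≠ 0 := fun h => hab.elim (fun ha => ha (hsep a b h).1) fun hb => hb (hsep a b h).2
  have hg2 : A * X 1 + B ≠ 0 := fun h => by
    rw [add_comm] at h
    exact hab.elim (fun ha => ha (hsep b a h).2) fun hb => hb (hsep b a h).1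
  rw [smooth_quot_singleton_iff _ hg1, smooth_quot_singleton_iff _ hg2]
  have hA1 : pderiv 1 A = 0 := by
    rw [hA, Derivation.map_aeval]; simp [pderiv_X]
  have hB1 : pderiv 1 B = 0 := by
    rw [hB, Derivation.map_aeval]; simp [pderiv_X]
  constructor
  · rintro ⟨⟨γ, α, hγ⟩, γ', α', hγ'⟩
    by_contra hcop
    rw [← isRelPrime_iff_isCoprime] at hcop
    obtain ⟨P, hPu, hPa, hPb⟩ : ∃ P, Irreducible P ∧ P ∣ a ∧ P ∣ b := by
      simp only [IsRelPrime, not_forall] at hcop
      obtain ⟨d, hda, hdb, hdu⟩ := hcop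
      have hd0 : d ≠ 0 := by
        rintro rfl
        exact hab.elim (fun h => h (zero_dvd_iff.mp hda)) fun h => h (zero_dvd_iff.mp hdb)
      obtain ⟨P, hP, hPd⟩ := WfDvdMonoid.exists_irreducible_factor hdu hd0
      exact ⟨P, hP, hPd.trans hda, hPd.trans hdb⟩
    have := Fact.mk hPu
    set t := AdjoinRoot.root P
    have ha : Polynomial.aeval t a = 0 := by rw [AdjoinRoot.aeval_eq]; exact AdjoinRoot.mk_eq_zero.mpr hPa
    have hb : Polynomial.aeval t b = 0 := by rw [AdjoinRoot.aeval_eq]; exact AdjoinRoot.mk_eq_zero.mpr hPb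
    set a' := MvPolynomial.aeval ![t, (0 : AdjoinRoot P)] (pderiv 0 A)
    set b' := MvPolynomial.aeval ![t, (0 : AdjoinRoot P)] (pderiv 0 B)
    have hval : ∀ w, MvPolynomial.aeval ![t, w] A = 0 ∧ MvPolynomial.aeval ![t, w] B = 0 ∧
        MvPolynomial.aeval ![t, w] (pderiv 0 A) = a' ∧ MvPolynomial.aeval ![t, w] (pderiv 0 B) = b' := by
      intro w
      simp only [a', b', hA, hB, Derivation.map_aeval, pderiv_X_self, smul_eq_mul, mul_one,
        ← Polynomial.aeval_algHom_apply, MvPolynomial.aeval_X, Matrix.cons_val_zero, ha, hb, and_self]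
    by_cases hb' : b' = 0
    · by_cases ha' : a' = 0
      · obtain ⟨e1, e2, e3, e4⟩ := hval 0
        have := congrArg (MvPolynomial.aeval ![t, (0 : AdjoinRoot P)]) hγ
        simp [Fin.sum_univ_two, hA1, hB1, pderiv_X, pderiv_mul, e1, e2, e3, e4, ha', hb'] at this
      · obtain ⟨e1, e2, e3, e4⟩ := hval 0
        have := congrArg (MvPolynomial.aeval ![t, (0 : AdjoinRoot P)]) hγ'
        simp [Fin.sum_univ_two, hA1, hB1, pderiv_X, pderiv_mul, e1, e2, e3, e4, hb'] at this
    · obtain ⟨e1, e2, e3, e4⟩ := hval (-a' / b')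
      have := congrArg (MvPolynomial.aeval ![t, -a' / b']) hγ
      simp [Fin.sum_univ_two, hA1, hB1, pderiv_X, pderiv_mul, e1, e2, e3, e4, hb', mul_div_cancel₀] at this
  · rintro ⟨u, v, huv⟩
    have h : Polynomial.aeval (X 0 : MvPolynomial (Fin 2) k) u * A +
        Polynomial.aeval (X 0) v * B = 1 := by
      rw [hA, hB, ← map_mul, ← map_mul, ← map_add, huv, map_one]
    set U := Polynomial.aeval (X 0 : MvPolynomial (Fin 2) k) u
    set V := Polynomial.aeval (X 0 : MvPolynomial (Fin 2) k) v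
    refine ⟨⟨U, ![0, V - U * X 1], ?_⟩, V, ![0, U - V * X 1], ?_⟩
    · simp [Fin.sum_univ_two, hA1, hB1, pderiv_mul, pderiv_X]
      linear_combination h
    · simp [Fin.sum_univ_two, hA1, hB1, pderiv_mul, pderiv_X]
      linear_combination h

end Groth.Agent.Curves2

namespace Groth.Agent.Curves2

open Polynomial in
theorem coeff_sum_fin {k : Type*} [Field k] {N : ℕ} (c : Fin (N + 1) → k) :
    (∑ i : Fin (N + 1), C (c i) * X ^ (i : ℕ)).coeff N = c (Fin.last N) ∧
    (∑ i : Fin (N + 1), C (c i) * X ^ (N - (i : ℕ))).coeff 0 = c (Fin.last N) ∧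
    (∑ i : Fin (N + 1), C (c i) * X ^ (i : ℕ)).natDegree ≤ N := by
  refine ⟨?_, ?_, Polynomial.natDegree_sum_le_of_forall_le _ _ fun i _ =>
    (Polynomial.natDegree_C_mul_X_pow_le _ _).trans (by omega)⟩
  · rw [Polynomial.finsetSum_coeff, Finset.sum_eq_single (Fin.last N)]
    · simp
    · intro i _ hi
      have : (i : ℕ) ≠ N := fun e => hi (Fin.ext e)
      simp [Polynomial.coeff_X_pow, this.symm]
    · simp
  · rw [Polynomial.finsetSum_coeff, Finset.sum_eq_single (Fin.last N)]
    · simp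
    · intro i _ hi
      have : (i : ℕ) ≠ N := fun e => hi (Fin.ext e)
      have h0 : 0 ≠ N - (i : ℕ) := by omega
      simp [Polynomial.coeff_X_pow, h0]
    · simp

open Polynomial in
theorem rev_eval {k L : Type*} [Field k] [Field L] [Algebra k L] {N : ℕ} (c : Fin (N + 1) → k) (t : L)
    (ht : t ≠ 0) :
    aeval t (∑ i : Fin (N + 1), C (c i) * X ^ (N - (i : ℕ))) =
      t ^ N * aeval t⁻¹ (∑ i : Fin (N + 1), C (c i) * X ^ (i : ℕ)) := by
  simp only [map_sum, map_mul, aeval_C, map_pow, aeval_X, Finset.mul_sum]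
  refine Finset.sum_congr rfl fun i _ => ?_
  have : t ^ N = t ^ (N - (i : ℕ)) * t ^ (i : ℕ) := by
    rw [← pow_add, Nat.sub_add_cancel (by omega)]
  rw [this, inv_pow]
  field_simp

open Polynomial in
theorem coprime_charts_iff {k : Type*} [Field k] {M N : ℕ} (q : Fin (M + 1) → k) (ξ : Fin (N + 1) → k) :
    (IsCoprime (∑ i : Fin (M + 1), C (q i) * X ^ (i : ℕ)) (∑ j : Fin (N + 1), C (ξ j) * X ^ (j : ℕ)) ∧
      IsCoprime (∑ i : Fin (M + 1), C (q i) * X ^ (M - (i : ℕ)))
        (∑ j : Fin (N + 1), C (ξ j) * X ^ (N - (j : ℕ)))) ↔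
    (IsCoprime (∑ i : Fin (M + 1), C (q i) * X ^ (i : ℕ)) (∑ j : Fin (N + 1), C (ξ j) * X ^ (j : ℕ)) ∧
      (q (Fin.last M) ≠ 0 ∨ ξ (Fin.last N) ≠ 0)) := by
  refine and_congr_right fun hcop => ⟨fun h => ?_, fun h => ?_⟩
  · by_contra hc
    push Not at hc
    obtain ⟨u, v, e⟩ := h
    have := congrArg (fun p => p.coeff 0) e
    simp only [coeff_add, mul_coeff_zero, (coeff_sum_fin q).2.1, (coeff_sum_fin ξ).2.1, hc.1, hc.2,
      mul_zero, add_zero, coeff_one_zero] at this
    exact zero_ne_one this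
  · rw [← isRelPrime_iff_isCoprime]
    intro d hdq hdξ
    by_contra hdu
    by_cases hd0 : d = 0
    · have h1 := congrArg (fun p => p.coeff 0) (zero_dvd_iff.mp (hd0 ▸ hdq))
      have h2 := congrArg (fun p => p.coeff 0) (zero_dvd_iff.mp (hd0 ▸ hdξ))
      simp only [(coeff_sum_fin q).2.1, (coeff_sum_fin ξ).2.1, coeff_zero] at h1 h2
      exact h.elim (fun h => h h1) fun h => h h2
    obtain ⟨P, hP, hPd⟩ := WfDvdMonoid.exists_irreducible_factor hdu hd0
    have := Fact.mk hP
    set t := AdjoinRoot.root P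
    have e1 : aeval t (∑ i : Fin (M + 1), C (q i) * X ^ (M - (i : ℕ))) = 0 := by
      rw [AdjoinRoot.aeval_eq]; exact AdjoinRoot.mk_eq_zero.mpr (hPd.trans hdq)
    have e2 : aeval t (∑ j : Fin (N + 1), C (ξ j) * X ^ (N - (j : ℕ))) = 0 := by
      rw [AdjoinRoot.aeval_eq]; exact AdjoinRoot.mk_eq_zero.mpr (hPd.trans hdξ)
    by_cases ht : t = 0
    · rw [ht, ← coeff_zero_eq_aeval_zero', (coeff_sum_fin q).2.1] at e1
      rw [ht, ← coeff_zero_eq_aeval_zero', (coeff_sum_fin ξ).2.1] at e2
      rw [map_eq_zero] at e1 e2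
      exact h.elim (fun h => h e1) fun h => h e2
    · rw [rev_eval q t ht] at e1
      rw [rev_eval ξ t ht] at e2
      obtain ⟨u, v, e⟩ := hcop
      have := congrArg (aeval t⁻¹) e
      simp only [mul_eq_zero, pow_eq_zero_iff', ht, false_and, false_or] at e1 e2
      simp [e1, e2] at this

open Polynomial in
theorem resultant_ne_zero_iff {k : Type*} [Field k] {f g : k[X]} {m n : ℕ} (hf : f.natDegree ≤ m)
    (hg : g.natDegree ≤ n) (hm : 0 < m) (hn : 0 < n) :
    resultant f g m n ≠ 0 ↔ IsCoprime f g ∧ (f.coeff m ≠ 0 ∨ g.coeff n ≠ 0) := by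
  by_cases h : f.coeff m = 0 ∧ g.coeff n = 0
  · have hlt : ∀ {p : k[X]} {d : ℕ}, 0 < d → p.natDegree ≤ d → p.coeff d = 0 → p.natDegree < d := by
      intro p d hd hp hc
      rcases hp.lt_or_eq with hl | he
      · exact hl
      · exfalso
        have : p ≠ 0 := fun h0 => by simp [h0] at he; omega
        exact leadingCoeff_ne_zero.mpr this (by rw [leadingCoeff, he]; exact hc)
    rw [resultant_eq_zero_of_lt_lt _ _ _ _ (hlt hm hf h.1) (hlt hn hg h.2)]
    simp [h]
  · have h' : f.coeff m ≠ 0 ∨ g.coeff n ≠ 0 := by tauto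
    simp only [h', and_true]
    rcases h' with hc | hc
    · obtain rfl : f.natDegree = m := le_antisymm hf (le_natDegree_of_ne_zero hc)
      obtain ⟨j, rfl⟩ : ∃ j, n = g.natDegree + j := ⟨n - g.natDegree, by omega⟩
      rw [resultant_add_right_deg _ _ _ _ _ le_rfl, mul_ne_zero_iff, ne_eq, ne_eq, resultant_eq_zero_iff]
      have : f ≠ 0 := fun h0 => by simp [h0] at hc
      simp [hc, this]
    · obtain rfl : g.natDegree = n := le_antisymm hg (le_natDegree_of_ne_zero hc)
      obtain ⟨j, rfl⟩ : ∃ j, m = f.natDegree + j := ⟨m - f.natDegree, by omega⟩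
      rw [resultant_add_left_deg _ _ _ _ _ le_rfl, mul_ne_zero_iff, mul_ne_zero_iff, ne_eq, ne_eq, ne_eq,
        resultant_eq_zero_iff]
      have : g ≠ 0 := fun h0 => by simp [h0] at hc
      simp [hc, this]

end Groth.Agent.Curves2
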