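import Groth.Agent.Curves2.CurveModel
import Groth.Agent.Curves2.OpenIso
import Groth.Agent.LimTop61.BirationalZMT
import Groth.Agent.Crv77.Basic

/-! Normal curves embed as open subschemes in normal projective curves. -/

universe u

open CategoryTheory CategoryTheory.Limits AlgebraicGeometry Opposite TopologicalSpace
open scoped IntermediateField

noncomputable section

set_option backward.isDefEq.respectTransparency false

namespace Groth.Agent.Curves2

theorem spec_constField (k : Type u) [Field k] (X : Scheme.{u}) [X.Over (Spec (CommRingCat.of k))] [IsIntegral X] :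
    Spec.map (CommRingCat.ofHom (Var76.VarDim.constField k X)) =
      X.fromSpecStalk (genericPoint X) ≫ (X ↘ Spec (CommRingCat.of k)) := by
  obtain ⟨W, hW, hgW, -⟩ := exists_isAffineOpen_mem_and_subset (U := (⊤ : X.Opens)) (x := genericPoint X) trivial
  have h : CommRingCat.ofHom (Var76.VarDim.constField k X) =
      CommRingCat.ofHom (Var76.BertiniScheme.const (k := k) X W) ≫ X.presheaf.germ W (genericPoint X) hgW :=
    CommRingCat.hom_ext (RingHom.ext fun r => (Var76.VarDim.germ_const (k := k) hgW r).symm)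
  rw [← hW.fromSpecStalk_eq_fromSpecStalk hgW, IsAffineOpen.fromSpecStalk, h, Spec.map_comp,
    Var76.BertiniScheme.SpecMap_const hW, Category.assoc]

/-- A normal curve is an open subscheme of a normal projective curve. -/
theorem exists_openImmersion_model (k : Type u) [Field k] (X : Scheme.{u}) [X.Over (Spec (CommRingCat.of k))]
    [IsIntegral X] [IsSeparated (X ↘ Spec (CommRingCat.of k))]
    [LocallyOfFiniteType (X ↘ Spec (CommRingCat.of k))] [QuasiCompact (X ↘ Spec (CommRingCat.of k))]
    (hdim : topologicalKrullDim X = 1)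
    (hval : ∀ x : X, ∃ _ : IsDomain (X.presheaf.stalk x), ValuationRing (X.presheaf.stalk x)) :
    ∃ (Y : Scheme.{u}) (_ : IsIntegral Y) (sY : Y ⟶ Spec (CommRingCat.of k)) (j : X ⟶ Y),
      IsOpenImmersion j ∧ j ≫ sY = X ↘ Spec (CommRingCat.of k) ∧
      (∃ (N : ℕ) (i : Y ⟶ CohB1.ProjSpace N k), IsClosedImmersion i ∧ i ≫ CohB1.ProjSpace.toSpec N k = sY) ∧
      (∀ y : Y, ∃ _ : IsDomain (Y.presheaf.stalk y), ValuationRing (Y.presheaf.stalk y)) ∧
      topologicalKrullDim Y = 1 := by
  set sX := X ↘ Spec (CommRingCat.of k) with hsX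
  let : Algebra k X.functionField := (Var76.VarDim.constField k X).toAlgebra
  obtain ⟨htr, t, ht⟩ := ProjModel.exists_finite_adjoin k X hdim
  obtain ⟨Y, hint, sY, ⟨N, i, hi, his⟩, hvY, hdY, σ, hσ⟩ := ProjModel.exists_model k X.functionField t htr
  have : IsProper (CohB1.ProjSpace.toSpec N k) := Curves2.ProjLine.isProper_toSpec k N
  have : IsProper sY := his ▸ inferInstanceAs (IsProper (i ≫ CohB1.ProjSpace.toSpec N k))
  have hcompat : Spec.map σ.hom ≫ Y.fromSpecStalk (genericPoint Y) ≫ sY =
      X.fromSpecStalk (genericPoint X) ≫ sX := hσ.trans (spec_constField k X)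
  obtain ⟨U, V, e, hgU, he⟩ := exists_open_iso_of_functionField sX sY σ hcompat
  have : Nonempty U := ⟨⟨_, hgU⟩⟩
  have : IsLocallyNoetherian X := LocallyOfFiniteType.isLocallyNoetherian sX
  obtain ⟨g, hg, hgU'⟩ := exists_extension_of_valuationRing sY sX hval U (e.hom ≫ V.ι)
    (by rw [Category.assoc]; exact he)
  refine ⟨Y, hint, sY, g, ?_, hg, ⟨N, i, hi, his⟩, hvY, hdY⟩
  have : IsSeparated (g ≫ sY) := hg ▸ ‹IsSeparated sX›
  have : LocallyOfFiniteType (g ≫ sY) := hg ▸ ‹LocallyOfFiniteType sX›
  have : QuasiCompact (g ≫ sY) := hg ▸ ‹QuasiCompact sX›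
  have : IsSeparated g := IsSeparated.of_comp g sY
  have : LocallyOfFiniteType g := locallyOfFiniteType_of_comp g sY
  have : QuasiCompact g := QuasiCompact.of_comp g sY
  have hopen : IsOpenImmersion (U.ι ≫ g) := hgU' ▸ inferInstance
  have hgen : g (genericPoint X) = genericPoint Y := by
    have hne : (Set.range (U.ι ≫ g)).Nonempty := ⟨_, ⟨_, hgU⟩, rfl⟩
    have : genericPoint Y ∈ Set.range (U.ι ≫ g) :=
      ((genericPoint_spec Y).mem_open_set_iff (U.ι ≫ g).isOpenEmbedding.isOpen_range).2 (by simpa using hne)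
    obtain ⟨u, hu⟩ := this
    have h1 : g (genericPoint X) ⤳ g u.1 := (genericPoint_specializes u.1).map g.continuous
    rw [Scheme.Hom.comp_apply] at hu
    exact eq_genericPoint_of_specializes (hu ▸ h1 : g (genericPoint X) ⤳ genericPoint Y)
  have hbir : IsIso (g.stalkMap (genericPoint X)) := by
    have h1 : IsIso ((U.ι ≫ g).stalkMap ⟨genericPoint X, hgU⟩) :=
      (IsOpenImmersion.iff_isIso_stalkMap.mp inferInstance).2 _
    rw [Scheme.Hom.stalkMap_comp] at h1
    have h2 : IsIso (U.ι.stalkMap ⟨genericPoint X, hgU⟩) :=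
      (IsOpenImmersion.iff_isIso_stalkMap.mp inferInstance).2 _
    exact @IsIso.of_isIso_comp_right _ _ _ _ _ _ _ h2 h1
  have : JacobsonSpace Y := LocallyOfFiniteType.jacobsonSpace sY
  have hclosed : ∀ x : X, x ≠ genericPoint X → g x ≠ genericPoint Y := by
    intro x hx h
    have h1 : IsClosed ({g x} : Set Y) :=
      g.closePoints_subset_preimage_closedPoints (Crv77.isClosed_singleton hdim.le hx)
    obtain ⟨z, hz⟩ := Crv77.exists_ne_genericPoint hdY
    exact hz (by simpa [h] using (genericPoint_specializes z).mem_closed h1 (Set.mem_singleton_iff.2 h.symm))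
  have : CompactSpace X := QuasiCompact.compactSpace_of_compactSpace sX
  have : IsNoetherian X := { }
  have : LocallyQuasiFinite g := by
    refine LocallyQuasiFinite.of_finite_preimage_singleton g fun y => ?_
    by_cases hy : y = genericPoint Y
    · refine (Set.finite_singleton (genericPoint X)).subset fun x hx => ?_
      by_contra hne
      exact hclosed x hne (hy ▸ hx)
    · have h1 : IsClosed (g ⁻¹' {y}) := (Crv77.isClosed_singleton hdY.le hy).preimage g.continuous
      exact Crv77.finite_of_isClosed' hdim.le h1 fun h => hy ((show g _ = y from h).symm.trans hgen)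
  exact LimTop61.isOpenImmersion_of_birational g (fun y => by
    obtain ⟨_, _⟩ := hvY y
    infer_instance) hgen hbir

end Groth.Agent.Curves2
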