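import Groth.Agent.Curves2.ProjModel
import Groth.Agent.Curves2.CurvePlaces
import Groth.Agent.Curves2.CurveEmbed

/-! Morphisms to projective space from rational functions. -/

universe u

open CategoryTheory CategoryTheory.Limits AlgebraicGeometry Opposite TopologicalSpace

noncomputable section

set_option backward.isDefEq.respectTransparency false

namespace Groth.Agent.Curves2

open Var76.ProjCoord HomogeneousLocalization

variable (k : Type u) [Field k] {n : ℕ} {X : Scheme.{u}} [X.Over (Spec (CommRingCat.of k))] [IsIntegral X]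

theorem regAt_constField (x : X) (r : k) : RegAt x (Var76.VarDim.constField k X r) := by
  refine ⟨X.presheaf.germ ⊤ x trivial (Var76.BertiniScheme.const (k := k) X ⊤ r), ?_⟩
  rw [algebraMap_germ]
  rfl

theorem isOpen_regAt (z : X.functionField) : IsOpen {x : X | RegAt x z} := by
  refine isOpen_iff_forall_mem_open.2 fun x hx => ?_
  obtain ⟨a, ha⟩ := hx
  obtain ⟨U, hU, s, rfl⟩ := TopCat.Presheaf.exists_germ_eq X.presheaf a
  refine ⟨U, fun y hy => ⟨X.presheaf.germ U y hy s, ?_⟩, U.2, hU⟩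
  rw [algebraMap_germ, ← ha, algebraMap_germ]

theorem regAt_evalAway (h : Fin (n + 1) → X.functionField) (hh : ∀ i, h i ≠ 0) (j : Fin (n + 1)) (x : X)
    (hx : ∀ i, RegAt x (h i / h j))
    (z : Away (CohB1.polyGrading n k) (MvPolynomial.X j : MvPolynomial (Fin (n + 1)) k)) :
    letI := (Var76.VarDim.constField k X).toAlgebra
    RegAt x (ProjModel.evalAway k h _ (ProjModel.aeval_X_ne_zero k h hh j) z) := by
  classical
  let : Algebra k X.functionField := (Var76.VarDim.constField k X).toAlgebra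
  obtain ⟨c, rfl⟩ := HomogeneousLocalization.mk_surjective z
  obtain ⟨m, hm⟩ := c.den_mem
  have hm : (MvPolynomial.X j : MvPolynomial (Fin (n + 1)) k) ^ m = c.den.1 := hm
  rw [ProjModel.evalAway_mk]
  by_cases h0 : c.num.1 = 0
  · refine ⟨0, ?_⟩; rw [h0, map_zero (MvPolynomial.aeval h), zero_div, map_zero]
  have hdeg : c.num.1.IsHomogeneous m := by
    have h1 : c.num.1.IsHomogeneous c.deg := c.num.2
    have h2 : c.den.1.IsHomogeneous c.deg := c.den.2
    have h3 : c.den.1.IsHomogeneous m := hm ▸ (MvPolynomial.isHomogeneous_X_pow j m)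
    rw [← h2.inj_right h3 (hm ▸ pow_ne_zero _ (MvPolynomial.X_ne_zero j))]
    exact h1
  have key : MvPolynomial.aeval h c.num.1 / MvPolynomial.aeval h c.den.1 =
      MvPolynomial.aeval (fun i => h i / h j) c.num.1 := by
    have hj0 : h j ^ m ≠ 0 := pow_ne_zero _ (hh j)
    rw [← hm, map_pow, MvPolynomial.aeval_X, div_eq_iff hj0]
    simp only [MvPolynomial.aeval_def, MvPolynomial.eval₂_eq, Finset.sum_mul]
    refine Finset.sum_congr rfl fun d hd => ?_
    have hd' : ∑ i ∈ d.support, d i = m := by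
      have := hdeg (MvPolynomial.mem_support_iff.1 hd)
      rw [← this, Finsupp.weight_apply]
      simp [Finsupp.sum]
    rw [mul_assoc]
    congr 1
    rw [← hd', ← Finset.prod_pow_eq_pow_sum, ← Finset.prod_mul_distrib]
    refine Finset.prod_congr rfl fun i _ => ?_
    rw [← mul_pow, div_mul_cancel₀ _ (hh j)]
  rw [key]
  let L : Subalgebra k X.functionField :=
    { (algebraMap (X.presheaf.stalk x) X.functionField).range.toSubsemiring with
      algebraMap_mem' := fun r => regAt_constField k x r }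
  have hle : (MvPolynomial.aeval fun i => h i / h j).range ≤ L := by
    rw [← Algebra.adjoin_range_eq_range_aeval]
    exact Algebra.adjoin_le (Set.range_subset_iff.2 hx)
  exact hle ⟨c.num.1, rfl⟩

variable [IsSeparated (X ↘ Spec (CommRingCat.of k))]

/-- A morphism to projective space from rational functions without indeterminacy. -/
theorem exists_hom_of_regAt (h : Fin (n + 1) → X.functionField) (hh : ∀ i, h i ≠ 0)
    (hreg : ∀ x : X, ∃ j, ∀ i, RegAt x (h i / h j)) :
    letI := (Var76.VarDim.constField k X).toAlgebra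
    ∃ φ : X ⟶ CohB1.ProjSpace n k, φ ≫ CohB1.ProjSpace.toSpec n k = X ↘ Spec (CommRingCat.of k) ∧
      X.fromSpecStalk (genericPoint X) ≫ φ = ProjModel.ptAt k h hh 0 ∧
      ∀ x j, (∀ i, RegAt x (h i / h j)) → φ x ∈ U k n j := by
  classical
  let : Algebra k X.functionField := (Var76.VarDim.constField k X).toAlgebra
  let sX := X ↘ Spec (CommRingCat.of k)
  let sP := CohB1.ProjSpace.toSpec n k
  have : IsProper sP := ProjLine.isProper_toSpec k n
  let W : Fin (n + 1) → X.Opens := fun j =>
    ⟨⋂ i, {x : X | RegAt x (h i / h j)}, isOpen_iInter_of_finite fun i => isOpen_regAt (h i / h j)⟩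
  have hmem : ∀ j x, x ∈ W j ↔ ∀ i, RegAt x (h i / h j) := fun j x => Set.mem_iInter
  have hgW : ∀ j, genericPoint X ∈ W j := fun j => (hmem j _).2 fun i => regAt_genericPoint _
  have hne : ∀ j, Nonempty (W j : X.Opens) := fun j => ⟨⟨_, hgW j⟩⟩
  have hsec : ∀ j z, ∃ s : Γ(X, W j), X.presheaf.germ (W j) (genericPoint X) (hgW j) s =
      ProjModel.evalAway k h _ (ProjModel.aeval_X_ne_zero k h hh j) z := fun j z =>
    exists_section_of_regAt (W j) (hgW j) _ fun x hx => regAt_evalAway k h hh j x ((hmem j x).1 hx) z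
  choose s hs using hsec
  have hinj : ∀ j, Function.Injective (X.presheaf.germ (W j) (genericPoint X) (hgW j)) := fun j =>
    germ_injective_of_isIntegral X (genericPoint X) (hgW j)
  let ω : ∀ j, Away (CohB1.polyGrading n k) (MvPolynomial.X j : MvPolynomial (Fin (n + 1)) k) →+* Γ(X, W j) :=
    fun j =>
    { toFun := s j
      map_one' := hinj j (by rw [hs, map_one, map_one])
      map_mul' := fun a b => hinj j (by simp only [hs, map_mul])
      map_zero' := hinj j (by rw [hs, map_zero, map_zero])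
      map_add' := fun a b => hinj j (by simp only [hs, map_add]) }
  let m : ∀ j, (W j : Scheme.{u}) ⟶ CohB1.ProjSpace n k := fun j =>
    (W j).toSpecΓ ≫ Spec.map (CommRingCat.ofHom (ω j)) ≫
      Proj.awayι (CohB1.polyGrading n k) (MvPolynomial.X j) (X₁ k n j).2 one_pos
  have hgen : ∀ (j : Fin (n + 1)) (l : Spec X.functionField ⟶ (W j : Scheme.{u})),
      l ≫ (W j).ι = X.fromSpecStalk _ → l ≫ m j = ProjModel.ptAt k h hh 0 := by
    intro j l hl
    have hl' : l = (W j).fromSpecStalkOfMem _ (hgW j) := by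
      rw [← cancel_mono (W j).ι, hl, Scheme.Opens.fromSpecStalkOfMem_ι]
    rw [hl', ProjModel.ptAt_eq k h hh 0 j, ProjModel.ptAt]
    simp only [m, Scheme.Opens.fromSpecStalkOfMem_toSpecΓ_assoc]
    rw [← Spec.map_comp_assoc]
    congr 2
    exact CommRingCat.hom_ext (RingHom.ext fun z => hs j z)
  have hover : ∀ j, m j ≫ sP = (W j).ι ≫ sX := fun j => by
    refine hom_ext_generic (terminal.from (Spec (CommRingCat.of k))) (W j).ι _ _ (terminal.hom_ext _ _) fun l hl => ?_
    rw [← Category.assoc, hgen j l hl, ← Category.assoc, hl]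
    exact (ProjModel.ptAt_toSpec k h hh 0).trans (spec_constField k X)
  let 𝒰 := X.openCoverOfIsOpenCover W (TopologicalSpace.IsOpenCover.mk (eq_top_iff.2 fun x _ => by
    obtain ⟨j, hj⟩ := hreg x
    exact Opens.mem_iSup.2 ⟨j, (hmem j x).2 hj⟩))
  let φ : X ⟶ CohB1.ProjSpace n k := 𝒰.glueMorphisms m (by
    intro (a : Fin (n + 1)) (b : Fin (n + 1))
    have : Nonempty ↥(pullback (W a).ι (W b).ι) := by
      obtain ⟨z, -, -⟩ := Scheme.Pullback.exists_preimage_pullback (f := (W a).ι) (g := (W b).ι)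
        ⟨_, hgW a⟩ ⟨_, hgW b⟩ rfl
      exact ⟨z⟩
    refine hom_ext_generic sP (pullback.fst (W a).ι (W b).ι ≫ (W a).ι) _ _ ?_ fun l hl => ?_
    · show (pullback.fst (W a).ι (W b).ι ≫ m a) ≫ sP = (pullback.snd (W a).ι (W b).ι ≫ m b) ≫ sP
      refine (Category.assoc _ _ _).trans (Eq.trans ?_ (Category.assoc _ _ _).symm)
      rw [hover, hover, pullback.condition_assoc]
    · show l ≫ pullback.fst (W a).ι (W b).ι ≫ m a = l ≫ pullback.snd (W a).ι (W b).ι ≫ m b
      refine (Category.assoc _ _ _).symm.trans (Eq.trans ?_ (Category.assoc _ _ _))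
      rw [hgen a _ (by rw [Category.assoc]; exact hl),
        hgen b _ (by rw [Category.assoc, ← pullback.condition]; exact hl)])
  have hφ : ∀ j, (W j).ι ≫ φ = m j := fun j => 𝒰.ι_glueMorphisms _ _ j
  refine ⟨φ, ?_, ?_, fun x j hx => ?_⟩
  · refine 𝒰.hom_ext _ _ fun j => ?_
    show (W j).ι ≫ φ ≫ sP = (W j).ι ≫ sX
    rw [← Category.assoc, hφ, hover]
  · rw [← (W 0).fromSpecStalkOfMem_ι _ (hgW 0), Category.assoc, hφ]
    exact hgen 0 _ (Scheme.Opens.fromSpecStalkOfMem_ι _ _ _)
  · rw [show φ x = ((W j).ι ≫ φ) ⟨x, (hmem j x).2 hx⟩ from rfl, hφ]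
    show m j ⟨x, (hmem j x).2 hx⟩ ∈ _
    exact (Proj.opensRange_awayι (CohB1.polyGrading n k) (MvPolynomial.X j) (X₁ k n j).2 one_pos).le ⟨_, rfl⟩

end Groth.Agent.Curves2
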