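import Groth.Agent.Curves2.ProjLineProper
import Groth.Agent.Var76.VarDim
import Groth.Agent.VarGal.GeomRed
import Mathlib.FieldTheory.RatFunc.Luroth

/-! The function field of the projective line; curves dominated by the projective line are rational. -/

universe u

open CategoryTheory AlgebraicGeometry TopologicalSpace

set_option backward.isDefEq.respectTransparency false

namespace Groth.Agent.Curves2.ProjLine

open Var76.ProjCoord HomogeneousLocalization

variable (k : Type u) [Field k]

/-- `k[T] → Γ(U₀)`, `T ↦ X₁/X₀` -/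
noncomputable def ψ₀ : Polynomial k →+* Γ(CohB1.ProjSpace 1 k, U k 1 0) :=
  Polynomial.eval₂RingHom (Var76.BertiniScheme.const (k := k) (CohB1.ProjSpace 1 k) (U k 1 0))
    (Proj.awayToSection (CohB1.polyGrading 1 k) (MvPolynomial.X 0) (frac k 1 0 (X₁ k 1 1)))

theorem ψ₀_C (r : k) :
    ψ₀ k (Polynomial.C r) = Var76.BertiniScheme.const (k := k) (CohB1.ProjSpace 1 k) (U k 1 0) r :=
  Polynomial.eval₂_C _ _

theorem ψ₀_bijective : Function.Bijective (ψ₀ k) := by
  classical
  let 𝒜 := CohB1.polyGrading 1 k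
  let f : MvPolynomial (Fin 2) k := MvPolynomial.X 0
  constructor
  · -- evaluation at `(1, T)`
    have hu : ∀ y : Submonoid.powers f, IsUnit (MvPolynomial.aeval ![(1 : Polynomial k), Polynomial.X] y.1) := by
      rintro ⟨_, n, rfl⟩
      simp [f]
    let ev : Localization (Submonoid.powers f) →+* Polynomial k := IsLocalization.lift (M := Submonoid.powers f) (g := (MvPolynomial.aeval ![(1 : Polynomial k), Polynomial.X]).toRingHom) hu
    let χ : Away 𝒜 f →+* Polynomial k := ev.comp (algebraMap _ _)
    let a := Proj.awayToSection 𝒜 f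
    have : IsIso a := (Proj.basicOpenIsoAway 𝒜 f (X₁ k 1 0).2 one_pos).isIso_hom
    let i := (asIso a).commRingCatIsoToRingEquiv
    have key : (χ.comp i.symm.toRingHom).comp (ψ₀ k) = RingHom.id _ := by
      refine Polynomial.ringHom_ext (fun r => ?_) ?_
      · have hc : Var76.BertiniScheme.const (k := k) (CohB1.ProjSpace 1 k) (U k 1 0) r =
            i (fromZeroRingHom 𝒜 _ (algebraMap k (𝒜 0) r)) :=
          congr($(const_eq k 1 0) r)
        show χ (i.symm (ψ₀ k (Polynomial.C r))) = _
        rw [ψ₀_C, hc, RingEquiv.symm_apply_apply]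
        show ev (HomogeneousLocalization.val (HomogeneousLocalization.mk
          ⟨0, algebraMap k (𝒜 0) r, ⟨1, SetLike.GradedOne.one_mem⟩, one_mem _⟩)) = _
        rw [HomogeneousLocalization.val_mk, Localization.mk_eq_mk', IsLocalization.lift_mk'_spec]
        simp
      · show χ (i.symm (ψ₀ k Polynomial.X)) = _
        rw [show ψ₀ k Polynomial.X = i (frac k 1 0 (X₁ k 1 1)) from Polynomial.eval₂_X _ _,
          RingEquiv.symm_apply_apply]
        show ev (frac k 1 0 (X₁ k 1 1)).val = _
        rw [frac, HomogeneousLocalization.val_mk, Localization.mk_eq_mk', IsLocalization.lift_mk'_spec]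
        simp [X₁]
    exact Function.LeftInverse.injective (g := χ.comp i.symm.toRingHom) fun p => congr($key p)
  · intro x
    obtain ⟨p, rfl⟩ := exists_eval₂_eq k 1 0 x
    refine ⟨MvPolynomial.eval₂ Polynomial.C ![1, Polynomial.X] p, ?_⟩
    rw [MvPolynomial.eval₂_comp_left (ψ₀ k)]
    congr 1
    · ext r
      exact ψ₀_C k r
    · funext i
      fin_cases i
      · have : frac k 1 0 (X₁ k 1 0) = 1 := by
          apply HomogeneousLocalization.val_injective
          rw [frac, HomogeneousLocalization.val_mk, HomogeneousLocalization.val_one]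
          exact Localization.mk_self (⟨(X₁ k 1 0).1, 1, pow_one _⟩ : Submonoid.powers _)
        simp [this]
      · simp [ψ₀]

theorem stalkMap_eq_germ_const {X : Scheme.{u}} [X.Over (Spec (CommRingCat.of k))] [IsIntegral X]
    {W : X.Opens} (hW : genericPoint X ∈ W) (r : k) :
    X.presheaf.germ W (genericPoint X) hW (Var76.BertiniScheme.const (k := k) X W r) =
      Curv2.stalkMap k X (genericPoint X) r := by
  rw [Var76.VarDim.germ_const]
  show X.presheaf.germ ⊤ (genericPoint X) trivial _ = X.presheaf.germ ⊤ (genericPoint X) trivial _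
  congr 1
  show Scheme.Hom.appLE _ ⊤ ⊤ _ _ = _
  simp [Scheme.Hom.appLE, Coh.toGlobal, Scheme.Hom.appTop]
  rfl

/-- the function field of `P¹` is `k(T)` -/
theorem exists_ratFunc_equiv [IsIntegral (CohB1.ProjSpace 1 k)] :
    ∃ ρ : RatFunc k ≃+* (CohB1.ProjSpace 1 k).functionField,
      ∀ r : k, ρ (algebraMap k (RatFunc k) r) =
        Curv2.stalkMap k (CohB1.ProjSpace 1 k) (genericPoint (CohB1.ProjSpace 1 k)) r := by
  let W := U k 1 0
  have : Nonempty W := by
    by_contra hne
    have := isDomain_chart k 1 0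
    obtain ⟨p⟩ := (PrimeSpectrum.nonempty_iff_nontrivial (R := Γ(CohB1.ProjSpace 1 k, W))).mpr inferInstance
    exact hne ⟨⟨(isAffineOpen_U k 1 0).fromSpec p, by
      rw [← SetLike.mem_coe, ← (isAffineOpen_U k 1 0).range_fromSpec]; exact Set.mem_range_self _⟩⟩
  have hgW : genericPoint (CohB1.ProjSpace 1 k) ∈ W := (genericPoint_spec _).mem_open_set_iff W.2 |>.2
    ⟨(Classical.arbitrary W).1, Set.mem_univ _, (Classical.arbitrary W).2⟩
  have : IsFractionRing Γ(CohB1.ProjSpace 1 k, W) (CohB1.ProjSpace 1 k).functionField :=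
    functionField_isFractionRing_of_isAffineOpen _ W (isAffineOpen_U k 1 0)
  let e := RingEquiv.ofBijective (ψ₀ k) (ψ₀_bijective k)
  let ρ := IsFractionRing.ringEquivOfRingEquiv (K := RatFunc k) (L := (CohB1.ProjSpace 1 k).functionField) e
  refine ⟨ρ, fun r => ?_⟩
  rw [IsScalarTower.algebraMap_apply k (Polynomial k) (RatFunc k)]
  show ρ (algebraMap (Polynomial k) (RatFunc k) (Polynomial.C r)) = _
  rw [IsFractionRing.ringEquivOfRingEquiv_algebraMap]
  exact (congrArg _ (ψ₀_C k r)).trans (stalkMap_eq_germ_const k hgW r)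

/-- a curve dominated by `P¹` is rational -/
theorem exists_open_iso_of_dominated {C : Scheme.{u}} [C.Over (Spec (CommRingCat.of k))] [IsIntegral C]
    [IsSeparated (C ↘ Spec (CommRingCat.of k))] [LocallyOfFiniteType (C ↘ Spec (CommRingCat.of k))]
    (hdim : topologicalKrullDim C = 1) [IsIntegral (CohB1.ProjSpace 1 k)]
    (φ : CohB1.ProjSpace 1 k ⟶ C) (hφ : φ ≫ C ↘ Spec (CommRingCat.of k) = CohB1.ProjSpace.toSpec 1 k)
    (hgen : φ (genericPoint (CohB1.ProjSpace 1 k)) = genericPoint C) :
    ∃ σ : C.functionField ≅ (CohB1.ProjSpace 1 k).functionField,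
      Spec.map σ.hom ≫ C.fromSpecStalk _ ≫ C ↘ Spec (CommRingCat.of k) =
        (CohB1.ProjSpace 1 k).fromSpecStalk _ ≫ CohB1.ProjSpace.toSpec 1 k := by
  let P := CohB1.ProjSpace 1 k
  obtain ⟨ρ, hρ⟩ := exists_ratFunc_equiv k
  let cC := Curv2.stalkMap k C (genericPoint C)
  let cP := Curv2.stalkMap k P (genericPoint P)
  let : Algebra k C.functionField := cC.toAlgebra
  let m : C.functionField ⟶ P.functionField :=
    C.presheaf.stalkSpecializes (specializes_of_eq hgen) ≫ φ.stalkMap (genericPoint P)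
  have hm : CommRingCat.ofHom cC ≫ m = CommRingCat.ofHom cP := by
    apply Spec.map_injective
    rw [Spec.map_comp, VarGal.SpecMap_curvStalkMap, VarGal.SpecMap_curvStalkMap, Spec.map_comp,
      Category.assoc, Scheme.SpecMap_stalkSpecializes_fromSpecStalk_assoc,
      Scheme.SpecMap_stalkMap_fromSpecStalk_assoc, hφ]
    rfl
  let θ : C.functionField →ₐ[k] RatFunc k :=
    { ρ.symm.toRingHom.comp m.hom with
      commutes' := fun r => by
        show ρ.symm (m (cC r)) = _
        rw [show m (cC r) = cP r from congr($hm r), ← hρ r, RingEquiv.symm_apply_apply] }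
  have hE : θ.fieldRange ≠ ⊥ := by
    intro hbot
    have hsurj : Function.Surjective (algebraMap k C.functionField) := by
      intro x
      have hx : θ x ∈ θ.fieldRange := ⟨x, rfl⟩
      rw [hbot, IntermediateField.mem_bot] at hx
      obtain ⟨r, hr⟩ := hx
      exact ⟨r, θ.toRingHom.injective ((θ.commutes r).trans hr)⟩
    have : Algebra.IsAlgebraic k C.functionField :=
      ⟨fun x => by obtain ⟨r, rfl⟩ := hsurj x; exact isAlgebraic_algebraMap r⟩
    obtain ⟨W, hW, hxW, -⟩ := exists_isAffineOpen_mem_and_subset (U := (⊤ : C.Opens)) (x := genericPoint C) trivial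
    have : Nonempty W := ⟨⟨_, hxW⟩⟩
    have h1 := (Var76.VarDim.trdeg_chart (k := k) hW).2
    rw [Var76.VarDim.trdegFF_eq (k := k) (d := 1) hdim] at h1
    have hc : Var76.VarDim.constField k C = cC := RingHom.ext fun r => by
      rw [← Var76.VarDim.germ_const hxW, stalkMap_eq_germ_const]
    rw [hc] at h1
    have h0 : Algebra.trdeg k C.functionField = 0 := trdeg_eq_zero
    exact absurd (h0.symm.trans h1) (by simp)
  let τ : C.functionField ≃ₐ[k] RatFunc k :=
    (AlgEquiv.ofInjectiveField θ).trans (RatFunc.Luroth.algEquiv hE).symm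
  let σ := (τ.toRingEquiv.trans ρ).toCommRingCatIso
  refine ⟨σ, ?_⟩
  rw [← VarGal.SpecMap_curvStalkMap, ← Spec.map_comp]
  show _ = _ ≫ (P ↘ Spec (CommRingCat.of k))
  rw [← VarGal.SpecMap_curvStalkMap]
  congr 1
  ext r
  show ρ (τ (cC r)) = cP r
  rw [show τ (cC r) = algebraMap k (RatFunc k) r from τ.commutes r, hρ]

end Groth.Agent.Curves2.ProjLine
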