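import Groth.Agent.Curves2.AffineCurve
import Groth.Agent.Curves2.HomToProj

/-! Proper integral curves are projective. -/

set_option autoImplicit false

universe u

open CategoryTheory CategoryTheory.Limits AlgebraicGeometry Opposite TopologicalSpace

noncomputable section

set_option backward.isDefEq.respectTransparency false

namespace Groth.Agent.Curves2

variable (k : Type u) [Field k] {X : Scheme.{u}} [X.Over (Spec (CommRingCat.of k))] [IsIntegral X]

theorem regAt_mul {x : X} {a b : X.functionField} (ha : RegAt x a) (hb : RegAt x b) : RegAt x (a * b) := by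
  obtain ⟨a, rfl⟩ := ha; obtain ⟨b, rfl⟩ := hb
  exact ⟨a * b, map_mul _ _ _⟩

theorem regAt_one {x : X} : RegAt x (1 : X.functionField) := ⟨1, map_one _⟩

/-- Affine open as a model: generators, and local rings as localizations. -/
theorem exists_gens (U : X.Opens) (hU : IsAffineOpen U) (hgU : genericPoint X ∈ U)
    [LocallyOfFiniteType (X ↘ Spec (CommRingCat.of k))] :
    letI := (Var76.VarDim.constField k X).toAlgebra
    ∃ (m : ℕ) (f : Fin (m + 1) → X.functionField), f 0 = 1 ∧ (∀ i, f i ≠ 0) ∧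
      (∀ x ∈ U, ∀ i, RegAt x (f i)) ∧
      (∀ x ∈ U, ∀ z, RegAt x z → ∃ a ∈ Algebra.adjoin k (Set.range f), ∃ s ∈ Algebra.adjoin k (Set.range f),
        s ≠ 0 ∧ RegAt x s⁻¹ ∧ z = a / s) ∧
      ∀ x ∈ U, ∀ y ∈ U, (∀ z, RegAt x z ↔ RegAt y z) → x = y := by
  classical
  let : Algebra k X.functionField := (Var76.VarDim.constField k X).toAlgebra
  let : Algebra k Γ(X, U) := (Var76.BertiniScheme.const (k := k) X U).toAlgebra
  have := Var76.VarDim.finiteType_const (k := k) hU
  let γ : Γ(X, U) →ₐ[k] X.functionField :=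
    { toRingHom := (X.presheaf.germ U (genericPoint X) hgU).hom
      commutes' := fun r => Var76.VarDim.germ_const hgU r }
  have hγ : Function.Injective γ := germ_injective_of_isIntegral X (genericPoint X) hgU
  obtain ⟨s, hs⟩ := (Subalgebra.fg_iff_finiteType γ.range).2
    (Algebra.FiniteType.of_surjective γ.rangeRestrict γ.rangeRestrict_surjective)
  let s' : Finset X.functionField := s.filter (· ≠ 0)
  let f : Fin (s'.card + 1) → X.functionField := Fin.cons 1 fun i => (s'.equivFin.symm i : X.functionField)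
  have hf : ∀ i, f i ≠ 0 := by
    intro i
    refine Fin.cases ?_ (fun j => ?_) i
    · simp [f]
    · simp only [f, Fin.cons_succ]
      exact (Finset.mem_filter.1 (s'.equivFin.symm j).2).2
  have hadj : Algebra.adjoin k (Set.range f) = γ.range := by
    refine le_antisymm (Algebra.adjoin_le (Set.range_subset_iff.2 fun i => ?_)) ?_
    · refine Fin.cases ?_ (fun j => ?_) i
      · simp only [f, Fin.cons_zero]; exact one_mem γ.range
      · simp only [f, Fin.cons_succ]
        rw [← hs]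
        exact Algebra.subset_adjoin (Finset.mem_filter.1 (s'.equivFin.symm j).2).1
    · rw [← hs]
      refine Algebra.adjoin_le fun x hx => ?_
      by_cases h0 : x = 0
      · rw [h0]; exact zero_mem _
      · exact Algebra.subset_adjoin ⟨Fin.succ (s'.equivFin ⟨x, Finset.mem_filter.2 ⟨hx, h0⟩⟩), by simp [f]⟩
  have hγreg : ∀ x ∈ U, ∀ a, RegAt x (γ a) := fun x hx a => ⟨X.presheaf.germ U x hx a, algebraMap_germ x hx a⟩
  have hunit : ∀ x (hx : x ∈ U) a, a ≠ 0 →
      (a ∉ (hU.primeIdealOf ⟨x, hx⟩).asIdeal ↔ RegAt x (γ a)⁻¹) := by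
    intro x hx a ha
    let := TopCat.Presheaf.algebra_section_stalk X.presheaf ⟨x, hx⟩
    have := hU.isLocalization_stalk ⟨x, hx⟩
    have hval : algebraMap (X.presheaf.stalk x) X.functionField (algebraMap Γ(X, U) (X.presheaf.stalk x) a) = γ a :=
      algebraMap_germ x hx a
    constructor
    · intro h
      obtain ⟨v, hv⟩ := IsLocalization.map_units (X.presheaf.stalk x)
        (⟨a, h⟩ : (hU.primeIdealOf ⟨x, hx⟩).asIdeal.primeCompl)
      refine ⟨(v⁻¹ : (X.presheaf.stalk x)ˣ), ?_⟩
      rw [map_units_inv, hv, hval]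
    · rintro ⟨b, hb⟩
      refine fun h => ?_
      have h1 : algebraMap Γ(X, U) (X.presheaf.stalk x) a * b = 1 :=
        IsFractionRing.injective (X.presheaf.stalk x) X.functionField (by
          rw [map_mul, hval, hb, map_one, mul_inv_cancel₀]
          exact fun h0 => ha (hγ (h0.trans (map_zero γ).symm)))
      exact (IsLocalization.AtPrime.isUnit_to_map_iff (X.presheaf.stalk x)
        (hU.primeIdealOf ⟨x, hx⟩).asIdeal a).1 (IsUnit.of_mul_eq_one b h1) h
  refine ⟨s'.card, f, by simp [f], hf, fun x hx i => ?_, ?_, ?_⟩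
  · obtain ⟨a, ha⟩ : f i ∈ γ.range := hadj ▸ Algebra.subset_adjoin ⟨i, rfl⟩
    exact ha ▸ hγreg x hx a
  · rintro x hx _ ⟨z, rfl⟩
    let := TopCat.Presheaf.algebra_section_stalk X.presheaf ⟨x, hx⟩
    have := hU.isLocalization_stalk ⟨x, hx⟩
    obtain ⟨⟨a, c⟩, hac⟩ := IsLocalization.surj (hU.primeIdealOf ⟨x, hx⟩).asIdeal.primeCompl z
    have hc0 : (c : Γ(X, U)) ≠ 0 := fun h => c.2 (h ▸ zero_mem _)
    have hne : γ c ≠ 0 := fun h => hc0 (hγ (h.trans (map_zero γ).symm))
    rw [hadj]
    refine ⟨γ a, ⟨a, rfl⟩, γ c, ⟨c, rfl⟩, hne, (hunit x hx c hc0).1 c.2, ?_⟩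
    rw [eq_div_iff hne]
    have h := congrArg (algebraMap (X.presheaf.stalk x) X.functionField) hac
    rw [map_mul] at h
    exact ((congrArg _ (algebraMap_germ x hx (c : Γ(X, U))).symm).trans h).trans (algebraMap_germ x hx a)
  · intro x hx y hy hxy
    have : hU.primeIdealOf ⟨x, hx⟩ = hU.primeIdealOf ⟨y, hy⟩ := by
      refine PrimeSpectrum.ext (Ideal.ext fun a => ?_)
      by_cases ha : a = 0
      · simp [ha]
      · rw [← not_iff_not, hunit x hx a ha, hunit y hy a ha]; exact hxy _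
    have h := congrArg hU.fromSpec this
    rwa [hU.fromSpec_primeIdealOf, hU.fromSpec_primeIdealOf] at h

variable [IsProper (X ↘ Spec (CommRingCat.of k))]

omit [IsIntegral X] [IsProper (X ↘ Spec (CommRingCat.of k))] in
theorem valuationRing_of_equiv {R S : Type u} [CommRing R] [CommRing S] [IsDomain R] [IsDomain S]
    (e : R ≃+* S) [ValuationRing R] : ValuationRing S :=
  ValuationRing.iff_dvd_total.2 ⟨fun a b =>
    ((ValuationRing.iff_dvd_total.1 ‹ValuationRing R›).total (e.symm a) (e.symm b)).imp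
      (fun h => by simpa using map_dvd e h) (fun h => by simpa using map_dvd e h)⟩

/-- A point with valuation local ring has a largest among finitely many non-zero functions. -/
theorem exists_max_regAt {x : X} (hx : ∃ _ : IsDomain (X.presheaf.stalk x), ValuationRing (X.presheaf.stalk x))
    {m : ℕ} (f : Fin (m + 1) → X.functionField) (hf : ∀ i, f i ≠ 0) :
    ∃ a, ∀ i, RegAt x (f i / f a) := by
  classical
  obtain ⟨_, _⟩ := hx
  suffices h : ∀ S : Finset (Fin (m + 1)), S.Nonempty → ∃ a ∈ S, ∀ i ∈ S, RegAt x (f i / f a) by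
    obtain ⟨a, -, ha⟩ := h Finset.univ Finset.univ_nonempty
    exact ⟨a, fun i => ha i (Finset.mem_univ i)⟩
  intro S hS
  induction hS using Finset.Nonempty.cons_induction with
  | singleton a => exact ⟨a, Finset.mem_singleton_self a, fun i hi => by
      rw [Finset.mem_singleton.1 hi, div_self (hf a)]; exact regAt_one⟩
  | cons b S hb hS ih =>
    obtain ⟨a, ha, hle⟩ := ih
    rcases ValuationRing.isInteger_or_isInteger (X.presheaf.stalk x) (f b / f a) with h | h
    · refine ⟨a, Finset.mem_cons.2 (Or.inr ha), fun i hi => ?_⟩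
      rcases Finset.mem_cons.1 hi with rfl | hi
      · exact h
      · exact hle i hi
    · rw [inv_div] at h
      refine ⟨b, Finset.mem_cons.2 (Or.inl rfl), fun i hi => ?_⟩
      rcases Finset.mem_cons.1 hi with rfl | hi
      · rw [div_self (hf i)]; exact regAt_one
      · have := regAt_mul (hle i hi) (show RegAt x (f a / f b) from h)
        rwa [div_mul_div_cancel₀ (hf a)] at this

include k in
theorem affine_compl_point (hdim : topologicalKrullDim X = 1) (x : X) (hx : IsClosed ({x} : Set X)) :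
    IsAffineOpen (⟨({x} : Set X)ᶜ, hx.isOpen_compl⟩ : X.Opens) := by
  set U : X.Opens := ⟨({x} : Set X)ᶜ, hx.isOpen_compl⟩
  set sX := X ↘ Spec (CommRingCat.of k)
  have hgU : genericPoint X ∈ U := fun h => Cyc90.not_isClosed_generic hdim
    (by rw [show genericPoint X = x from h]; exact hx)
  have : Nonempty U := ⟨⟨_, hgU⟩⟩
  have : IsIntegral (U : Scheme.{u}) := isIntegral_of_isOpenImmersion U.ι
  let : (U : Scheme.{u}).Over (Spec (CommRingCat.of k)) := ⟨U.ι ≫ sX⟩
  have : IsSeparated ((U : Scheme.{u}) ↘ Spec (CommRingCat.of k)) := inferInstanceAs (IsSeparated (U.ι ≫ sX))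
  have : LocallyOfFiniteType ((U : Scheme.{u}) ↘ Spec (CommRingCat.of k)) :=
    inferInstanceAs (LocallyOfFiniteType (U.ι ≫ sX))
  have : IsLocallyNoetherian X := LocallyOfFiniteType.isLocallyNoetherian sX
  have : CompactSpace X := QuasiCompact.compactSpace_of_compactSpace sX
  have : IsNoetherian X := { }
  have : QuasiCompact ((U : Scheme.{u}) ↘ Spec (CommRingCat.of k)) := inferInstanceAs (QuasiCompact (U.ι ≫ sX))
  refine isAffine_of_not_isProper k (U : Scheme.{u})
    ((VarGal.topologicalKrullDim_open_eq sX U ⟨_, hgU⟩).trans hdim) fun hp => ?_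
  have : IsProper (U.ι ≫ sX) := hp
  have : IsProper U.ι := IsProper.of_comp U.ι sX
  have hcl : IsClosed (U : Set X) := by
    have := U.ι.isClosedMap.isClosed_range
    rwa [Scheme.Opens.range_ι] at this
  exact ((genericPoint_specializes x).mem_closed hcl hgU) rfl

/-- A proper integral curve is projective. -/
theorem exists_closedImmersion_projSpace (hdim : topologicalKrullDim X = 1) :
    ∃ (N : ℕ) (i : X ⟶ CohB1.ProjSpace N k), IsClosedImmersion i ∧
      i ≫ CohB1.ProjSpace.toSpec N k = X ↘ Spec (CommRingCat.of k) := by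
  classical
  set sX := X ↘ Spec (CommRingCat.of k)
  let : Algebra k X.functionField := (Var76.VarDim.constField k X).toAlgebra
  have : IsLocallyNoetherian X := LocallyOfFiniteType.isLocallyNoetherian sX
  have : CompactSpace X := QuasiCompact.compactSpace_of_compactSpace sX
  have : IsNoetherian X := { }
  have : JacobsonSpace X := LocallyOfFiniteType.jacobsonSpace sX
  obtain ⟨hfin, hdom, ⟨V, hVne, hiso⟩, hint, hnorm⟩ := S1585.result k X
  let ν := Curv2.normalizationι X
  have : IsFinite ν := hfin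
  have : IsIntegral (Curv2.normalization X) := hint
  have : IsLocallyNoetherian (Curv2.normalization X) := LocallyOfFiniteType.isLocallyNoetherian (ν ≫ sX)
  have hV : ∀ x ∈ V, ∃ _ : IsDomain (X.presheaf.stalk x), ValuationRing (X.presheaf.stalk x) := by
    intro x hx
    have : IsIso (ν ∣_ V) := hiso
    obtain ⟨w, hw⟩ := (asIso (ν ∣_ V)).schemeIsoToHomeo.surjective ⟨x, hx⟩
    have hν : ν w.1 = x := by rw [← morphismRestrict_base_coe]; exact congrArg Subtype.val hw
    have h1 : IsIso (((ν ∣_ V) ≫ V.ι).stalkMap w) := (IsOpenImmersion.iff_isIso_stalkMap.mp inferInstance).2 _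
    have h1' : IsIso (((ν ⁻¹ᵁ V).ι ≫ ν).stalkMap w) := by
      rw [Scheme.Hom.stalkMap_congr_hom _ _ (morphismRestrict_ι ν V).symm]
      infer_instance
    rw [Scheme.Hom.stalkMap_comp] at h1'
    have h2 : IsIso ((ν ⁻¹ᵁ V).ι.stalkMap w) := (IsOpenImmersion.iff_isIso_stalkMap.mp inferInstance).2 _
    have h3 : IsIso (ν.stalkMap w.1) := @IsIso.of_isIso_comp_right _ _ _ _ _ _ _ h2 h1'
    subst hν
    let e := (asIso (ν.stalkMap w.1)).commRingCatIsoToRingEquiv
    let R := (Curv2.normalization X).presheaf.stalk w.1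
    obtain ⟨_, hic⟩ := hnorm w.1
    have hdX : ringKrullDim R ≤ 1 := (ringKrullDim_eq_of_ringEquiv e.symm).le.trans
      ((Crv77.stalk_dim_le _).trans hdim.le)
    have hk : Ring.KrullDimLE 1 R := Ring.krullDimLE_iff.mpr hdX
    have h4 : IsIntegrallyClosed R ∧ ∀ P : Ideal R, P ≠ ⊥ → P.IsPrime → P = IsLocalRing.maximalIdeal R :=
      ⟨hic, fun P hP0 hP => IsLocalRing.eq_maximalIdeal
        (Ring.krullDimLE_one_iff_of_noZeroDivisors.mp hk P hP0 hP)⟩
    have : ValuationRing R :=
      ((tfae_of_isNoetherianRing_of_isLocalRing_of_isDomain (R := R)).out 3 1).1 h4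
    exact ⟨inferInstance, valuationRing_of_equiv e.symm⟩
  have hgV : genericPoint X ∈ V := ((genericPoint_spec X).mem_open_set_iff V.2).2 (by simpa using hVne)
  have hng : ∀ x : X, IsClosed ({x} : Set X) → x ≠ genericPoint X := fun x hx h =>
    Cyc90.not_isClosed_generic hdim (h ▸ hx)
  have hpick : ∀ S : Finset X, (∀ x ∈ S, IsClosed ({x} : Set X)) → ∃ x ∈ V, IsClosed ({x} : Set X) ∧ x ∉ S := by
    intro S hS
    have hcl : IsClosed (S : Set X) := by
      rw [← Set.biUnion_of_singleton (S : Set X)]; exact S.finite_toSet.isClosed_biUnion hS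
    have hne : ((V : Set X) ∩ (S : Set X)ᶜ).Nonempty := ⟨genericPoint X, hgV, fun h => hng _ (hS _ h) rfl⟩
    obtain ⟨x, ⟨hxV, hxS⟩, hxc⟩ := nonempty_inter_closedPoints hne
      (V.2.inter hcl.isOpen_compl).isLocallyClosed
    exact ⟨x, hxV, hxc, hxS⟩
  obtain ⟨x₀, hx₀V, hx₀, -⟩ := hpick ∅ (by simp)
  obtain ⟨x₁, hx₁V, hx₁, hne₁⟩ := hpick {x₀} (by simpa using hx₀)
  obtain ⟨x₂, hx₂V, hx₂, hne₂⟩ := hpick {x₀, x₁} (by simp [hx₀, hx₁])
  simp only [Finset.mem_insert, Finset.mem_singleton, not_or] at hne₁ hne₂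
  let U : ∀ x, IsClosed ({x} : Set X) → X.Opens := fun x hx => ⟨({x} : Set X)ᶜ, hx.isOpen_compl⟩
  have hgU : ∀ x hx, genericPoint X ∈ U x hx := fun x hx h => hng x hx h.symm
  obtain ⟨m, f, hf1, hf, hfreg, hfloc, hfsep⟩ :=
    exists_gens k (U x₀ hx₀) (affine_compl_point k hdim x₀ hx₀) (hgU x₀ hx₀)
  obtain ⟨n, g, hg1, hg, hgreg, hgloc, hgsep⟩ :=
    exists_gens k (U x₁ hx₁) (affine_compl_point k hdim x₁ hx₁) (hgU x₁ hx₁)
  obtain ⟨q, p, -, -, -, -, hpsep⟩ :=
    exists_gens k (U x₂ hx₂) (affine_compl_point k hdim x₂ hx₂) (hgU x₂ hx₂)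
  obtain ⟨N, ⟨e⟩⟩ : ∃ N, Nonempty ((Fin (m + 1) × Fin (n + 1)) ≃ Fin (N + 1)) :=
    ⟨m * n + m + n, ⟨finProdFinEquiv.trans (finCongr (by ring))⟩⟩
  let h : Fin (N + 1) → X.functionField := fun l => f (e.symm l).1 * g (e.symm l).2
  have hh : ∀ l, h l ≠ 0 := fun l => mul_ne_zero (hf _) (hg _)
  have hhe : ∀ a b, h (e (a, b)) = f a * g b := fun a b => by simp [h]
  -- charts along the first family
  have hA : ∀ x ∈ U x₁ hx₁, ∃ a, ∀ l, RegAt x (h l / h (e (a, 0))) := by
    intro x hx
    obtain ⟨a, ha⟩ : ∃ a, ∀ i, RegAt x (f i / f a) := by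
      by_cases hx0 : x = x₀
      · exact exists_max_regAt (hx0 ▸ hV x₀ hx₀V) f hf
      · exact ⟨0, fun i => by rw [hf1, div_one]; exact hfreg x hx0 i⟩
    refine ⟨a, fun l => ?_⟩
    rw [hhe, hg1, mul_one]
    show RegAt x (f _ * g _ / f a)
    rw [mul_div_right_comm]
    exact regAt_mul (ha _) (hgreg x hx _)
  have hB : ∀ x ∈ U x₀ hx₀, ∃ b, ∀ l, RegAt x (h l / h (e (0, b))) := by
    intro x hx
    obtain ⟨b, hb⟩ : ∃ b, ∀ i, RegAt x (g i / g b) := by
      by_cases hx1 : x = x₁
      · exact exists_max_regAt (hx1 ▸ hV x₁ hx₁V) g hg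
      · exact ⟨0, fun i => by rw [hg1, div_one]; exact hgreg x hx1 i⟩
    refine ⟨b, fun l => ?_⟩
    rw [hhe, hf1, one_mul]
    show RegAt x (f _ * g _ / g b)
    rw [mul_div_assoc]
    exact regAt_mul (hfreg x hx _) (hb _)
  have hcover : ∀ x : X, x ∈ U x₀ hx₀ ∨ x ∈ U x₁ hx₁ := fun x =>
    or_iff_not_imp_left.2 fun hx h1 => hne₁ ((show x = x₁ from h1).symm.trans (not_not.1 hx))
  have hreg : ∀ x : X, ∃ j, ∀ i, RegAt x (h i / h j) := fun x =>
    (hcover x).elim (fun hx => let ⟨b, hb⟩ := hB x hx; ⟨_, hb⟩) fun hx => let ⟨a, ha⟩ := hA x hx; ⟨_, ha⟩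
  obtain ⟨φ, hφ, hφgen, hφU⟩ := exists_hom_of_regAt k h hh hreg
  let sP := CohB1.ProjSpace.toSpec N k
  have : IsProper sP := ProjLine.isProper_toSpec k N
  have : IsProper (φ ≫ sP) := hφ ▸ ‹IsProper sX›
  have : IsProper φ := IsProper.of_comp φ sP
  let L : X → Subring X.functionField := fun x =>
    ((algebraMap (X.presheaf.stalk x) X.functionField).comp (φ.stalkMap x).hom).range
  have hLh : ∀ x j, (∀ i, RegAt x (h i / h j)) →
      (∀ i, h i / h j ∈ L x) ∧ ∀ r : k, algebraMap k X.functionField r ∈ L x := by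
    intro x j hj
    have hxU : φ x ∈ Var76.ProjCoord.U k N j := hφU x j hj
    obtain ⟨W, hW, hxW, hWle'⟩ := exists_isAffineOpen_mem_and_subset
      (show x ∈ φ ⁻¹ᵁ Var76.ProjCoord.U k N j from hxU)
    have hWle : W ≤ φ ⁻¹ᵁ Var76.ProjCoord.U k N j := hWle'
    have hgW : genericPoint X ∈ W := (genericPoint_specializes x).mem_open W.2 hxW
    have hU' := Var76.ProjCoord.isAffineOpen_U k N j
    let ats := Proj.awayToSection (CohB1.polyGrading N k) (MvPolynomial.X j)
    have key : ats ≫ φ.appLE (Var76.ProjCoord.U k N j) W hWle ≫ X.presheaf.germ W (genericPoint X) hgW =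
        CommRingCat.ofHom (ProjModel.evalAway k h _ (ProjModel.aeval_X_ne_zero k h hh j)) := by
      refine Spec.map_injective ((cancel_mono (Proj.awayι (CohB1.polyGrading N k) (MvPolynomial.X j)
        (Var76.ProjCoord.X₁ k N j).2 one_pos)).1 ?_)
      rw [Spec.map_comp, Spec.map_comp, Category.assoc, Category.assoc, ← ProjModel.fromSpec_U,
        IsAffineOpen.SpecMap_appLE_fromSpec φ hU' hW hWle, ← Category.assoc, ← IsAffineOpen.fromSpecStalk,
        hW.fromSpecStalk_eq_fromSpecStalk hgW, hφgen, ProjModel.ptAt_eq k h hh 0 j, ProjModel.ptAt]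
    have hmemL : (ProjModel.evalAway k h _ (ProjModel.aeval_X_ne_zero k h hh j)).range ≤ L x := by
      rintro _ ⟨z, rfl⟩
      refine ⟨(CohB1.ProjSpace N k).presheaf.germ _ (φ x) hxU (ats z), ?_⟩
      show algebraMap _ X.functionField (φ.stalkMap x _) = _
      rw [Scheme.Hom.germ_stalkMap_apply]
      have e2 : X.presheaf.germ (φ ⁻¹ᵁ Var76.ProjCoord.U k N j) x hxU (φ.app _ (ats z)) =
          X.presheaf.germ W x hxW (φ.appLE _ W hWle (ats z)) := by
        rw [Scheme.Hom.appLE, ConcreteCategory.comp_apply, TopCat.Presheaf.germ_res_apply]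
      rw [e2, algebraMap_germ]
      exact congr($key z)
    obtain ⟨r1, r2⟩ := ProjModel.range_evalAway k h hh j
    exact ⟨fun i => hmemL (r1 i), fun r => hmemL (r2 r)⟩
  have hLreg : ∀ x z, z ∈ L x → RegAt x z := by
    rintro x _ ⟨σ, rfl⟩; exact ⟨φ.stalkMap x σ, rfl⟩
  have hsurjL : ∀ x z, RegAt x z → z ∈ L x := by
    intro x z hz
    obtain ⟨A, hA', hloc⟩ : ∃ A : Subalgebra k X.functionField, (∀ y ∈ A, y ∈ L x) ∧
        ∀ w, RegAt x w → ∃ a ∈ A, ∃ s ∈ A, s ≠ 0 ∧ RegAt x s⁻¹ ∧ w = a / s := by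
      rcases hcover x with hx | hx
      · obtain ⟨b, hb⟩ := hB x hx
        obtain ⟨h1, h2⟩ := hLh x _ hb
        refine ⟨_, fun y hy => ?_, hfloc x hx⟩
        have hle : Algebra.adjoin k (Set.range f) ≤
            ({ (L x).toSubsemiring with algebraMap_mem' := h2 } : Subalgebra k X.functionField) :=
          Algebra.adjoin_le (Set.range_subset_iff.2 fun i => by
            have := h1 (e (i, b))
            rwa [hhe, hhe, hf1, one_mul, mul_div_assoc, div_self (hg b), mul_one] at this)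
        exact hle hy
      · obtain ⟨a, ha⟩ := hA x hx
        obtain ⟨h1, h2⟩ := hLh x _ ha
        refine ⟨_, fun y hy => ?_, hgloc x hx⟩
        have hle : Algebra.adjoin k (Set.range g) ≤
            ({ (L x).toSubsemiring with algebraMap_mem' := h2 } : Subalgebra k X.functionField) :=
          Algebra.adjoin_le (Set.range_subset_iff.2 fun i => by
            have := h1 (e (a, i))
            rwa [hhe, hhe, hg1, mul_one, mul_div_cancel_left₀ _ (hf a)] at this)
        exact hle hy
    obtain ⟨a, ha, s, hs, hs0, ⟨t, ht⟩, rfl⟩ := hloc z hz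
    obtain ⟨α, hα⟩ := hA' a ha
    obtain ⟨σ, hσ⟩ := hA' s hs
    have hu : IsUnit ((φ.stalkMap x).hom σ) :=
      IsUnit.of_mul_eq_one t (IsFractionRing.injective (X.presheaf.stalk x) X.functionField (by
        rw [map_mul, ht, ← RingHom.comp_apply, hσ, map_one, mul_inv_cancel₀ hs0]))
    obtain ⟨v, hv⟩ := (inferInstance : IsLocalHom (φ.stalkMap x).hom).map_nonunit σ hu
    refine ⟨α * (v⁻¹ : ((CohB1.ProjSpace N k).presheaf.stalk (φ x))ˣ), ?_⟩
    rw [map_mul, hα, map_units_inv, hv, hσ, div_eq_mul_inv]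
  have hinj : Function.Injective φ := by
    intro x y hxy
    have hspec : ∀ x, L x = ((φ.stalkMap (genericPoint X)).hom.comp
        ((CohB1.ProjSpace N k).presheaf.stalkSpecializes
          ((genericPoint_specializes x).map φ.continuous)).hom).range := fun x => by
      refine congrArg RingHom.range (RingHom.ext fun σ => ?_)
      exact (Scheme.Hom.stalkSpecializes_stalkMap_apply φ (genericPoint X) x (genericPoint_specializes x) σ).symm
    have hgeq : ∀ (a b : CohB1.ProjSpace N k), a = b → ∀ (ha : φ (genericPoint X) ⤳ a) (hb : φ (genericPoint X) ⤳ b),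
        ((φ.stalkMap (genericPoint X)).hom.comp ((CohB1.ProjSpace N k).presheaf.stalkSpecializes ha).hom).range =
        ((φ.stalkMap (genericPoint X)).hom.comp ((CohB1.ProjSpace N k).presheaf.stalkSpecializes hb).hom).range := by
      rintro a b rfl _ _; rfl
    have hL : L x = L y := by rw [hspec, hspec]; exact hgeq _ _ hxy _ _
    have hiff : ∀ z, RegAt x z ↔ RegAt y z := fun z =>
      ⟨fun hz => hLreg y z (hL ▸ hsurjL x z hz), fun hz => hLreg x z (hL ▸ hsurjL y z hz)⟩
    by_cases h0 : x ≠ x₀ ∧ y ≠ x₀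
    · exact hfsep x h0.1 y h0.2 hiff
    by_cases h1 : x ≠ x₁ ∧ y ≠ x₁
    · exact hgsep x h1.1 y h1.2 hiff
    by_cases h2 : x ≠ x₂ ∧ y ≠ x₂
    · exact hpsep x h2.1 y h2.2 hiff
    simp only [not_and_or, not_not] at h0 h1 h2
    rcases h0 with rfl | rfl <;> rcases h1 with rfl | rfl <;> rcases h2 with rfl | rfl <;>
      first | rfl | exact absurd rfl hne₁ | exact absurd rfl hne₂.1 | exact absurd rfl hne₂.2
  refine ⟨N, φ, ?_, hφ⟩
  have hsurj : SurjectiveOnStalks φ := ⟨fun x w => by
    obtain ⟨σ, hσ⟩ := hsurjL x _ ⟨w, rfl⟩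
    exact ⟨σ, IsFractionRing.injective (X.presheaf.stalk x) X.functionField hσ⟩⟩
  exact { toSurjectiveOnStalks := hsurj,
          isClosedEmbedding := Topology.IsClosedEmbedding.of_continuous_injective_isClosedMap φ.continuous hinj φ.isClosedMap }

end Groth.Agent.Curves2
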