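import Groth.Agent.Crv77.PointTwist
import Groth.Agent.Crv77.PointDeg
import Groth.Agent.Crv77.Basic
import Groth.Agent.Curves2.IdealFrame
import Groth.Agent.Div89.Cartier
import Groth.Agent.SchBasics.Local
import Groth.Agent.Curves2.SmoothNormal
import Groth.Agent.Amp73.Tensor

/-!
# Toolkit for Riemann–Roch arguments on curves
-/

set_option autoImplicit false

universe u

open CategoryTheory CategoryTheory.Limits AlgebraicGeometry

namespace Groth.Agent.Curves2

variable (k : Type u) [Field k] {X : Scheme.{u}} [X.Over (Spec (CommRingCat.of k))]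

/-- The only global functions on a proper variety over an algebraically closed field are constants. -/
theorem finrank_h0_structureModule [IsAlgClosed k] [IsIntegral X]
    [IsProper (X ↘ (Spec (CommRingCat.of k)))] :
    Module.finrank k (Coh.HH X (Coh.structureModule X) 0) = 1 := by
  set f := X ↘ Spec (CommRingCat.of k)
  have : Nonempty (⊤ : X.Opens) := ⟨⟨Nonempty.some inferInstance, trivial⟩⟩
  let str : k →+* Γ(X, ⊤) := Coh.toGlobal f
  have hfin : str.Finite :=
    (finite_appTop_of_universallyClosed k f).comp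
      (RingHom.Finite.of_surjective _
        (ConcreteCategory.bijective_of_isIso (Scheme.ΓSpecIso (CommRingCat.of k)).inv).2)
  have hbij : Function.Bijective str :=
    IsAlgClosed.ringHom_bijective_of_isIntegral str hfin.to_isIntegral
  let x₁ : Coh.HH X (Coh.structureModule X) 0 :=
    (Crv77.sec (Coh.structureModule X)).symm (1 : Γ(X, ⊤))
  let φ : k →ₗ[k] Coh.HH X (Coh.structureModule X) 0 := LinearMap.toSpanSingleton k _ x₁
  have hφ : ∀ a, Crv77.sec (Coh.structureModule X) (φ a) = str a := by
    intro a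
    show Crv77.sec _ (a • x₁) = _
    rw [Crv77.sec_smul, AddEquiv.apply_symm_apply]
    exact mul_one (M := Γ(X, ⊤)) (str a)
  have hφb : Function.Bijective φ := by
    refine ⟨fun a b hab => hbij.1 ?_, fun z => ?_⟩
    · have := congrArg (Crv77.sec (Coh.structureModule X)) hab
      rwa [hφ, hφ] at this
    · obtain ⟨a, ha⟩ := hbij.2 (Crv77.sec (Coh.structureModule X) z)
      exact ⟨a, (Crv77.sec (Coh.structureModule X)).injective ((hφ a).trans ha)⟩
  rw [← (LinearEquiv.ofBijective φ hφb).finrank_eq, Module.finrank_self]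

theorem stalkIdeal_ptIdeal {P : X} (hP : IsClosed ({P} : Set X)) :
    Div89.stalkIdeal (Crv77.ptIdeal hP) P = IsLocalRing.maximalIdeal (X.presheaf.stalk P) := by
  obtain ⟨U, hU⟩ := Div89.exists_affine_mem P
  rw [Div89.stalkIdeal_eq _ U P hU]
  have h1 : (Crv77.ptIdeal hP).ideal U = (U.2.primeIdealOf ⟨P, hU⟩).asIdeal := by
    rw [Scheme.IdealSheafData.vanishingIdeal_ideal]
    have h2 : U.2.fromSpec ⁻¹' ({P} : Set X) = {U.2.primeIdealOf ⟨P, hU⟩} := by
      ext y
      simp only [Set.mem_singleton_iff, Set.mem_preimage]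
      exact ⟨fun h => U.2.fromSpec.isOpenEmbedding.injective
          (h.trans (U.2.fromSpec_primeIdealOf ⟨P, hU⟩).symm),
        fun h => h ▸ U.2.fromSpec_primeIdealOf ⟨P, hU⟩⟩
    exact (congrArg PrimeSpectrum.vanishingIdeal h2).trans (PrimeSpectrum.vanishingIdeal_singleton _)
  rw [h1]
  letI := TopCat.Presheaf.algebra_section_stalk X.presheaf (⟨P, hU⟩ : U.1)
  haveI := U.2.isLocalization_stalk ⟨P, hU⟩
  exact IsLocalization.AtPrime.map_eq_maximalIdeal _ _

/-- The ideal of a closed point is invertible when the local ring is a principal ideal domain which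
is not a field. -/
theorem isInvertible_ptIdeal_of_principal [IsLocallyNoetherian X] {P : X}
    (hP : IsClosed ({P} : Set X)) [IsDomain (X.presheaf.stalk P)]
    [IsPrincipalIdealRing (X.presheaf.stalk P)]
    (hne : IsLocalRing.maximalIdeal (X.presheaf.stalk P) ≠ ⊥) :
    PicF.IsInvertible (ClSub.idealMod (Crv77.ptIdeal hP)) := by
  rw [isInvertible_idealMod_iff]
  refine Div89.isEffCartier_of_stalk fun x hx => ?_
  obtain rfl : x = P := by
    have : x ∈ ((Crv77.ptIdeal hP).support : Set X) := hx
    rwa [Crv77.ptIdeal_support] at this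
  obtain ⟨g, hg⟩ := (inferInstance : (IsLocalRing.maximalIdeal (X.presheaf.stalk x)).IsPrincipal)
  refine ⟨g, mem_nonZeroDivisors_of_ne_zero fun h => hne ?_, ?_⟩
  · rw [hg, h, Submodule.span_singleton_eq_bot]
  · rw [stalkIdeal_ptIdeal, hg]

theorem isInvertible_ptIdeal [IsIntegral X] [IsLocallyNoetherian X]
    (hdim : topologicalKrullDim X ≤ 1) {P : X} (hP : IsClosed ({P} : Set X))
    (hne : ∃ y : X, y ≠ P) [IsIntegrallyClosed (X.presheaf.stalk P)] :
    PicF.IsInvertible (ClSub.idealMod (Crv77.ptIdeal hP)) := by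
  have := (Crv77.valuationRing_stalk hdim P).1
  refine isInvertible_ptIdeal_of_principal hP fun hbot => ?_
  have hP' : P ≠ genericPoint X := by
    rintro rfl
    obtain ⟨y, hy⟩ := hne
    exact hy ((genericPoint_specializes y).mem_closed hP rfl)
  obtain ⟨y, hy⟩ := hne
  have hF : IsField (X.presheaf.stalk P) := IsLocalRing.isField_iff_maximalIdeal_eq.mpr hbot
  obtain ⟨q, hq⟩ := (Scheme.range_fromSpecStalk (X := X) (x := P)).ge (genericPoint_specializes P)
  have : Subsingleton (Spec (X.presheaf.stalk P)) := by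
    letI := hF.toField
    exact (inferInstance : Subsingleton (PrimeSpectrum (X.presheaf.stalk P)))
  exact hP' (by
    rw [← hq, Subsingleton.elim q (IsLocalRing.closedPoint _), Scheme.fromSpecStalk_closedPoint])

theorem deg_congr {L M : X.Modules} (e : L ≅ M) : Curv2.deg k X L 1 = Curv2.deg k X M 1 := by
  simp only [Curv2.deg]
  rw [Crv77.euler_congr e]

theorem finrank_congr {L M : X.Modules} (e : L ≅ M) (n : ℕ) :
    Module.finrank k (Coh.HH X L n) = Module.finrank k (Coh.HH X M n) :=
  (Crv77.hEquiv k e n).finrank_eq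

theorem deg_structureModule : Curv2.deg k X (Coh.structureModule X) 1 = 0 := by
  simp [Curv2.deg]

theorem deg_ptIdeal_tensor [IsAlgClosed k] [IsProper (X ↘ (Spec (CommRingCat.of k)))]
    (hdim : topologicalKrullDim X ≤ 1) {P : X} (hP : IsClosed ({P} : Set X)) {L : X.Modules}
    (hL : PicF.IsInvertible L) :
    Curv2.deg k X (CohB1.tensorMod (ClSub.idealMod (Crv77.ptIdeal hP)) L) 1 =
      Curv2.deg k X L 1 - 1 := by
  have : IsNoetherian X := Crv77.isNoetherian_of_proper k X
  have hX := Crv77.curveCoh_of_proper k X hdim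
  have hs : ((Crv77.ptIdeal hP).support : Set X).Finite := by
    rw [Crv77.ptIdeal_support]; exact Set.finite_singleton P
  have hc : ∀ x ∈ ((Crv77.ptIdeal hP).support : Set X), IsClosed ({x} : Set X) := by
    rw [Crv77.ptIdeal_support]; rintro x rfl; exact hP
  simp only [Curv2.deg]
  rw [hX.euler_idealMod_tensor (Crv77.ptIdeal hP) hs hc hL (Crv77.isCoh_of_isInvertible hL)]
  simp only [Crv77.h]
  rw [Crv77.finrank_quot_point k hP, Crv77.finrank_residueField_eq_one k hP]
  push_cast
  ring

/-- An invertible module of degree zero with a nonzero section is trivial. -/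
theorem nonempty_iso_structureModule_of_deg_zero [IsIntegral X]
    [IsProper (X ↘ (Spec (CommRingCat.of k)))] (hdim : topologicalKrullDim X ≤ 1) {L : X.Modules}
    (hL : PicF.IsInvertible L) (hs : Nontrivial (Coh.HH X L 0)) (hdeg : Curv2.deg k X L 1 = 0) :
    Nonempty (L ≅ Coh.structureModule X) := by
  have : IsNoetherian X := Crv77.isNoetherian_of_proper k X
  have hX := Crv77.curveCoh_of_proper k X hdim
  obtain ⟨s, S, hmono, hS, hcl, hsupp, hcoh, hd, -⟩ := hX.exists_section_seq hdim hL hs
  have := hX.finite _ hcoh 0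
  have h0 : Subsingleton (Coh.HH X (cokernel s) 0) := by
    rw [← Module.finrank_zero_iff (R := k)]
    have : ((Module.finrank k (Coh.HH X (cokernel s) 0) : ℤ)) = 0 := by rw [← hdeg, hd]
    exact_mod_cast this
  have : Epi s := CategoryTheory.Abelian.epi_of_cokernel_π_eq_zero s
    ((Crv77.SuppIn.isZero hsupp hS hcl h0).eq_zero_of_tgt _)
  have : IsIso s := isIso_of_mono_of_epi s
  exact ⟨(asIso s).symm⟩

end Groth.Agent.Curves2
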