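import Groth.Agent.Curves2.ProjLineField
import Groth.Agent.Curves2.ProjLineProper
import Groth.Agent.Crv77.Basic
import Mathlib.AlgebraicGeometry.ZariskisMainTheorem

/-! The regular locus of a rational function on a normal proper curve is affine and finite over `A^1`. -/

universe u

open CategoryTheory CategoryTheory.Limits AlgebraicGeometry Opposite TopologicalSpace

noncomputable section

set_option backward.isDefEq.respectTransparency false

namespace Groth.Agent.Curves2

open Var76.ProjCoord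

variable (k : Type u) [Field k] {Y : Scheme.{u}} [Y.Over (Spec (CommRingCat.of k))]

/-- evaluation `k[T] → Γ(W)` at `t` -/
def evalSect (W : Y.Opens) (t : Γ(Y, W)) : Polynomial k →+* Γ(Y, W) :=
  Polynomial.eval₂RingHom (Var76.BertiniScheme.const (k := k) Y W) t

/-- the morphism to the affine line given by a function -/
def toLine (W : Y.Opens) (t : Γ(Y, W)) : (W : Scheme.{u}) ⟶ Spec (CommRingCat.of (Polynomial k)) :=
  W.toSpecΓ ≫ Spec.map (CommRingCat.ofHom (evalSect k W t))

theorem toLine_struct (W : Y.Opens) (t : Γ(Y, W)) :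
    toLine k W t ≫ Spec.map (CommRingCat.ofHom Polynomial.C) = W.ι ≫ (Y ↘ Spec (CommRingCat.of k)) := by
  rw [toLine, Category.assoc, ← Spec.map_comp]
  have h : CommRingCat.ofHom Polynomial.C ≫ CommRingCat.ofHom (evalSect k W t) =
      CommRingCat.ofHom (Var76.BertiniScheme.const (k := k) Y W) :=
    CommRingCat.hom_ext (RingHom.ext fun r => Polynomial.eval₂_C _ _)
  rw [h]
  have h2 : CommRingCat.ofHom (Var76.BertiniScheme.const (k := k) Y W) =
      (Scheme.ΓSpecIso (CommRingCat.of k)).inv ≫ (Y ↘ Spec (CommRingCat.of k)).appLE ⊤ W le_top := rfl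
  have h3 : W.ι ≫ (Y ↘ Spec (CommRingCat.of k)) = (W : Scheme.{u}).toSpecΓ ≫
      Spec.map ((W.ι ≫ (Y ↘ Spec (CommRingCat.of k))).appTop) ≫
        Spec.map (Scheme.ΓSpecIso (CommRingCat.of k)).inv := by
    rw [← Scheme.toSpecΓ_naturality_assoc]
    simp [← Spec.map_comp]
  rw [h2, h3, Scheme.Opens.toSpecΓ, Category.assoc, ← Spec.map_comp, ← Spec.map_comp]
  congr 2
  simp [Scheme.Hom.appLE, Scheme.Opens.ι_app, ← Functor.map_comp]
  congr 1

/-- the chart `A^1 → P^1` -/
def lineChart : Spec (CommRingCat.of (Polynomial k)) ⟶ CohB1.ProjSpace 1 k :=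
  Spec.map (CommRingCat.ofHom (RingEquiv.ofBijective (ProjLine.ψ₀ k) (ProjLine.ψ₀_bijective k)).symm.toRingHom) ≫
    (isAffineOpen_U k 1 0).fromSpec

theorem lineChart_toSpec : lineChart k ≫ CohB1.ProjSpace.toSpec 1 k =
    Spec.map (CommRingCat.ofHom Polynomial.C) := by
  rw [lineChart, Category.assoc]
  have h := Var76.BertiniScheme.SpecMap_const (k := k) (Y := CohB1.ProjSpace 1 k) (isAffineOpen_U k 1 0)
  rw [show CohB1.ProjSpace.toSpec 1 k = (CohB1.ProjSpace 1 k ↘ Spec (CommRingCat.of k)) from rfl, ← h,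
    ← Spec.map_comp]
  congr 1
  refine CommRingCat.hom_ext (RingHom.ext fun r => ?_)
  show (RingEquiv.ofBijective (ProjLine.ψ₀ k) (ProjLine.ψ₀_bijective k)).symm _ = _
  rw [RingEquiv.symm_apply_eq]
  exact (ProjLine.ψ₀_C k r).symm

variable [IsIntegral Y] [IsProper (Y ↘ Spec (CommRingCat.of k))]

/-- If `t` is regular exactly on `W ≠ ⊤`, then `W` is affine and `t : W → A^1` is finite. -/
theorem isFinite_toLine_of_poles (hdim : topologicalKrullDim Y = 1)
    (hval : ∀ y : Y, ∃ _ : IsDomain (Y.presheaf.stalk y), ValuationRing (Y.presheaf.stalk y))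
    (W : Y.Opens) (hgW : genericPoint Y ∈ W) (hne : W ≠ ⊤) (t : Γ(Y, W))
    (hpole : ∀ y ∉ W, ∀ a : Y.presheaf.stalk y,
      Y.presheaf.stalkSpecializes (genericPoint_specializes y) a ≠ Y.presheaf.germ W (genericPoint Y) hgW t) :
    IsAffineOpen W ∧ IsFinite (toLine k W t) := by
  set sY := Y ↘ Spec (CommRingCat.of k) with hsY
  let P := CohB1.ProjSpace 1 k
  let sP := CohB1.ProjSpace.toSpec 1 k
  have : IsProper sP := ProjLine.isProper_toSpec k 1
  have : IsLocallyNoetherian Y := LocallyOfFiniteType.isLocallyNoetherian sY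
  have : Nonempty W := ⟨⟨_, hgW⟩⟩
  obtain ⟨φ, hφ, hφW⟩ := exists_extension_of_valuationRing sP sY hval W (toLine k W t ≫ lineChart k)
    (by rw [Category.assoc, lineChart_toSpec, toLine_struct])
  let U0 := U k 1 0
  have hU0 := isAffineOpen_U k 1 0
  have hle : W ≤ φ ⁻¹ᵁ U0 := fun y hy => by
    show φ y ∈ U0
    rw [show φ y = (W.ι ≫ φ) ⟨y, hy⟩ from rfl, hφW]
    rw [lineChart, Scheme.Hom.comp_apply, Scheme.Hom.comp_apply, ← SetLike.mem_coe, ← hU0.range_fromSpec]
    exact ⟨_, rfl⟩
  let ψe := RingEquiv.ofBijective (ProjLine.ψ₀ k) (ProjLine.ψ₀_bijective k)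
  have hge : φ ⁻¹ᵁ U0 ≤ W := by
    intro y hy
    by_contra hyW
    obtain ⟨V, hV, hyV, hVle⟩ := exists_isAffineOpen_mem_and_subset (show y ∈ φ ⁻¹ᵁ U0 from hy)
    have hVle' : V ≤ φ ⁻¹ᵁ U0 := hVle
    have hgV : genericPoint Y ∈ V := (genericPoint_specializes y).mem_open V.2 hyV
    have e1 : Y.fromSpecStalk (genericPoint Y) ≫ φ =
        Spec.map (φ.appLE U0 V hVle' ≫ Y.presheaf.germ V (genericPoint Y) hgV) ≫ hU0.fromSpec := by
      rw [Spec.map_comp, Category.assoc, IsAffineOpen.SpecMap_appLE_fromSpec φ hU0 hV hVle',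
        ← hV.fromSpecStalk_eq_fromSpecStalk hgV, IsAffineOpen.fromSpecStalk, Category.assoc]
    have e2 : Y.fromSpecStalk (genericPoint Y) ≫ φ =
        Spec.map (CommRingCat.ofHom ψe.symm.toRingHom ≫ CommRingCat.ofHom (evalSect k W t) ≫
          Y.presheaf.germ W (genericPoint Y) hgW) ≫ hU0.fromSpec := by
      rw [← W.fromSpecStalkOfMem_ι _ hgW, Category.assoc, hφW, toLine, Category.assoc,
        Scheme.Opens.fromSpecStalkOfMem_toSpecΓ_assoc, lineChart]
      simp [Spec.map_comp, ψe]
    have h := congr($(Spec.map_injective ((cancel_mono hU0.fromSpec).1 (e1.symm.trans e2))) (ψe Polynomial.X))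
    simp only [CommRingCat.comp_apply, CommRingCat.hom_ofHom, RingEquiv.toRingHom_eq_coe,
      RingEquiv.coe_toRingHom, RingEquiv.symm_apply_apply] at h
    refine hpole y hyW (Y.presheaf.germ V y hyV (φ.appLE U0 V hVle' (ψe Polynomial.X))) ?_
    rw [TopCat.Presheaf.germ_stalkSpecializes_apply]
    rw [CommRingCat.comp_apply, show (CommRingCat.ofHom (evalSect k W t)).hom Polynomial.X = t from Polynomial.eval₂_X _ _] at h
    exact h
  have hW : φ ⁻¹ᵁ U0 = W := le_antisymm hge hle
  have : IsProper (φ ≫ sP) := hφ ▸ ‹IsProper sY›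
  have : IsProper φ := IsProper.of_comp φ sP
  have : JacobsonSpace P := LocallyOfFiniteType.jacobsonSpace sP
  have : CompactSpace Y := QuasiCompact.compactSpace_of_compactSpace sY
  have : IsNoetherian Y := { }
  have hgen : ¬ IsClosed ({φ (genericPoint Y)} : Set P) := by
    intro hc
    obtain ⟨y, hy⟩ : ∃ y, y ∉ W := by
      by_contra hc'; push Not at hc'
      exact hne (eq_top_iff.2 fun y _ => hc' y)
    have h1 : φ y = φ (genericPoint Y) :=
      Set.mem_singleton_iff.1 (((genericPoint_specializes y).map φ.continuous).mem_closed hc (Set.mem_singleton _))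
    exact hy (hge (show φ y ∈ U0 from h1 ▸ hle hgW))
  have : LocallyQuasiFinite φ := by
    refine LocallyQuasiFinite.of_finite_preimage_singleton φ fun z => ?_
    by_cases hz : IsClosed ({z} : Set P)
    · exact Crv77.finite_of_isClosed' hdim.le (hz.preimage φ.continuous) fun h => hgen (by
        rw [show φ (genericPoint Y) = z from h]; exact hz)
    · refine (Set.finite_singleton (genericPoint Y)).subset fun x hx => ?_
      by_contra hne'
      exact hz ((show φ x = z from hx) ▸
        φ.closePoints_subset_preimage_closedPoints (Crv77.isClosed_singleton hdim.le hne'))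
  have : IsFinite φ := IsFinite.of_isProper_of_locallyQuasiFinite φ
  have haff : IsAffineOpen W := hW ▸ hU0.preimage φ
  refine ⟨haff, ?_⟩
  have key : toLine k W t ≫ Spec.map (CommRingCat.ofHom ψe.symm.toRingHom) ≫ hU0.isoSpec.inv =
      (Y.isoOfEq hW).inv ≫ (φ ∣_ U0) := by
    rw [← cancel_mono U0.ι]
    simp only [Category.assoc, morphismRestrict_ι]
    rw [Scheme.isoOfEq_inv, Scheme.homOfLE_ι_assoc, hφW, lineChart]
    rfl
  have : IsIso (Spec.map (CommRingCat.ofHom ψe.symm.toRingHom)) :=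
    inferInstanceAs (IsIso (Scheme.Spec.map (ψe.symm.toCommRingCatIso.hom).op))
  have h2 : toLine k W t = ((Y.isoOfEq hW).inv ≫ (φ ∣_ U0)) ≫
      inv (Spec.map (CommRingCat.ofHom ψe.symm.toRingHom) ≫ hU0.isoSpec.inv) := by
    rw [IsIso.eq_comp_inv]
    exact key
  rw [h2]
  infer_instance

end Groth.Agent.Curves2
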