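import Groth.Agent.Curves2.CurvePlaces
import Groth.Agent.Curves2.RegLocus
import Groth.Agent.Curves2.CurveEmbed
import Groth.Agent.S1585
import Groth.Agent.VarGal.LocalDim
import Mathlib.AlgebraicGeometry.Morphisms.Finite

/-! An integral separated curve which is not proper is affine. -/

set_option autoImplicit false

universe u

open CategoryTheory CategoryTheory.Limits AlgebraicGeometry Opposite TopologicalSpace

noncomputable section

set_option backward.isDefEq.respectTransparency false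

namespace Groth.Agent.Curves2

/-- Multiplying sections over the preimage by a suitable non-zero element lands in sections downstairs. -/
theorem exists_conductor_elt {Z X : Scheme.{u}} [IsIntegral Z] [IsIntegral X] (ν : Z ⟶ X) [IsFinite ν]
    [Surjective ν] (V : X.Opens) (hV : (V : Set X).Nonempty) [IsIso (ν ∣_ V)]
    (U : X.Opens) (hU : IsAffineOpen U) (hne : (U : Set X).Nonempty) :
    ∃ e : Γ(Z, ν ⁻¹ᵁ U), e ≠ 0 ∧ ∀ b : Γ(Z, ν ⁻¹ᵁ U), e * b ∈ (ν.app U).hom.range := by
  obtain ⟨x, hxV, hxU⟩ : ∃ x, x ∈ V ∧ x ∈ U :=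
    ⟨genericPoint X, ((genericPoint_spec X).mem_open_set_iff V.2).2 (by simpa using hV),
      ((genericPoint_spec X).mem_open_set_iff U.2).2 (by simpa using hne)⟩
  obtain ⟨c, hcV, hxc⟩ := hU.exists_basicOpen_le (V := V) (⟨x, hxV⟩ : V) hxU
  let A := Γ(X, U)
  let B := Γ(Z, ν ⁻¹ᵁ U)
  let φ : A →+* B := (ν.app U).hom
  let : Algebra A B := φ.toAlgebra
  have : Module.Finite A B := ν.finite_app U hU
  obtain ⟨z, hz⟩ := (inferInstance : Surjective ν).surj x
  have hcne : φ c ≠ 0 := by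
    intro h0
    have : z ∈ Z.basicOpen (φ c) := by
      show z ∈ Z.basicOpen (ν.app U c)
      rw [← Scheme.preimage_basicOpen]
      show ν z ∈ X.basicOpen c
      rw [hz]; exact hxc
    rw [h0, Scheme.basicOpen_zero] at this
    exact this
  have : Nonempty (Z.basicOpen (φ c)) := by
    refine ⟨⟨z, ?_⟩⟩
    show z ∈ Z.basicOpen (ν.app U c)
    rw [← Scheme.preimage_basicOpen]
    show ν z ∈ X.basicOpen c
    rw [hz]; exact hxc
  have hiso : ∀ D : X.Opens, D ≤ V → IsIso (ν.app D) := fun D hD => by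
    have h1 : V.ι ''ᵁ (V.ι ⁻¹ᵁ D) = D := by
      rw [Scheme.Hom.image_preimage_eq_opensRange_inf, Scheme.Opens.opensRange_ι]
      exact inf_eq_right.2 hD
    have h2 : IsIso ((ν ∣_ V).app (V.ι ⁻¹ᵁ D)) := inferInstance
    rw [morphismRestrict_app] at h2
    have : IsIso (ν.app (V.ι ''ᵁ (V.ι ⁻¹ᵁ D))) := @IsIso.of_isIso_comp_right _ _ _ _ _ _ _ inferInstance h2
    exact h1 ▸ this
  have hpow : ∀ b : B, ∃ (n : ℕ) (a : A), φ a = φ c ^ n * b := by
    intro b
    let D := X.basicOpen c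
    have hDU : D ≤ U := X.basicOpen_le c
    have := hiso D hcV
    obtain ⟨a₁, ha₁⟩ := (ConcreteCategory.bijective_of_isIso (ν.app D)).2
      (Z.presheaf.map (homOfLE (show ν ⁻¹ᵁ D ≤ ν ⁻¹ᵁ U from fun _ h => hDU h)).op b)
    have := hU.isLocalization_basicOpen c
    obtain ⟨⟨a, ⟨_, n, rfl⟩⟩, han⟩ := IsLocalization.surj (Submonoid.powers c) a₁
    refine ⟨n, a, ?_⟩
    have hle : ν ⁻¹ᵁ D ≤ ν ⁻¹ᵁ U := fun _ h => hDU h
    have : Nonempty (ν ⁻¹ᵁ D : Z.Opens) := ⟨⟨z, show ν z ∈ D from hz.symm ▸ hxc⟩⟩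
    refine map_injective_of_isIntegral Z (homOfLE hle) ?_
    have key : ∀ w : A, Z.presheaf.map (homOfLE hle).op (φ w) =
        ν.app D (algebraMap A Γ(X, D) w) := fun w => by
      show (ν.app U ≫ Z.presheaf.map (homOfLE hle).op) w = (X.presheaf.map (homOfLE hDU).op ≫ ν.app D) w
      rw [Scheme.Hom.naturality]
      rfl
    rw [map_mul, key, map_pow, key, ← ha₁, ← map_pow, ← map_mul, ← map_pow, mul_comm, han]
  obtain ⟨s, hs⟩ := (inferInstance : Module.Finite A B).fg_top
  choose n a ha using hpow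
  let N := ∑ b ∈ s, n b
  refine ⟨φ c ^ N, pow_ne_zero _ hcne, fun b => ?_⟩
  have hmem : b ∈ Submodule.span A (s : Set B) := hs.ge Submodule.mem_top
  induction hmem using Submodule.span_induction with
  | mem b hb =>
    refine ⟨c ^ (N - n b) * a b, ?_⟩
    show φ (c ^ (N - n b) * a b) = _
    rw [map_mul, map_pow, ha, ← mul_assoc, ← pow_add,
      Nat.sub_add_cancel (Finset.single_le_sum (f := n) (fun _ _ => Nat.zero_le _) hb)]
  | zero => rw [mul_zero]; exact zero_mem _
  | add b₁ b₂ _ _ h₁ h₂ => rw [mul_add]; exact add_mem h₁ h₂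
  | smul r b _ h =>
    obtain ⟨w, hw⟩ := h
    refine ⟨r * w, ?_⟩
    rw [map_mul, hw, Algebra.smul_def]
    show φ r * _ = _ * (φ r * b)
    ring

variable (k : Type u) [Field k]

/-- the map to the affine line of a global function -/
def lineMap {X : Scheme.{u}} [X.Over (Spec (CommRingCat.of k))] (t : Γ(X, ⊤)) :
    X ⟶ Spec (CommRingCat.of (Polynomial k)) :=
  X.toSpecΓ ≫ Spec.map (CommRingCat.ofHom (evalSect k (⊤ : X.Opens) t))

theorem comp_lineMap {Z X : Scheme.{u}} [Z.Over (Spec (CommRingCat.of k))] [X.Over (Spec (CommRingCat.of k))]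
    (f : Z ⟶ X) (hf : f ≫ (X ↘ Spec (CommRingCat.of k)) = Z ↘ Spec (CommRingCat.of k)) (t : Γ(X, ⊤)) :
    f ≫ lineMap k t = lineMap k (f.appTop t) := by
  rw [lineMap, lineMap, Scheme.toSpecΓ_naturality_assoc, ← Spec.map_comp]
  congr 2
  refine CommRingCat.hom_ext (Polynomial.ringHom_ext (fun r => ?_) ?_)
  · show f.appTop (evalSect k ⊤ t (Polynomial.C r)) = evalSect k ⊤ (f.appTop t) (Polynomial.C r)
    rw [evalSect, evalSect, Polynomial.coe_eval₂RingHom, Polynomial.coe_eval₂RingHom, Polynomial.eval₂_C,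
      Polynomial.eval₂_C]
    show f.appTop (Scheme.Hom.appLE (X ↘ Spec (CommRingCat.of k)) ⊤ ⊤ _ _) =
      Scheme.Hom.appLE (Z ↘ Spec (CommRingCat.of k)) ⊤ ⊤ _ _
    rw [← hf]
    simp [Scheme.Hom.appLE, Scheme.Hom.appTop]
  · show f.appTop (evalSect k ⊤ t Polynomial.X) = evalSect k ⊤ (f.appTop t) Polynomial.X
    rw [evalSect, evalSect, Polynomial.coe_eval₂RingHom, Polynomial.coe_eval₂RingHom, Polynomial.eval₂_X,
      Polynomial.eval₂_X]

theorem toLine_eq_lineMap {Y : Scheme.{u}} [Y.Over (Spec (CommRingCat.of k))] (W : Y.Opens) (t : Γ(Y, W)) :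
    letI : (W : Scheme.{u}).Over (Spec (CommRingCat.of k)) := ⟨W.ι ≫ (Y ↘ Spec (CommRingCat.of k))⟩
    toLine k W t = lineMap k (X := (W : Scheme.{u})) (W.topIso.inv t) := by
  letI : (W : Scheme.{u}).Over (Spec (CommRingCat.of k)) := ⟨W.ι ≫ (Y ↘ Spec (CommRingCat.of k))⟩
  rw [toLine, lineMap, Scheme.Opens.toSpecΓ, Category.assoc, ← Spec.map_comp]
  congr 2
  refine CommRingCat.hom_ext (Polynomial.ringHom_ext (fun r => ?_) ?_)
  · show W.topIso.inv (evalSect k W t (Polynomial.C r)) = evalSect k ⊤ (W.topIso.inv t) (Polynomial.C r)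
    rw [evalSect, evalSect, Polynomial.coe_eval₂RingHom, Polynomial.coe_eval₂RingHom, Polynomial.eval₂_C,
      Polynomial.eval₂_C]
    show W.topIso.inv (Scheme.Hom.appLE (Y ↘ Spec (CommRingCat.of k)) ⊤ W _ _) =
      Scheme.Hom.appLE (W.ι ≫ (Y ↘ Spec (CommRingCat.of k))) ⊤ ⊤ _ _
    rw [← ConcreteCategory.comp_apply]
    congr 1
    simp [Scheme.Hom.appLE, ← Functor.map_comp]
    congr 1
  · show W.topIso.inv (evalSect k W t Polynomial.X) = evalSect k ⊤ (W.topIso.inv t) Polynomial.X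
    rw [evalSect, evalSect, Polynomial.coe_eval₂RingHom, Polynomial.coe_eval₂RingHom, Polynomial.eval₂_X,
      Polynomial.eval₂_X]

theorem app_injective_of_surjective {Z X : Scheme.{u}} [IsReduced X] (ν : Z ⟶ X) [Surjective ν]
    (U : X.Opens) : Function.Injective (ν.app U) := by
  rw [injective_iff_map_eq_zero]
  intro a ha
  by_contra h
  have hne : X.basicOpen a ≠ ⊥ := fun h' => h ((basicOpen_eq_bot_iff a).1 h')
  obtain ⟨x, hx⟩ : (X.basicOpen a : Set X).Nonempty := by
    rw [Set.nonempty_iff_ne_empty]; exact fun h' => hne (Opens.ext h')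
  obtain ⟨z, hz⟩ := (inferInstance : Surjective ν).surj x
  have : z ∈ ν ⁻¹ᵁ X.basicOpen a := show ν z ∈ X.basicOpen a from hz.symm ▸ hx
  rw [Scheme.preimage_basicOpen, ha, Scheme.basicOpen_zero] at this
  exact this

/-- A curve finitely and birationally covered by a proper open part of a normal proper curve is affine. -/
theorem isAffine_of_cover {X Y : Scheme.{u}} [X.Over (Spec (CommRingCat.of k))] [Y.Over (Spec (CommRingCat.of k))]
    [IsIntegral X] [IsSeparated (X ↘ Spec (CommRingCat.of k))] [LocallyOfFiniteType (X ↘ Spec (CommRingCat.of k))]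
    [QuasiCompact (X ↘ Spec (CommRingCat.of k))] [IsIntegral Y] [IsProper (Y ↘ Spec (CommRingCat.of k))]
    (hdim : topologicalKrullDim Y = 1)
    (hval : ∀ y : Y, ∃ _ : IsDomain (Y.presheaf.stalk y), ValuationRing (Y.presheaf.stalk y))
    (W : Y.Opens) (hgW : genericPoint Y ∈ W) (hne : W ≠ ⊤) (ν : (W : Scheme.{u}) ⟶ X) [IsFinite ν] [Surjective ν]
    (hν : ν ≫ (X ↘ Spec (CommRingCat.of k)) = W.ι ≫ (Y ↘ Spec (CommRingCat.of k)))
    (V : X.Opens) (hV : (V : Set X).Nonempty) [IsIso (ν ∣_ V)] : IsAffine X := by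
  classical
  set sY := Y ↘ Spec (CommRingCat.of k)
  letI iW : (W : Scheme.{u}).Over (Spec (CommRingCat.of k)) := ⟨W.ι ≫ sY⟩
  have : Nonempty W := ⟨⟨_, hgW⟩⟩
  have : IsIntegral (W : Scheme.{u}) := isIntegral_of_isOpenImmersion W.ι
  have : IsLocallyNoetherian Y := LocallyOfFiniteType.isLocallyNoetherian sY
  have : CompactSpace Y := QuasiCompact.compactSpace_of_compactSpace sY
  have : IsNoetherian Y := { }
  have : CompactSpace X := QuasiCompact.compactSpace_of_compactSpace (X ↘ Spec (CommRingCat.of k))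
  obtain ⟨S, hS⟩ := isCompact_univ.elim_finite_subcover
    (fun U : {U : X.Opens // IsAffineOpen U ∧ (U : Set X).Nonempty} => (U.1 : Set X)) (fun U => U.1.2)
    (fun x _ => by
      obtain ⟨U, hU, hxU, -⟩ := exists_isAffineOpen_mem_and_subset (U := (⊤ : X.Opens)) (x := x) trivial
      exact Set.mem_iUnion.2 ⟨⟨U, hU, x, hxU⟩, hxU⟩)
  choose e he0 he using fun U : S => exists_conductor_elt ν V hV U.1.1 U.1.2.1 U.1.2.2
  let U' : S → Y.Opens := fun U => W.ι ''ᵁ (ν ⁻¹ᵁ U.1.1)
  let eY : ∀ U : S, Γ(Y, U' U) := fun U => e U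
  have hU'W : ∀ U, U' U ≤ W := fun U => by
    rintro _ ⟨w, -, rfl⟩; exact w.2
  have hgU' : ∀ U : S, genericPoint Y ∈ U' U := fun U => by
    obtain ⟨x, hx⟩ := U.1.2.2
    obtain ⟨w, hw⟩ := (inferInstance : Surjective ν).surj x
    exact (genericPoint_specializes w.1).mem_open (U' U).2 ⟨w, show ν w ∈ U.1.1 from hw.symm ▸ hx, rfl⟩
  let eK : S → Y.functionField := fun U => Y.presheaf.germ (U' U) (genericPoint Y) (hgU' U) (eY U)
  have heK : ∀ U, eK U ≠ 0 := fun U h0 => he0 U (germ_injective_of_isIntegral Y (genericPoint Y) (hgU' U)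
    (h0.trans (map_zero _).symm) : eY U = 0)
  let T0 : Set Y := (⋃ U : S, ((Y.basicOpen (eY U) : Set Y))ᶜ) ∩ (W : Set Y)
  have hclosed : ∀ y, y ≠ genericPoint Y → IsClosed ({y} : Set Y) := fun y hy =>
    Crv77.isClosed_singleton hdim.le hy
  have hTfin : T0.Finite := by
    refine (Set.finite_iUnion fun U => ?_).inter_of_left _
    exact Crv77.finite_of_isClosed' hdim.le (Y.basicOpen (eY U)).2.isClosed_compl fun h => h (by
      rw [SetLike.mem_coe, Scheme.mem_basicOpen _ _ _ (hgU' U)]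
      exact (heK U).isUnit)
  have hTgen : ∀ y ∈ T0, y ≠ genericPoint Y := by
    rintro y ⟨hy, -⟩ rfl
    obtain ⟨U, hU⟩ := Set.mem_iUnion.1 hy
    refine hU ?_
    rw [SetLike.mem_coe, Scheme.mem_basicOpen _ _ _ (hgU' U)]
    exact (heK U).isUnit
  have hFfin : ((W : Set Y)ᶜ).Finite :=
    Crv77.finite_of_isClosed' hdim.le W.2.isClosed_compl fun h => h hgW
  obtain ⟨z, hz1, hz2, hz3⟩ := exists_fun_poles sY hdim hval hFfin.toFinset hTfin.toFinset
    (fun y hy => hclosed y fun h => (hFfin.mem_toFinset.1 hy) (h ▸ hgW))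
    (fun y hy => hclosed y (hTgen y (hTfin.mem_toFinset.1 hy)))
    (Finset.disjoint_left.2 fun y hy hy' => (hFfin.mem_toFinset.1 hy) (hTfin.mem_toFinset.1 hy').2)
    eK
  obtain ⟨t', ht'⟩ := exists_section_of_regAt W hgW z fun y hy =>
    hz1 y fun h => (hFfin.mem_toFinset.1 h) hy
  obtain ⟨haffW, hfin⟩ := isFinite_toLine_of_poles k hdim hval W hgW hne t' fun y hy a ha =>
    hz2 y (hFfin.mem_toFinset.2 hy) ⟨a, ha.trans ht'⟩
  let t'' : Γ((W : Scheme.{u}), ⊤) := W.topIso.inv t'
  have hloc : ∀ U : S, ∃ a : Γ(X, U.1.1),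
      ν.app U.1.1 a = (W : Scheme.{u}).presheaf.map (homOfLE le_top).op t'' := by
    intro U
    obtain ⟨u, hu⟩ := exists_section_of_regAt (U' U) (hgU' U) (z * (eK U)⁻¹) fun y hy => by
      by_cases hyT : y ∈ hTfin.toFinset
      · exact hz3 y hyT U
      · have hyB : y ∈ Y.basicOpen (eY U) := by
          by_contra hc
          exact hyT (hTfin.mem_toFinset.2 ⟨Set.mem_iUnion.2 ⟨U, hc⟩, hU'W U hy⟩)
        obtain ⟨a, ha⟩ := hz1 y fun h => (hFfin.mem_toFinset.1 h) (hU'W U hy)
        obtain ⟨v, hv⟩ := (Scheme.mem_basicOpen _ _ _ hy).1 hyB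
        refine ⟨a * (v⁻¹ : (Y.presheaf.stalk y)ˣ), ?_⟩
        rw [map_mul, ha, map_units_inv, hv, algebraMap_germ]
    obtain ⟨a, ha⟩ := he U u
    refine ⟨a, ha.trans ?_⟩
    have hY : eY U * u = Y.presheaf.map (homOfLE (hU'W U)).op t' := by
      refine germ_injective_of_isIntegral Y (genericPoint Y) (hgU' U) ?_
      rw [map_mul, hu, TopCat.Presheaf.germ_res_apply, ht']
      show eK U * _ = _
      rw [mul_comm, mul_assoc, inv_mul_cancel₀ (heK U), mul_one]
    refine hY.trans ?_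
    show Y.presheaf.map (homOfLE (hU'W U)).op t' = (W : Scheme.{u}).presheaf.map _ (W.topIso.inv t')
    rw [Scheme.Opens.topIso_inv, Scheme.Opens.toScheme_presheaf_map, ← ConcreteCategory.comp_apply,
      ← Functor.map_comp]
    rfl
  choose a ha using hloc
  have hnat : ∀ {U₁ U₂ : X.Opens} (h : U₂ ≤ U₁) (b : Γ(X, U₁)), ν.app U₂ (X.presheaf.map (homOfLE h).op b) =
      (W : Scheme.{u}).presheaf.map (homOfLE (fun _ hw => h hw : ν ⁻¹ᵁ U₂ ≤ ν ⁻¹ᵁ U₁)).op (ν.app U₁ b) :=
    fun h b => ConcreteCategory.congr_hom (Scheme.Hom.naturality ν (homOfLE h).op) b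
  have hcover : (⊤ : X.Opens) ≤ iSup fun U : S => U.1.1 := fun x _ => by
    obtain ⟨U, hU, hxU⟩ := Set.mem_iUnion₂.1 (hS (Set.mem_univ x))
    exact Opens.mem_iSup.mpr ⟨⟨U, hU⟩, hxU⟩
  have hcompat : TopCat.Presheaf.IsCompatible X.sheaf.obj (fun U : S => U.1.1) a := by
    intro U₁ U₂
    refine app_injective_of_surjective ν _ ?_
    show ν.app _ (X.presheaf.map (homOfLE inf_le_left).op (a U₁)) =
      ν.app _ (X.presheaf.map (homOfLE inf_le_right).op (a U₂))
    erw [hnat inf_le_left (a U₁), hnat inf_le_right (a U₂), ha, ha]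
    simp only [← ConcreteCategory.comp_apply, ← Functor.map_comp]
    rfl
  obtain ⟨(t : Γ(X, ⊤)), ht, -⟩ := X.sheaf.existsUnique_gluing' (fun U : S => U.1.1) ⊤
    (fun U => homOfLE le_top) hcover a hcompat
  have htν : ν.appTop t = t'' := by
    refine TopCat.Sheaf.eq_of_locally_eq' (W : Scheme.{u}).sheaf (fun U : S => ν ⁻¹ᵁ U.1.1) ⊤
      (fun U => homOfLE le_top) (fun w _ => by
        obtain ⟨U, hU⟩ := Opens.mem_iSup.1 (hcover (show ν w ∈ (⊤ : X.Opens) from trivial))
        exact Opens.mem_iSup.mpr ⟨U, hU⟩) _ _ fun U => ?_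
    show (W : Scheme.{u}).presheaf.map (homOfLE le_top).op (ν.app ⊤ t) =
      (W : Scheme.{u}).presheaf.map (homOfLE le_top).op t''
    rw [← ha U, ← show X.presheaf.map (homOfLE le_top).op t = a U from ht U]
    exact (hnat le_top t).symm
  have hcomp : ν ≫ lineMap k t = toLine k W t' := by
    rw [comp_lineMap k ν hν, htν, toLine_eq_lineMap]
  let g := lineMap k t
  have hg : g ≫ Spec.map (CommRingCat.ofHom Polynomial.C) = X ↘ Spec (CommRingCat.of k) := by
    rw [← cancel_epi (𝟙 X)]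
    simp only [Category.id_comp, g, lineMap, Category.assoc, ← Spec.map_comp]
    have h : CommRingCat.ofHom Polynomial.C ≫ CommRingCat.ofHom (evalSect k (⊤ : X.Opens) t) =
        (Scheme.ΓSpecIso (CommRingCat.of k)).inv ≫ (X ↘ Spec (CommRingCat.of k)).appTop := by
      refine CommRingCat.hom_ext (RingHom.ext fun r => ?_)
      show evalSect k (⊤ : X.Opens) t (Polynomial.C r) = _
      rw [evalSect, Polynomial.coe_eval₂RingHom, Polynomial.eval₂_C]
      simp [Var76.BertiniScheme.const, Scheme.Hom.appLE, Scheme.Hom.appTop]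
    rw [h, Spec.map_comp, ← Scheme.toSpecΓ_naturality_assoc]
    simp [← Spec.map_comp]
  have : IsSeparated (g ≫ Spec.map (CommRingCat.ofHom Polynomial.C)) := hg ▸ inferInstance
  have : LocallyOfFiniteType (g ≫ Spec.map (CommRingCat.ofHom Polynomial.C)) := hg ▸ inferInstance
  have : IsSeparated g := IsSeparated.of_comp g (Spec.map (CommRingCat.ofHom Polynomial.C))
  have : LocallyOfFiniteType g := locallyOfFiniteType_of_comp g (Spec.map (CommRingCat.ofHom Polynomial.C))
  have : QuasiCompact g := inferInstance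
  have : IsFinite (ν ≫ g) := hcomp ▸ hfin
  have : UniversallyClosed g := UniversallyClosed.of_comp_surjective ν g
  have : IsProper g := { }
  have : LocallyQuasiFinite g := by
    refine LocallyQuasiFinite.of_finite_preimage_singleton g fun y => ?_
    have h1 : ((ν ≫ g) ⁻¹' {y}).Finite := Scheme.Hom.finite_preimage_singleton _ y
    refine (h1.image ν).subset fun x hx => ?_
    obtain ⟨w, rfl⟩ := (inferInstance : Surjective ν).surj x
    exact ⟨w, by simpa using hx, rfl⟩
  have : IsFinite g := IsFinite.of_isProper_of_locallyQuasiFinite g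
  exact isAffine_of_isAffineHom g

/-- An integral separated curve which is not proper is affine. -/
theorem isAffine_of_not_isProper (X : Scheme.{u}) [X.Over (Spec (CommRingCat.of k))]
    [IsIntegral X] [IsSeparated (X ↘ Spec (CommRingCat.of k))]
    [LocallyOfFiniteType (X ↘ Spec (CommRingCat.of k))] [QuasiCompact (X ↘ Spec (CommRingCat.of k))]
    (hdim : topologicalKrullDim X = 1) (hnp : ¬ IsProper (X ↘ Spec (CommRingCat.of k))) : IsAffine X := by
  set sX := X ↘ Spec (CommRingCat.of k)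
  have : IsLocallyNoetherian X := LocallyOfFiniteType.isLocallyNoetherian sX
  have : CompactSpace X := QuasiCompact.compactSpace_of_compactSpace sX
  have : IsNoetherian X := { }
  obtain ⟨hfin, hdom, ⟨V, hVne, hiso⟩, hint, hnorm⟩ := S1585.result k X
  let ν := Curv2.normalizationι X
  have : IsFinite ν := hfin
  have : IsDominant ν := hdom
  have : IsIntegral (Curv2.normalization X) := hint
  have : Surjective ν := ⟨by
    have h1 : IsClosed (Set.range ν) := ν.isClosedMap.isClosed_range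
    exact Set.range_eq_univ.1 (h1.closure_eq ▸ ν.denseRange.closure_range)⟩
  let : (Curv2.normalization X).Over (Spec (CommRingCat.of k)) := ⟨ν ≫ sX⟩
  have : LocallyOfFiniteType (Curv2.normalization X ↘ Spec (CommRingCat.of k)) :=
    inferInstanceAs (LocallyOfFiniteType (ν ≫ sX))
  have : IsSeparated (Curv2.normalization X ↘ Spec (CommRingCat.of k)) :=
    inferInstanceAs (IsSeparated (ν ≫ sX))
  have : QuasiCompact (Curv2.normalization X ↘ Spec (CommRingCat.of k)) :=
    inferInstanceAs (QuasiCompact (ν ≫ sX))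
  have hdim' : topologicalKrullDim (Curv2.normalization X) = 1 := by
    have hne' : ((ν ⁻¹ᵁ V : (Curv2.normalization X).Opens) : Set (Curv2.normalization X)).Nonempty := by
      obtain ⟨x, hx⟩ := hVne
      obtain ⟨w, hw⟩ := (inferInstance : Surjective ν).surj x
      exact ⟨w, show ν w ∈ V from hw.symm ▸ hx⟩
    rw [← VarGal.topologicalKrullDim_open_eq (ν ≫ sX) (ν ⁻¹ᵁ V) hne',
      (asIso (ν ∣_ V)).schemeIsoToHomeo.isHomeomorph.topologicalKrullDim_eq,
      VarGal.topologicalKrullDim_open_eq sX V hVne, hdim]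
  have : IsLocallyNoetherian (Curv2.normalization X) := LocallyOfFiniteType.isLocallyNoetherian (ν ≫ sX)
  have hval : ∀ x : Curv2.normalization X, ∃ _ : IsDomain ((Curv2.normalization X).presheaf.stalk x),
      ValuationRing ((Curv2.normalization X).presheaf.stalk x) := fun x => by
    let R := (Curv2.normalization X).presheaf.stalk x
    obtain ⟨_, hic⟩ := hnorm x
    refine ⟨inferInstance, ?_⟩
    have hk : Ring.KrullDimLE 1 R := Ring.krullDimLE_iff.mpr ((Crv77.stalk_dim_le x).trans hdim'.le)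
    have h4 : IsIntegrallyClosed R ∧ ∀ P : Ideal R, P ≠ ⊥ → P.IsPrime → P = IsLocalRing.maximalIdeal R :=
      ⟨hic, fun P hP0 hP => IsLocalRing.eq_maximalIdeal
        (Ring.krullDimLE_one_iff_of_noZeroDivisors.mp hk P hP0 hP)⟩
    exact ((tfae_of_isNoetherianRing_of_isLocalRing_of_isDomain (R := R)).out 3 1).1 h4
  obtain ⟨Y, hYint, sY, j, hj, hjY, ⟨N, i, hi, his⟩, hvY, hdY⟩ :=
    exists_openImmersion_model k (Curv2.normalization X) hdim' hval
  have : IsProper (CohB1.ProjSpace.toSpec N k) := ProjLine.isProper_toSpec k N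
  have hpY : IsProper sY := his ▸ inferInstanceAs (IsProper (i ≫ CohB1.ProjSpace.toSpec N k))
  let : Y.Over (Spec (CommRingCat.of k)) := ⟨sY⟩
  have : IsProper (Y ↘ Spec (CommRingCat.of k)) := hpY
  let W := j.opensRange
  let ν' : (W : Scheme.{u}) ⟶ X := j.isoOpensRange.inv ≫ ν
  have hν' : ν' ≫ sX = W.ι ≫ sY := by
    show (j.isoOpensRange.inv ≫ ν) ≫ sX = W.ι ≫ sY
    rw [Category.assoc, show ν ≫ sX = j ≫ sY from hjY.symm, ← Category.assoc]
    congr 1
    exact Scheme.Hom.isoOpensRange_inv_comp j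
  have hgW : genericPoint Y ∈ W := by
    refine ((genericPoint_spec Y).mem_open_set_iff W.2).2 ?_
    obtain ⟨x, -⟩ := hVne
    obtain ⟨w, -⟩ := (inferInstance : Surjective ν).surj x
    exact ⟨j w, trivial, ⟨w, rfl⟩⟩
  have hne : W ≠ ⊤ := by
    intro htop
    apply hnp
    have hUC : UniversallyClosed (ν' ≫ sX) := by
      rw [hν']
      have : IsIso W.ι := by
        have hsurj : Surjective W.ι := ⟨fun y => ⟨⟨y, htop ▸ trivial⟩, rfl⟩⟩
        exact (isIso_iff_isOpenImmersion_and_epi_base W.ι).2 ⟨inferInstance, (TopCat.epi_iff_surjective _).2 hsurj.surj⟩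
      infer_instance
    have : UniversallyClosed sX := UniversallyClosed.of_comp_surjective ν' sX
    exact { }
  have : IsIso (ν' ∣_ V) := by
    rw [morphismRestrict_comp]
    have : IsIso (ν ∣_ V) := hiso
    infer_instance
  exact isAffine_of_cover k hdY hvY W hgW hne ν' hν' V hVne

end Groth.Agent.Curves2
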