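import Groth.Agent.Curves2.ProjModelAlg
import Groth.Agent.CAlg6.FiniteClosure
import Mathlib.FieldTheory.IntermediateField.Adjoin.Basic

/-! Two affine models of a function field in one variable. -/

set_option autoImplicit false

universe u

open scoped IntermediateField IntermediateField.algebraAdjoinAdjoin

namespace Groth.Agent.Curves2.ProjModel

variable {k : Type u} {K : Type u} [Field k] [Field K] [Algebra k K]

theorem exists_chart (u : K) [FiniteDimensional k⟮u⟯ K] :
    ∃ (m : ℕ) (f : Fin (m + 1) → K), f 0 = 1 ∧ (∀ i, f i ≠ 0) ∧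
      ∀ O : ValuationSubring K, (∀ r : k, algebraMap k K r ∈ O) → u ∈ O →
        IsLoc (Algebra.adjoin k (Set.range f)) O := by
  classical
  let P := Algebra.adjoin k ({u} : Set K)
  have : Algebra.FiniteType k P :=
    (Subalgebra.fg_iff_finiteType P).1 (Subalgebra.fg_adjoin_finset {u} |> fun h => by simpa using h)
  have : IsPrincipalIdealRing P := by
    let e : Polynomial k →ₐ[k] P := Polynomial.aeval ⟨u, Algebra.self_mem_adjoin_singleton k u⟩
    refine IsPrincipalIdealRing.of_surjective e.toRingHom fun ⟨y, hy⟩ => ?_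
    obtain ⟨q, rfl⟩ := (Algebra.adjoin_singleton_eq_range_aeval k u).le hy
    refine ⟨q, Subtype.ext ?_⟩
    show P.val (Polynomial.aeval _ q) = _
    rw [← Polynomial.aeval_algHom_apply]
    rfl
  let D := integralClosure P K
  have hfin : Module.Finite P D := CAlg6.finite_integralClosure k P k⟮u⟯ K
  have : IsNoetherianRing D := isNoetherianRing_iff.mpr
    (isNoetherian_of_tower P (inferInstance : IsNoetherian P D))
  have : IsIntegrallyClosed D := integralClosure.isIntegrallyClosedOfFiniteExtension k⟮u⟯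
  have hded : IsDedekindDomain D := { }
  have hfr : IsFractionRing D K := integralClosure.isFractionRing_of_finite_extension k⟮u⟯ K
  let A : Subalgebra k K := D.restrictScalars k
  have : IsDedekindDomain A := hded
  have : IsFractionRing A K := hfr
  have : Algebra.FiniteType P D := inferInstance
  have hA : Algebra.FiniteType k D := Algebra.FiniteType.trans ‹Algebra.FiniteType k P› ‹_›
  obtain ⟨s, hs⟩ : A.FG := (Subalgebra.fg_iff_finiteType A).2 hA
  let s' : Finset K := s.filter (· ≠ 0)
  let f : Fin (s'.card + 1) → K := Fin.cons 1 fun i => (s'.equivFin.symm i : K)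
  have hf : ∀ i, f i ≠ 0 := by
    intro i
    refine Fin.cases ?_ (fun j => ?_) i
    · simp [f]
    · simp only [f, Fin.cons_succ]
      exact (Finset.mem_filter.1 (s'.equivFin.symm j).2).2
  have hadj : Algebra.adjoin k (Set.range f) = A := by
    refine le_antisymm (Algebra.adjoin_le (Set.range_subset_iff.2 fun i => ?_)) ?_
    · refine Fin.cases ?_ (fun j => ?_) i
      · simp only [f, Fin.cons_zero]; exact one_mem A
      · simp only [f, Fin.cons_succ]
        rw [← hs]
        exact Algebra.subset_adjoin (Finset.mem_filter.1 (s'.equivFin.symm j).2).1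
    · rw [← hs]
      refine Algebra.adjoin_le fun x hx => ?_
      by_cases h0 : x = 0
      · rw [h0]; exact zero_mem _
      · exact Algebra.subset_adjoin ⟨Fin.succ (s'.equivFin ⟨x, Finset.mem_filter.2 ⟨hx, h0⟩⟩), by simp [f]⟩
  refine ⟨s'.card, f, by simp [f], hf, fun O hk hu => ?_⟩
  rw [hadj]
  refine isLoc_of_isDedekindDomain A O fun z hz => ?_
  have hP : ∀ y : P, (y : K) ∈ O := fun y => by
    have hle : P ≤ ({ O.toSubring.toSubsemiring with algebraMap_mem' := hk } : Subalgebra k K) :=
      Algebra.adjoin_le (Set.singleton_subset_iff.2 hu)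
    exact hle y.2
  let : Algebra P O := ((P.val.toRingHom).codRestrict O.toSubring hP).toAlgebra
  have : IsScalarTower P O K := IsScalarTower.of_algebraMap_eq fun _ => rfl
  obtain ⟨y, rfl⟩ := IsIntegrallyClosed.isIntegral_iff.1 ((show IsIntegral P z from hz).tower_top (A := O))
  exact y.2

/-- The two affine models of a finite extension of `k(t)`. -/
theorem exists_models (t : K) [FiniteDimensional k⟮t⟯ K] :
    ∃ (m n : ℕ) (f : Fin (m + 1) → K) (g : Fin (n + 1) → K), f 0 = 1 ∧ g 0 = 1 ∧ (∀ i, f i ≠ 0) ∧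
      (∀ j, g j ≠ 0) ∧ ∀ O : ValuationSubring K, (∀ r : k, algebraMap k K r ∈ O) →
        IsLoc (Algebra.adjoin k (Set.range f)) O ∨ IsLoc (Algebra.adjoin k (Set.range g)) O := by
  have heq : k⟮t⁻¹⟯ = k⟮t⟯ := le_antisymm
    (IntermediateField.adjoin_simple_le_iff.2 (inv_mem (IntermediateField.mem_adjoin_simple_self k t)))
    (IntermediateField.adjoin_simple_le_iff.2 (by
      simpa using inv_mem (IntermediateField.mem_adjoin_simple_self k t⁻¹)))
  have : FiniteDimensional k⟮t⁻¹⟯ K := heq ▸ ‹FiniteDimensional k⟮t⟯ K›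
  obtain ⟨m, f, hf1, hf, hfO⟩ := exists_chart (k := k) t
  obtain ⟨n, g, hg1, hg, hgO⟩ := exists_chart (k := k) t⁻¹
  exact ⟨m, n, f, g, hf1, hg1, hf, hg, fun O hk => (O.mem_or_inv_mem t).imp (hfO O hk) (hgO O hk)⟩

end Groth.Agent.Curves2.ProjModel
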