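import Groth.Agent.Curves2.ProjModel
import Groth.Agent.Curves2.ProjModelField
import Groth.Agent.Var76.VarDim

/-! The normal projective model of a function field in one variable and of a curve. -/

universe u

open CategoryTheory CategoryTheory.Limits AlgebraicGeometry Opposite TopologicalSpace
open scoped IntermediateField

noncomputable section

set_option backward.isDefEq.respectTransparency false

namespace Groth.Agent.Curves2.ProjModel

/-- A function field of transcendence degree one is the function field of a normal projective curve. -/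
theorem exists_model (k : Type u) [Field k] (K : Type u) [Field K] [Algebra k K] (t : K)
    [FiniteDimensional k⟮t⟯ K] (htr : Algebra.trdeg k K = 1) :
    ∃ (Y : Scheme.{u}) (_ : IsIntegral Y) (sY : Y ⟶ Spec (CommRingCat.of k)),
      (∃ (N : ℕ) (i : Y ⟶ CohB1.ProjSpace N k), IsClosedImmersion i ∧ i ≫ CohB1.ProjSpace.toSpec N k = sY) ∧
      (∀ y : Y, ∃ _ : IsDomain (Y.presheaf.stalk y), ValuationRing (Y.presheaf.stalk y)) ∧
      topologicalKrullDim Y = 1 ∧
      ∃ σ : Y.functionField ≅ CommRingCat.of K,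
        Spec.map σ.hom ≫ Y.fromSpecStalk (genericPoint Y) ≫ sY =
          Spec.map (CommRingCat.ofHom (algebraMap k K)) := by
  classical
  obtain ⟨m, n, f, g, hf1, hg1, hf, hg, hcov⟩ := exists_models (k := k) t
  obtain ⟨N, e⟩ : ∃ N, Nonempty ((Fin (m + 1) × Fin (n + 1)) ≃ Fin (N + 1)) :=
    ⟨m * n + m + n, ⟨finProdFinEquiv.trans (finCongr (by ring))⟩⟩
  obtain ⟨e⟩ := e
  let h : Fin (N + 1) → K := fun l => f (e.symm l).1 * g (e.symm l).2
  have hh : ∀ l, h l ≠ 0 := fun l => mul_ne_zero (hf _) (hg _)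
  obtain ⟨Y, hint, i, ξ, hi, hξ, hgen, hcharts⟩ := exists_closure k h hh
  have htot : ∀ (V : Y.Opens) (j : Fin (N + 1)) (φ : Γ(Y, V) →+* K), Function.Injective φ →
      (∀ l, h l / h j ∈ φ.range) → (∀ r : k, algebraMap k K r ∈ φ.range) → ∀ (p : Ideal Γ(Y, V)) [p.IsPrime] (x : K),
      (∃ c d, d ∉ p ∧ φ d ≠ 0 ∧ x = φ c / φ d) ∨ (∃ c d, d ∉ p ∧ φ d ≠ 0 ∧ x⁻¹ = φ c / φ d) :=
    fun V j φ hinj hl hk p _ x => frac_total f g 0 0 hf1 hg1 hf hg hcov φ hinj (e.symm j).1 (e.symm j).2
      (fun a b => by have := hl (e (a, b)); simp only [h, Equiv.symm_apply_apply] at this; exact this) hk p x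
  have hval : ∀ y : Y, ∃ _ : IsDomain (Y.presheaf.stalk y), ValuationRing (Y.presheaf.stalk y) := by
    intro y
    obtain ⟨V, hV, j, φ, hy, hinj, hl, hk, -⟩ := hcharts y
    have : IsDomain Γ(Y, V) := hinj.isDomain φ
    let := TopCat.Presheaf.algebra_section_stalk Y.presheaf ⟨y, hy⟩
    have := hV.isLocalization_stalk ⟨y, hy⟩
    let p := (hV.primeIdealOf ⟨y, hy⟩).asIdeal
    let O := Y.presheaf.stalk y
    have hd : IsDomain O := IsLocalization.isDomain_of_le_nonZeroDivisors (R := Γ(Y, V)) O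
      p.primeCompl_le_nonZeroDivisors
    refine ⟨hd, ValuationRing.iff_dvd_total.2 ⟨fun a' b' => ?_⟩⟩
    obtain ⟨⟨a, s⟩, ha⟩ := IsLocalization.surj p.primeCompl a'
    obtain ⟨⟨b, s'⟩, hb⟩ := IsLocalization.surj p.primeCompl b'
    have hua : ∀ d : Γ(Y, V), d ∉ p → IsUnit (algebraMap Γ(Y, V) O d) := fun d hd' =>
      IsLocalization.map_units O (⟨d, hd'⟩ : p.primeCompl)
    have key : ∀ a b c d : Γ(Y, V), d ∉ p → φ d ≠ 0 → φ b ≠ 0 → φ a / φ b = φ c / φ d →
        algebraMap Γ(Y, V) O b ∣ algebraMap Γ(Y, V) O a := by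
      intro a b c d hd' hd0 hb0 he
      rw [div_eq_div_iff hb0 hd0, ← map_mul, ← map_mul] at he
      obtain ⟨v, hv⟩ := hua d hd'
      have := congrArg (algebraMap Γ(Y, V) O) (hinj he)
      rw [map_mul, map_mul, ← hv] at this
      refine ⟨algebraMap _ O c * (v⁻¹ : Oˣ), ?_⟩
      rw [← mul_assoc, mul_comm (algebraMap _ O b), ← this, mul_assoc, Units.mul_inv, mul_one]
    have hfin : ∀ (x : O) (z : Γ(Y, V)) (w : p.primeCompl),
        x * algebraMap _ O (w : Γ(Y, V)) = algebraMap _ O z → Associated x (algebraMap _ O z) :=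
      fun x z w hw => ⟨(IsLocalization.map_units O w).unit, by rw [IsUnit.unit_spec]; exact hw⟩
    have A := hfin a' a s ha
    have B := hfin b' b s' hb
    rw [A.dvd_iff_dvd_left, B.dvd_iff_dvd_left, A.dvd_iff_dvd_right, B.dvd_iff_dvd_right]
    by_cases hb0 : φ b = 0
    · left; rw [hinj (hb0.trans (map_zero φ).symm), map_zero]; exact dvd_zero _
    by_cases ha0 : φ a = 0
    · right; rw [hinj (ha0.trans (map_zero φ).symm), map_zero]; exact dvd_zero _
    rcases htot V j φ hinj hl hk p (φ a / φ b) with ⟨c, d, hd', hd0, he⟩ | ⟨c, d, hd', hd0, he⟩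
    · exact Or.inr (key a b c d hd' hd0 hb0 he)
    · exact Or.inl (key b a c d hd' hd0 ha0 (by rwa [inv_div] at he))
  obtain ⟨V, hV, j, φ, hyV, hinj, hl, hk, hsp⟩ := hcharts (genericPoint Y)
  have : Nonempty V := ⟨⟨_, hyV⟩⟩
  have : IsFractionRing Γ(Y, V) Y.functionField := functionField_isFractionRing_of_isAffineOpen Y V hV
  let : Algebra Γ(Y, V) K := φ.toAlgebra
  have : IsDomain Γ(Y, V) := hinj.isDomain φ
  have : FaithfulSMul Γ(Y, V) K := (faithfulSMul_iff_algebraMap_injective _ _).2 hinj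
  have : IsFractionRing Γ(Y, V) K := IsFractionRing.of_field _ _ fun x => by
    rcases htot V j φ hinj hl hk ⊥ x with ⟨c, d, -, -, he⟩ | ⟨c, d, -, -, he⟩
    · exact ⟨c, d, he⟩
    · exact ⟨d, c, show x = φ d / φ c by rw [← inv_inv x, he, inv_div]⟩
  let θ : Y.functionField ≃ₐ[Γ(Y, V)] K := IsLocalization.algEquiv (nonZeroDivisors Γ(Y, V)) _ _
  let σ : Y.functionField ≅ CommRingCat.of K := θ.toRingEquiv.toCommRingCatIso
  let sY : Y ⟶ Spec (CommRingCat.of k) := i ≫ CohB1.ProjSpace.toSpec N k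
  have hσ : Spec.map σ.hom ≫ Y.fromSpecStalk (genericPoint Y) ≫ sY =
      Spec.map (CommRingCat.ofHom (algebraMap k K)) := by
    rw [← hξ, ← hsp, ← hV.fromSpecStalk_eq_fromSpecStalk hyV, IsAffineOpen.fromSpecStalk,
      Category.assoc, Category.assoc, ← Spec.map_comp_assoc]
    congr 2
    refine CommRingCat.hom_ext (RingHom.ext fun a => ?_)
    exact θ.commutes a
  refine ⟨Y, hint, sY, ⟨N, i, hi, rfl⟩, hval, ?_, σ, hσ⟩
  let : Y.Over (Spec (CommRingCat.of k)) := ⟨sY⟩
  have : IsProper (CohB1.ProjSpace.toSpec N k) := Curves2.ProjLine.isProper_toSpec k N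
  have : IsProper (Y ↘ Spec (CommRingCat.of k)) := inferInstanceAs (IsProper (i ≫ CohB1.ProjSpace.toSpec N k))
  rw [Var76.VarDim.dim_eq (k := k) (X := Y)]
  suffices hs : Var76.VarDim.trdegFF k Y = 1 by rw [hs]; rfl
  let : Algebra k Y.functionField := (Var76.VarDim.constField k Y).toAlgebra
  let θ' : Y.functionField ≃ₐ[k] K := AlgEquiv.ofRingEquiv (f := θ.toRingEquiv) fun r => by
    show θ (Var76.VarDim.constField k Y r) = _
    rw [← Var76.VarDim.germ_const (k := k) hyV r]
    show θ (algebraMap Γ(Y, V) Y.functionField _) = _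
    rw [θ.commutes]
    have := hσ
    have h2 : Spec.map (CommRingCat.ofHom (Var76.BertiniScheme.const (k := k) Y V) ≫ CommRingCat.ofHom φ) =
        Spec.map (CommRingCat.ofHom (algebraMap k K)) := by
      rw [Spec.map_comp, Var76.BertiniScheme.SpecMap_const hV, ← hξ, ← hsp, Category.assoc]
      rfl
    exact congr($(Spec.map_injective h2) r)
  rw [Var76.VarDim.trdegFF, θ'.trdeg_eq, htr, map_one]

/-- A curve has a separating coordinate making its function field finite over `k(t)`. -/
theorem exists_finite_adjoin (k : Type u) [Field k] (X : Scheme.{u}) [X.Over (Spec (CommRingCat.of k))]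
    [IsIntegral X] [LocallyOfFiniteType (X ↘ Spec (CommRingCat.of k))] (hdim : topologicalKrullDim X = 1) :
    letI := (Var76.VarDim.constField k X).toAlgebra
    Algebra.trdeg k X.functionField = 1 ∧ ∃ t : X.functionField, FiniteDimensional k⟮t⟯ X.functionField := by
  let : Algebra k X.functionField := (Var76.VarDim.constField k X).toAlgebra
  obtain ⟨W, hW, hgW, -⟩ := exists_isAffineOpen_mem_and_subset (U := (⊤ : X.Opens)) (x := genericPoint X) trivial
  have : Nonempty W := ⟨⟨_, hgW⟩⟩
  have h1 : Var76.VarDim.trdegFF k X = 1 := Var76.VarDim.trdegFF_eq (d := 1) (by rw [hdim]; rfl)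
  obtain ⟨hA, hK⟩ := Var76.VarDim.trdeg_chart (k := k) (X := X) hW
  rw [h1] at hA hK
  refine ⟨by exact_mod_cast hK, ?_⟩
  let : Algebra k Γ(X, W) := (Var76.BertiniScheme.const (k := k) X W).toAlgebra
  have := Var76.VarDim.finiteType_const (k := k) hW
  have : IsScalarTower k Γ(X, W) X.functionField :=
    IsScalarTower.of_algebraMap_eq fun r => (Var76.VarDim.germ_const hgW r).symm
  have : IsFractionRing Γ(X, W) X.functionField := functionField_isFractionRing_of_isAffineOpen X W hW
  obtain ⟨d, f, hf, hfin⟩ := exists_finite_inj_algHom_of_fg k Γ(X, W)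
  let P := MvPolynomial (Fin d) k
  let : Algebra P Γ(X, W) := f.toRingHom.toAlgebra
  have : Module.Finite P Γ(X, W) := hfin
  have : FaithfulSMul P Γ(X, W) := (faithfulSMul_iff_algebraMap_injective _ _).2 hf
  have : IsScalarTower k P Γ(X, W) := IsScalarTower.of_algebraMap_eq fun r => (f.commutes r).symm
  have hd : d = 1 := by
    have := trdeg_add_eq k P (A := Γ(X, W))
    rw [trdeg_eq_zero (R := P), add_zero, hA, MvPolynomial.trdeg_of_isDomain] at this
    simpa using this
  subst hd
  let φ : P →ₐ[k] X.functionField := (IsScalarTower.toAlgHom k Γ(X, W) X.functionField).comp f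
  let t : X.functionField := φ (MvPolynomial.X 0)
  refine ⟨t, ?_⟩
  have hinj : Function.Injective φ := (IsFractionRing.injective Γ(X, W) X.functionField).comp hf
  let : Algebra P X.functionField := φ.toRingHom.toAlgebra
  have : IsScalarTower P Γ(X, W) X.functionField := IsScalarTower.of_algebraMap_eq fun _ => rfl
  let K₀ := FractionRing P
  let : Algebra K₀ X.functionField := (IsFractionRing.lift hinj : K₀ →+* X.functionField).toAlgebra
  have : IsScalarTower P K₀ X.functionField := IsScalarTower.of_algebraMap_eq fun a =>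
    (IsFractionRing.lift_algebraMap hinj a).symm
  have : FiniteDimensional K₀ X.functionField :=
    Module.Finite.of_isLocalization P Γ(X, W) (Rₚ := K₀) (Sₚ := X.functionField) (nonZeroDivisors P)
  have hP : ∀ z : P, φ z ∈ k⟮t⟯ := fun z => by
    rw [show φ = MvPolynomial.aeval fun _ => t from MvPolynomial.algHom_ext fun i => by
      rw [MvPolynomial.aeval_X, Fin.fin_one_eq_zero i]]
    have hle : (MvPolynomial.aeval fun _ : Fin 1 => t).range ≤ k⟮t⟯.toSubalgebra := by
      rw [← Algebra.adjoin_range_eq_range_aeval]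
      exact Algebra.adjoin_le (Set.range_subset_iff.2 fun _ => IntermediateField.mem_adjoin_simple_self k t)
    exact hle ⟨z, rfl⟩
  have hK₀ : ∀ z : K₀, algebraMap K₀ X.functionField z ∈ k⟮t⟯ := fun z => by
    obtain ⟨a, b, -, rfl⟩ := IsFractionRing.div_surjective P (K := K₀) z
    rw [map_div₀, ← IsScalarTower.algebraMap_apply, ← IsScalarTower.algebraMap_apply]
    exact div_mem (hP a) (hP b)
  let : Algebra K₀ k⟮t⟯ := ((algebraMap K₀ X.functionField).codRestrict k⟮t⟯.toSubfield hK₀).toAlgebra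
  have : IsScalarTower K₀ k⟮t⟯ X.functionField := IsScalarTower.of_algebraMap_eq fun _ => rfl
  exact Module.Finite.of_restrictScalars_finite K₀ k⟮t⟯ X.functionField

end Groth.Agent.Curves2.ProjModel
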