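import Mathlib.RingTheory.Nullstellensatz
import Mathlib.RingTheory.Ideal.KrullsHeightTheorem
import Mathlib.RingTheory.Jacobson.Ring
import Mathlib.LinearAlgebra.Dimension.Finrank
import Mathlib.LinearAlgebra.FiniteDimensional.Defs
import Mathlib.LinearAlgebra.BilinearMap
import Mathlib.Algebra.Lie.OfAssociative

/-!
# Hopf's lemma on nondegenerate bilinear maps

A bilinear map `V × W → U` over an algebraically closed field without zero divisors satisfies
`dim V + dim W ≤ dim U + 1`.
-/

set_option autoImplicit false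

universe u v₁ v₂ v₃

open MvPolynomial

namespace Groth.Agent.Curves2

namespace BilinearHopf

variable {k : Type u} [Field k] {a b : ℕ}

/-- The Segre map `z_{ij} ↦ x_i y_j`. -/
noncomputable def segre : MvPolynomial (Fin a × Fin b) k →ₐ[k] MvPolynomial (Fin a ⊕ Fin b) k :=
  aeval fun ij => X (Sum.inl ij.1) * X (Sum.inr ij.2)

/-- Killing the variables of index at least `p` (first kind), `q` (second kind). -/
noncomputable def kill (p q : ℕ) : MvPolynomial (Fin a ⊕ Fin b) k →ₐ[k] MvPolynomial (Fin a ⊕ Fin b) k :=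
  aeval (Sum.elim (fun i => if (i : ℕ) < p then X (Sum.inl i) else 0)
    (fun j => if (j : ℕ) < q then X (Sum.inr j) else 0))

theorem kill_comp {p q p' q' : ℕ} (hp : p' ≤ p) (hq : q' ≤ q) :
    (kill (k := k) (a := a) (b := b) p' q').comp (kill p q) = kill p' q' := by
  refine MvPolynomial.algHom_ext fun v => ?_
  rcases v with i | j
  · by_cases h : (i : ℕ) < p
    · simp [kill, h]
    · simp [kill, h, show ¬ (i : ℕ) < p' from fun h' => h (lt_of_lt_of_le h' hp)]
  · by_cases h : (j : ℕ) < q
    · simp [kill, h]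
    · simp [kill, h, show ¬ (j : ℕ) < q' from fun h' => h (lt_of_lt_of_le h' hq)]

/-- The homogeneous coordinate ring of the Segre variety. -/
abbrev Cone (k : Type u) [Field k] (a b : ℕ) : Type u :=
  (segre (k := k) (a := a) (b := b)).toRingHom.range

/-- The kernel of killing variables. -/
noncomputable def K (p q : ℕ) : Ideal (Cone k a b) :=
  RingHom.ker ((kill p q).toRingHom.comp (segre (k := k) (a := a) (b := b)).toRingHom.range.subtype)

instance (p q : ℕ) : (K (k := k) (a := a) (b := b) p q).IsPrime := RingHom.ker_isPrime _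

theorem mem_K {p q : ℕ} {z : Cone k a b} :
    z ∈ K p q ↔ kill p q (z : MvPolynomial (Fin a ⊕ Fin b) k) = 0 := Iff.rfl

theorem K_mono {p q p' q' : ℕ} (hp : p' ≤ p) (hq : q' ≤ q) :
    K (k := k) (a := a) (b := b) p q ≤ K p' q' := fun z hz => by
  rw [mem_K] at hz ⊢
  rw [← kill_comp hp hq, AlgHom.comp_apply, hz, map_zero]

/-- The element `x_i y_j`. -/
noncomputable def zc (i : Fin a) (j : Fin b) : Cone k a b :=
  ⟨segre (X (i, j)), X (i, j), rfl⟩

theorem kill_zc (p q : ℕ) (i : Fin a) (j : Fin b) :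
    kill p q ((zc (k := k) i j : Cone k a b) : MvPolynomial (Fin a ⊕ Fin b) k) =
      (if (i : ℕ) < p then X (Sum.inl i) else 0) * (if (j : ℕ) < q then X (Sum.inr j) else 0) := by
  simp [zc, segre, kill]

theorem K_lt_of {p q p' q' : ℕ} (hp : p' ≤ p) (hq : q' ≤ q) (i : Fin a) (j : Fin b)
    (hi : (i : ℕ) < p) (hj : (j : ℕ) < q) (hout : ¬ ((i : ℕ) < p' ∧ (j : ℕ) < q')) :
    K (k := k) (a := a) (b := b) p q < K p' q' := by
  refine lt_of_le_of_ne (K_mono hp hq) fun heq => ?_
  have h1 : zc (k := k) i j ∈ K p' q' := by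
    rw [mem_K, kill_zc]
    by_cases h : (i : ℕ) < p'
    · rw [if_neg (fun h' => hout ⟨h, h'⟩), mul_zero]
    · rw [if_neg h, zero_mul]
  rw [← heq, mem_K, kill_zc, if_pos hi, if_pos hj] at h1
  exact mul_ne_zero (X_ne_zero _) (X_ne_zero _) h1

theorem height_K_row (ha : 0 < a) : ∀ j : ℕ, j + 1 ≤ b →
    (j : ℕ∞) ≤ (K (k := k) (a := a) (b := b) a (b - j)).height := by
  intro j
  induction j with
  | zero => intro _; simp
  | succ j ih =>
    intro hj
    have h1 := ih (by omega)
    have hlt : K (k := k) (a := a) (b := b) a (b - j) < K a (b - (j + 1)) :=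
      K_lt_of le_rfl (by omega) ⟨0, ha⟩ ⟨b - (j + 1), by omega⟩ ha (show b - (j + 1) < b - j by omega)
        (fun h => lt_irrefl _ h.2)
    refine le_trans ?_ (Ideal.height_add_one_le_of_lt_of_isPrime hlt)
    push_cast
    gcongr

theorem height_K_col (ha : 0 < a) (hb : 0 < b) : ∀ i : ℕ, i + 1 ≤ a →
    ((b - 1 + i : ℕ) : ℕ∞) ≤ (K (k := k) (a := a) (b := b) (a - i) 1).height := by
  intro i
  induction i with
  | zero =>
    intro _
    have h1 := height_K_row (k := k) (b := b) ha (b - 1) (by omega)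
    rw [show b - (b - 1) = 1 by omega] at h1
    rw [Nat.add_zero, Nat.sub_zero]
    exact h1
  | succ i ih =>
    intro hi
    have h1 := ih (by omega)
    have hlt : K (k := k) (a := a) (b := b) (a - i) 1 < K (a - (i + 1)) 1 :=
      K_lt_of (by omega) le_rfl ⟨a - (i + 1), by omega⟩ ⟨0, hb⟩ (show a - (i + 1) < a - i by omega)
        Nat.one_pos (fun h => lt_irrefl _ h.1)
    refine le_trans ?_ (Ideal.height_add_one_le_of_lt_of_isPrime hlt)
    rw [← add_assoc, Nat.cast_add]
    gcongr
    exact le_of_eq (by simp)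

theorem height_origin (ha : 0 < a) (hb : 0 < b) :
    ((a + b - 1 : ℕ) : ℕ∞) ≤ (K (k := k) (a := a) (b := b) 0 0).height := by
  have h1 := height_K_col (k := k) ha hb (a - 1) (by omega)
  rw [show a - (a - 1) = 1 by omega] at h1
  have hlt : K (k := k) (a := a) (b := b) 1 1 < K 0 0 :=
    K_lt_of (by omega) (by omega) ⟨0, ha⟩ ⟨0, hb⟩ Nat.one_pos Nat.one_pos (fun h => absurd h.1 (by omega))
  refine le_trans ?_ (Ideal.height_add_one_le_of_lt_of_isPrime hlt)
  rw [show a + b - 1 = (b - 1 + (a - 1)) + 1 by omega, Nat.cast_add, Nat.cast_one]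
  gcongr

theorem coeff_zero_segre (f : MvPolynomial (Fin a × Fin b) k) :
    aeval (fun _ => (0 : k)) (segre f) = aeval (fun _ => (0 : k)) f := by
  rw [segre, ← AlgHom.comp_apply, comp_aeval]
  simp

theorem mem_K_origin_iff (f : MvPolynomial (Fin a × Fin b) k) :
    (segre (k := k) (a := a) (b := b)).toRingHom.rangeRestrict f ∈ K (k := k) (a := a) (b := b) 0 0 ↔
      aeval (fun _ => (0 : k)) f = 0 := by
  rw [mem_K, ← coeff_zero_segre f]
  change kill 0 0 (segre f) = 0 ↔ _
  have h : kill (k := k) (a := a) (b := b) 0 0 = (Algebra.ofId k _).comp (aeval fun _ => (0 : k)) := by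
    refine MvPolynomial.algHom_ext fun v => ?_
    rcases v with i | j <;> simp [kill]
  rw [h, AlgHom.comp_apply]
  exact map_eq_zero_iff _ (MvPolynomial.C_injective _ k)

/-- Common zero of `m < a + b - 1` bilinear forms. -/
theorem exists_zero [IsAlgClosed k] {ι : Type*} [Fintype ι] (ha : 0 < a) (hb : 0 < b)
    (hm : Fintype.card ι + 1 < a + b) (c : ι → Fin a → Fin b → k) :
    ∃ (v : Fin a → k) (w : Fin b → k), v ≠ 0 ∧ w ≠ 0 ∧
      ∀ u, ∑ i, ∑ j, c u i j * (v i * w j) = 0 := by
  classical
  set σ := (segre (k := k) (a := a) (b := b)).toRingHom.rangeRestrict with hσ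
  have hσs : Function.Surjective σ := RingHom.rangeRestrict_surjective _
  let l : ι → MvPolynomial (Fin a × Fin b) k := fun u => ∑ i, ∑ j, C (c u i j) * X (i, j)
  let M : Ideal (Cone k a b) := K 0 0
  let L : Ideal (Cone k a b) := Ideal.span (Finset.univ.image fun u => σ (l u))
  have hLM : L ≤ M := by
    refine Ideal.span_le.2 fun z hz => ?_
    obtain ⟨u, -, rfl⟩ := Finset.mem_image.1 (Finset.mem_coe.1 hz)
    exact (mem_K_origin_iff (l u)).2 (by simp [l])
  have : IsNoetherianRing (Cone k a b) :=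
    isNoetherianRing_range (segre (k := k) (a := a) (b := b)).toRingHom
  obtain ⟨q, hq, hqM⟩ := Ideal.exists_minimalPrimes_le hLM
  have hqp : q.IsPrime := hq.1.1
  have hne : q ≠ M := by
    rintro rfl
    have h1 := Ideal.height_le_card_of_mem_minimalPrimes_span_finset hq
    have h2 := (height_origin (k := k) ha hb).trans h1
    have h3 : (Finset.univ.image fun u => σ (l u)).card ≤ Fintype.card ι := Finset.card_image_le
    have h4 : a + b - 1 ≤ Fintype.card ι := le_trans (by exact_mod_cast h2) h3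
    omega
  -- a maximal ideal over `q` other than the origin
  have hinj := Ideal.comap_injective_of_surjective σ hσs
  obtain ⟨N, hqN, hNmax, hNM⟩ : ∃ N : Ideal (MvPolynomial (Fin a × Fin b) k),
      q.comap σ ≤ N ∧ N.IsMaximal ∧ N ≠ M.comap σ := by
    by_contra hcon
    push Not at hcon
    refine hne (hinj (le_antisymm (Ideal.comap_mono hqM) ?_))
    have hj : (q.comap σ).jacobson = q.comap σ :=
      IsJacobsonRing.out' _ (Ideal.comap_isPrime σ q).isRadical
    rw [← hj]
    exact le_sInf fun N hN => (hcon N hN.1 hN.2).ge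
  obtain ⟨z, hz⟩ := MvPolynomial.eq_vanishingIdeal_singleton_of_isMaximal k hNmax
  have hmem : ∀ f, f ∈ q.comap σ → aeval z f = 0 := fun f hf => by
    have := hqN hf
    rw [hz, MvPolynomial.mem_vanishingIdeal_singleton_iff] at this
    exact this
  have hker : ∀ f, segre f = 0 → aeval z f = 0 := fun f hf => hmem f (by
    rw [Ideal.mem_comap, show σ f = 0 from Subtype.ext hf]; exact zero_mem _)
  have hz0 : ∃ ij, z ij ≠ 0 := by
    by_contra hcon
    push Not at hcon
    refine hNM ?_
    rw [hz, show z = fun _ => (0 : k) from funext hcon]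
    ext f
    rw [MvPolynomial.mem_vanishingIdeal_singleton_iff, Ideal.mem_comap]
    exact (mem_K_origin_iff f).symm
  obtain ⟨⟨i₀, j₀⟩, hij⟩ := hz0
  have hminor : ∀ i j, z (i, j) * z (i₀, j₀) = z (i, j₀) * z (i₀, j) := fun i j => by
    have := hker (X (i, j) * X (i₀, j₀) - X (i, j₀) * X (i₀, j)) (by simp [segre]; ring)
    simpa [sub_eq_zero] using this
  refine ⟨fun i => z (i, j₀) / z (i₀, j₀), fun j => z (i₀, j), fun h => ?_, fun h => ?_, fun u => ?_⟩
  · have := congrFun h i₀
    simp [div_self hij] at this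
  · exact hij (congrFun h j₀)
  · have h1 := hmem (l u) (hq.1.2 (Ideal.subset_span (Finset.mem_coe.2
      (Finset.mem_image.2 ⟨u, Finset.mem_univ _, rfl⟩))))
    simp only [l, map_sum, map_mul, aeval_C, aeval_X, Algebra.algebraMap_self, RingHom.id_apply] at h1
    rw [← h1]
    refine Finset.sum_congr rfl fun i _ => Finset.sum_congr rfl fun j _ => ?_
    rw [div_mul_eq_mul_div, ← hminor, mul_div_assoc, div_self hij, mul_one]

end BilinearHopf

/-- Hopf's lemma. -/
theorem finrank_add_le_of_bilinear {k : Type u} [Field k] [IsAlgClosed k]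
    {V : Type v₁} [AddCommGroup V] [Module k V] [FiniteDimensional k V]
    {W : Type v₂} [AddCommGroup W] [Module k W] [FiniteDimensional k W]
    {U : Type v₃} [AddCommGroup U] [Module k U] [FiniteDimensional k U]
    [Nontrivial V] [Nontrivial W] (φ : V →ₗ[k] W →ₗ[k] U)
    (hφ : ∀ v w, φ v w = 0 → v = 0 ∨ w = 0) :
    Module.finrank k V + Module.finrank k W ≤ Module.finrank k U + 1 := by
  classical
  by_contra hcon
  let bV := Module.finBasis k V
  let bW := Module.finBasis k W
  let bU := Module.finBasis k U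
  obtain ⟨v, w, hv, hw, h⟩ := BilinearHopf.exists_zero Module.finrank_pos Module.finrank_pos
    (ι := Fin (Module.finrank k U)) (by simp only [Fintype.card_fin]; omega)
    (fun u i j => bU.repr (φ (bV i) (bW j)) u)
  have hzero : φ (bV.equivFun.symm v) (bW.equivFun.symm w) = 0 := by
    refine bU.repr.injective (Finsupp.ext fun u => ?_)
    rw [map_zero, Finsupp.zero_apply, ← h u]
    simp only [Module.Basis.equivFun_symm_apply, map_sum, map_smul, LinearMap.sum_apply,
      LinearMap.smul_apply, Finsupp.coe_finsetSum, Finset.sum_apply, Finsupp.smul_apply, smul_eq_mul,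
      Finset.mul_sum]
    rw [Finset.sum_comm]
    exact Finset.sum_congr rfl fun i _ => Finset.sum_congr rfl fun j _ => by ring
  rcases hφ _ _ hzero with h' | h'
  · exact hv (bV.equivFun.symm.injective (h'.trans (map_zero _).symm))
  · exact hw (bW.equivFun.symm.injective (h'.trans (map_zero _).symm))

end Groth.Agent.Curves2
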