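import Mathlib.RingTheory.MvPolynomial.Homogeneous
import Mathlib.RingTheory.MvPolynomial.Basic
import Mathlib.LinearAlgebra.Dimension.Finrank
import Mathlib.RingTheory.Nullstellensatz
import Mathlib.RingTheory.Polynomial.UniqueFactorization
import Mathlib.Algebra.MvPolynomial.Division
import Mathlib.Tactic

namespace Groth.Agent.Curves2

open MvPolynomial

variable {K : Type*} [Field K]

/-- exponents of binary monomials of degree `n` -/
noncomputable def degreeEquiv (n : ℕ) : {d : Fin 2 →₀ ℕ // d.degree = n} ≃ Fin (n + 1) where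
  toFun d := ⟨d.1 0, by
    have h := d.2
    rw [Finsupp.degree_eq_sum, Fin.sum_univ_two] at h
    omega⟩
  invFun i := ⟨Finsupp.single 0 (i : ℕ) + Finsupp.single 1 (n - i), by
    rw [Finsupp.degree_eq_sum, Fin.sum_univ_two]
    simp
    omega⟩
  left_inv d := by
    have h := d.2
    rw [Finsupp.degree_eq_sum, Fin.sum_univ_two] at h
    apply Subtype.ext
    ext i
    fin_cases i <;> simp
    omega
  right_inv i := by ext; simp

/-- the space of binary forms of degree `n` is spanned by `n + 1` monomials -/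
noncomputable def formsBasis (n : ℕ) :
    Module.Basis (Fin (n + 1)) K ↥(homogeneousSubmodule (Fin 2) K n) :=
  ((basisRestrictSupport K {d : Fin 2 →₀ ℕ | d.degree = n}).reindex (degreeEquiv n)).map
    (LinearEquiv.ofEq _ _ (homogeneousSubmodule_eq_finsupp_supported (Fin 2) K n).symm)

theorem finrank_forms (n : ℕ) :
    Module.finrank K ↥(homogeneousSubmodule (Fin 2) K n) = n + 1 := by
  rw [Module.finrank_eq_card_basis (formsBasis (K := K) n), Fintype.card_fin]

instance finite_forms (n : ℕ) : Module.Finite K ↥(homogeneousSubmodule (Fin 2) K n) :=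
  Module.Finite.of_basis (formsBasis (K := K) n)

/-- the product of two forms as a form -/
noncomputable def mulForms (a b c : ℕ) (h : a + b = c) :
    ↥(homogeneousSubmodule (Fin 2) K a) →ₗ[K] ↥(homogeneousSubmodule (Fin 2) K b) →ₗ[K]
      ↥(homogeneousSubmodule (Fin 2) K c) :=
  LinearMap.mk₂ K (fun x y => ⟨x.1 * y.1, h ▸ IsHomogeneous.mul x.2 y.2⟩)
    (fun _ _ _ => Subtype.ext (add_mul _ _ _))
    (fun _ _ _ => Subtype.ext (smul_mul_assoc _ _ _))
    (fun _ _ _ => Subtype.ext (mul_add _ _ _))
    (fun _ _ _ => Subtype.ext (mul_smul_comm _ _ _))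

@[simp]
theorem mulForms_coe (a b c : ℕ) (h : a + b = c) (x : ↥(homogeneousSubmodule (Fin 2) K a))
    (y : ↥(homogeneousSubmodule (Fin 2) K b)) : (mulForms a b c h x y).1 = x.1 * y.1 := rfl

theorem homogeneousComponent_mul_left {σ : Type*} {R : Type*} [CommSemiring R]
    {p q : MvPolynomial σ R} {d j : ℕ} (hp : p.IsHomogeneous d) :
    homogeneousComponent (d + j) (p * q) = p * homogeneousComponent j q := by
  conv_lhs => rw [← sum_homogeneousComponent q, Finset.mul_sum, map_sum]
  have e : ∀ i, homogeneousComponent (d + j) (p * homogeneousComponent i q) =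
      if i = j then p * homogeneousComponent j q else 0 := by
    intro i
    rw [homogeneousComponent_of_mem (hp.mul (homogeneousComponent_isHomogeneous i q))]
    rcases eq_or_ne i j with rfl | hij
    · simp
    · simp [hij, hij.symm]
  rw [Finset.sum_congr rfl fun i _ => e i, Finset.sum_ite_eq']
  split_ifs with hj
  · rfl
  · have : q.totalDegree < j := by
      simp only [Finset.mem_range, not_lt] at hj
      omega
    simp [homogeneousComponent_eq_zero j q this]

theorem eval_smul_of_isHomogeneous {σ : Type*} {R : Type*} [CommSemiring R] {p : MvPolynomial σ R}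
    {d : ℕ} (hp : p.IsHomogeneous d) (t : R) (a : σ → R) :
    eval (fun i => t * a i) p = t ^ d * eval a p := by
  rw [eval_eq, eval_eq, Finset.mul_sum]
  refine Finset.sum_congr rfl fun m hm => ?_
  have hd : ∑ i ∈ m.support, m i = d := (hp.degree_eq_sum_deg_support hm).symm
  simp only [mul_pow, Finset.prod_mul_distrib, Finset.prod_pow_eq_pow_sum, hd]
  ring

/-- a non-unit binary polynomial has a zero away from the origin -/
theorem exists_zero_ne_zero [IsAlgClosed K] {H : MvPolynomial (Fin 2) K} (hH : ¬ IsUnit H) :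
    ∃ a : Fin 2 → K, a ≠ 0 ∧ eval a H = 0 := by
  by_contra hcon
  push Not at hcon
  have hmem : ∀ i : Fin 2, ∃ N : ℕ, H ∣ X i ^ N := by
    intro i
    have h : (X i : MvPolynomial (Fin 2) K) ∈ vanishingIdeal K (zeroLocus K (Ideal.span {H})) := by
      rw [mem_vanishingIdeal_iff]
      intro x hx
      have hx' : aeval x H = 0 := hx H (Ideal.mem_span_singleton_self H)
      by_cases hx0 : x = 0
      · simp [hx0]
      · exact absurd (by simpa [aeval_eq_eval] using hx') (hcon x hx0)
    rw [vanishingIdeal_zeroLocus_eq_radical] at h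
    obtain ⟨N, hN⟩ := h
    exact ⟨N, Ideal.mem_span_singleton.mp hN⟩
  obtain ⟨N, hN⟩ := hmem 0
  obtain ⟨M, hM⟩ := hmem 1
  have hp : Prime (X 0 : MvPolynomial (Fin 2) K) := MvPolynomial.X_prime
  obtain ⟨j, hj, hass⟩ := (dvd_prime_pow hp N).mp hN
  rcases Nat.eq_zero_or_pos j with rfl | hj0
  · exact hH (hass.symm.isUnit (by simp))
  · have h1 : (X 0 : MvPolynomial (Fin 2) K) ∣ X 1 ^ M :=
      (dvd_pow_self _ hj0.ne').trans (hass.symm.dvd.trans hM)
    have h2 := hp.dvd_of_dvd_pow h1
    obtain ⟨w, hw⟩ := h2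
    simpa using congrArg (eval ![(0 : K), 1]) hw

/-- binary forms with a common zero away from the origin have a common non-unit factor -/
theorem exists_common_factor [IsAlgClosed K] {ι : Type*} (F : ι → MvPolynomial (Fin 2) K)
    (d : ι → ℕ) (hF : ∀ i, (F i).IsHomogeneous (d i)) {a : Fin 2 → K} (ha : a ≠ 0)
    (h : ∀ i, eval a (F i) = 0) :
    ∃ H : MvPolynomial (Fin 2) K, ¬ IsUnit H ∧ ∀ i, H ∣ F i := by
  let L : MvPolynomial (Fin 2) K := C (a 1) * X 0 - C (a 0) * X 1
  have hL : ∀ x : Fin 2 → K, eval x L = a 1 * x 0 - a 0 * x 1 := by intro x; simp [L]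
  have hLu : ¬ IsUnit L := fun hu => by
    have := (hu.map (eval (0 : Fin 2 → K))).ne_zero
    rw [hL] at this
    simp at this
  have hL0 : L ≠ 0 := by
    intro h0
    apply ha
    funext i
    have h1 := hL ![1, 0]
    have h2 := hL ![0, 1]
    rw [h0] at h1 h2
    simp at h1 h2
    fin_cases i <;> simp_all
  obtain ⟨q, hq, hqL⟩ := WfDvdMonoid.exists_irreducible_factor hLu hL0
  refine ⟨q, hq.not_isUnit, fun i => ?_⟩
  have hmem : F i ∈ vanishingIdeal K (zeroLocus K (Ideal.span {L})) := by
    rw [mem_vanishingIdeal_iff]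
    intro x hx
    have hx' : aeval x L = 0 := hx L (Ideal.mem_span_singleton_self L)
    rw [aeval_eq_eval, hL] at hx'
    rw [aeval_eq_eval]
    obtain ⟨t, rfl⟩ : ∃ t : K, x = fun j => t * a j := by
      by_cases ha0 : a 0 = 0
      · have ha1 : a 1 ≠ 0 := by
          intro ha1; apply ha; funext j; fin_cases j <;> assumption
        refine ⟨x 1 / a 1, funext fun j => ?_⟩
        fin_cases j
        · simp [ha0] at hx' ⊢
          simpa [ha1] using hx'
        · simp [ha1]
      · refine ⟨x 0 / a 0, funext fun j => ?_⟩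
        fin_cases j
        · simp [ha0]
        · simp only [Fin.mk_one]
          field_simp
          linear_combination -hx'
    rw [eval_smul_of_isHomogeneous (hF i), h i, mul_zero]
  rw [vanishingIdeal_zeroLocus_eq_radical] at hmem
  obtain ⟨N, hN⟩ := hmem
  exact hq.prime.dvd_of_dvd_pow (hqL.trans (Ideal.mem_span_singleton.mp hN))

end Groth.Agent.Curves2
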