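import Groth.Agent.Curves2.CurveComponents
import Groth.Agent.Crv77.Basic
import Groth.Agent.S1585

/-! Branches of a reduced one-dimensional scheme: a regular closed point on each component. -/

set_option autoImplicit false

universe u

open CategoryTheory CategoryTheory.Limits AlgebraicGeometry Opposite TopologicalSpace

noncomputable section

set_option backward.isDefEq.respectTransparency false

namespace Groth.Agent.Curves2

variable {X : Scheme.{u}}

/-- The data: a one-dimensional component seen through a normal point lying on it alone. -/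
structure Branch (X : Scheme.{u}) (C : Set X) where
  x : X
  η : X
  O : X.Opens
  closed : IsClosed ({x} : Set X)
  hx : x ∈ O
  hη : η ∈ O
  ne : x ≠ η
  gen : closure {η} = C
  sub : (O : Set X) ⊆ C
  excl : ∀ C' ∈ irreducibleComponents (X : Type u), C' ≠ C → Disjoint (O : Set X) C'
  spec : ∀ y ∈ O, η ⤳ y
  dom : IsDomain (X.presheaf.stalk x)
  val : ValuationRing (X.presheaf.stalk x)
  inj : Function.Injective (X.presheaf.stalkSpecializes (spec x hx))
  field : IsField (X.presheaf.stalk η)
  frac : ∀ a : X.presheaf.stalk η, ∃ r r' : X.presheaf.stalk x,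
    X.presheaf.stalkSpecializes (spec x hx) r' ≠ 0 ∧
      a * X.presheaf.stalkSpecializes (spec x hx) r' = X.presheaf.stalkSpecializes (spec x hx) r

/-- Stalk facts on an integral open. -/
theorem open_integral_facts (O : X.Opens) [IsIntegral (O : Scheme.{u})] (x η : (O : Scheme.{u}))
    (hη : η = genericPoint (O : Scheme.{u})) (h : η.1 ⤳ x.1) :
    Function.Injective (X.presheaf.stalkSpecializes h) ∧ IsField (X.presheaf.stalk η.1) ∧
      ∀ a : X.presheaf.stalk η.1, ∃ r r' : X.presheaf.stalk x.1,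
        X.presheaf.stalkSpecializes h r' ≠ 0 ∧
          a * X.presheaf.stalkSpecializes h r' = X.presheaf.stalkSpecializes h r := by
  subst hη
  let Y := (O : Scheme.{u})
  let ξ := genericPoint Y
  let e : X.presheaf.stalk ξ.1 ≅ Y.presheaf.stalk ξ :=
    @asIso _ _ _ _ (O.ι.stalkMap ξ) ((IsOpenImmersion.iff_isIso_stalkMap.mp inferInstance).2 _)
  let e' : X.presheaf.stalk x.1 ≅ Y.presheaf.stalk x :=
    @asIso _ _ _ _ (O.ι.stalkMap x) ((IsOpenImmersion.iff_isIso_stalkMap.mp inferInstance).2 _)
  have hxy : ξ ⤳ x := genericPoint_specializes x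
  have hcomm : ∀ r, e.hom (X.presheaf.stalkSpecializes h r) = Y.presheaf.stalkSpecializes hxy (e'.hom r) :=
    fun r => Scheme.Hom.stalkSpecializes_stalkMap_apply O.ι ξ x hxy r
  have heinj : Function.Injective e.hom := (ConcreteCategory.bijective_of_isIso e.hom).1
  have halg : ∀ r, Y.presheaf.stalkSpecializes hxy r = algebraMap (Y.presheaf.stalk x) Y.functionField r :=
    fun r => rfl
  refine ⟨fun a b hab => ?_, ?_, fun a => ?_⟩
  · refine (ConcreteCategory.bijective_of_isIso e'.hom).1 (IsFractionRing.injective (Y.presheaf.stalk x) Y.functionField ?_)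
    rw [← halg, ← halg, ← hcomm, ← hcomm, hab]
  · exact (e.commRingCatIsoToRingEquiv).toMulEquiv.isField (Field.toIsField Y.functionField)
  · obtain ⟨n, d, hd, hn⟩ := IsFractionRing.div_surjective (Y.presheaf.stalk x) (e.hom a : Y.functionField)
    obtain ⟨n', rfl⟩ := (ConcreteCategory.bijective_of_isIso e'.hom).2 n
    obtain ⟨d', rfl⟩ := (ConcreteCategory.bijective_of_isIso e'.hom).2 d
    have hd0 : algebraMap (Y.presheaf.stalk x) Y.functionField (e'.hom d') ≠ 0 :=
      fun h0 => nonZeroDivisors.ne_zero hd (IsFractionRing.injective _ _ (h0.trans (map_zero _).symm))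
    refine ⟨n', d', fun h0 => hd0 ?_, heinj ?_⟩
    · rw [← halg, ← hcomm, h0, map_zero]
    · rw [map_mul, hcomm, hcomm, halg, halg, ← hn]
      exact div_mul_cancel₀ _ hd0

/-- A branch exists on every one-dimensional component. -/
theorem exists_branch (k : Type u) [Field k] (X : Scheme.{u})
    [X.Over (Spec (CommRingCat.of k))] [LocallyOfFiniteType (X ↘ Spec (CommRingCat.of k))]
    [IsSeparated (X ↘ Spec (CommRingCat.of k))]
    [AlgebraicGeometry.IsReduced X] [IsNoetherian X] (hdim : topologicalKrullDim X ≤ 1)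
    {C : Set X} (hC : C ∈ irreducibleComponents (X : Type u)) (hC1 : topologicalKrullDim C = 1) :
    Nonempty (Branch X C) := by
  classical
  have hfin : (irreducibleComponents (X : Type u)).Finite :=
    TopologicalSpace.NoetherianSpace.finite_irreducibleComponents
  have hCc : IsClosed C := isClosed_of_mem_irreducibleComponents C hC
  obtain ⟨η, hη⟩ := QuasiSober.sober hC.1 hCc
  let others : Set X := ⋃₀ (irreducibleComponents (X : Type u) \ {C})
  have hoc : IsClosed others := by
    simp only [others, Set.sUnion_eq_biUnion]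
    exact (hfin.subset Set.sdiff_subset).isClosed_biUnion fun s hs =>
      isClosed_of_mem_irreducibleComponents s hs.1
  have hηo : η ∉ others := by
    rintro ⟨s, ⟨hs, hne⟩, hηs⟩
    have hle : C ⊆ s := hη.def ▸ closure_minimal (Set.singleton_subset_iff.2 hηs)
      (isClosed_of_mem_irreducibleComponents s hs)
    exact hne (le_antisymm (hC.2 hs.1 hle) hle)
  obtain ⟨O, hO, hηO, hOsub⟩ := exists_isAffineOpen_mem_and_subset
    (U := (⟨othersᶜ, hoc.isOpen_compl⟩ : X.Opens)) (x := η) hηo
  have hOC : (O : Set X) ⊆ C := fun y hy => by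
    obtain ⟨s, hs, hys⟩ : ∃ s ∈ irreducibleComponents (X : Type u), y ∈ s :=
      ⟨_, irreducibleComponent_mem_irreducibleComponents y, mem_irreducibleComponent⟩
    by_cases h : s = C
    · exact h ▸ hys
    · exact absurd ⟨s, ⟨hs, h⟩, hys⟩ (hOsub hy)
  have hspec : ∀ y ∈ O, η ⤳ y := fun y hy => hη.specializes (hOC hy)
  have : Nonempty (O : Scheme.{u}) := ⟨⟨η, hηO⟩⟩
  have : AlgebraicGeometry.IsReduced (O : Scheme.{u}) := isReduced_of_isOpenImmersion O.ι
  have : IrreducibleSpace (O : Scheme.{u}) :=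
    { toPreirreducibleSpace := ⟨fun U V hU hV hU' hV' => by
        refine ⟨⟨η, hηO⟩, trivial, ?_, ?_⟩
        · obtain ⟨a, -, ha⟩ := hU'
          exact ((subtype_specializes_iff _ _).2 (hspec a.1 a.2)).mem_open hU ha
        · obtain ⟨a, -, ha⟩ := hV'
          exact ((subtype_specializes_iff _ _).2 (hspec a.1 a.2)).mem_open hV ha⟩
      toNonempty := inferInstance }
  have : IsIntegral (O : Scheme.{u}) := isIntegral_of_irreducibleSpace_of_isReduced _
  let sO : (O : Scheme.{u}) ⟶ Spec (CommRingCat.of k) := O.ι ≫ (X ↘ Spec (CommRingCat.of k))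
  let : (O : Scheme.{u}).Over (Spec (CommRingCat.of k)) := ⟨sO⟩
  have : LocallyOfFiniteType ((O : Scheme.{u}) ↘ Spec (CommRingCat.of k)) :=
    inferInstanceAs (LocallyOfFiniteType (O.ι ≫ (X ↘ Spec (CommRingCat.of k))))
  have : IsLocallyNoetherian (O : Scheme.{u}) := LocallyOfFiniteType.isLocallyNoetherian O.ι
  have : NoetherianSpace (O : Scheme.{u}) := inferInstanceAs (NoetherianSpace (O : Set X))
  have : CompactSpace (O : Scheme.{u}) := inferInstance
  have : IsNoetherian (O : Scheme.{u}) := {}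
  obtain ⟨hνfin, -, ⟨V, hVne, hiso⟩, hint, hnorm⟩ := S1585.result k (O : Scheme.{u})
  let ν := Curv2.normalizationι (O : Scheme.{u})
  have : IsFinite ν := hνfin
  have : JacobsonSpace X := LocallyOfFiniteType.jacobsonSpace (X ↘ Spec (CommRingCat.of k))
  have hne : ((O.ι ''ᵁ V : X.Opens) : Set X).Nonempty := by
    obtain ⟨v, hv⟩ := hVne; exact ⟨O.ι v, v, hv, rfl⟩
  obtain ⟨_, ⟨x', hx'V, rfl⟩, hxc⟩ := nonempty_inter_closedPoints hne (O.ι ''ᵁ V).2.isLocallyClosed
  have hxη : (O.ι x' : X) ≠ η := by
    intro e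
    have hsing : C = {η} := by
      rw [← hη.def]; exact (show IsClosed ({η} : Set X) from e ▸ hxc).closure_eq
    have h0 : topologicalKrullDim C ≤ 0 := by
      rw [topologicalKrullDim]
      have hs : Subsingleton C := by
        rw [hsing]; exact ⟨fun a b => Subtype.ext (a.2.trans b.2.symm)⟩
      have : Subsingleton (IrreducibleCloseds C) := ⟨fun a b => IrreducibleCloseds.ext <| by
        rw [a.isIrreducible.1.eq_univ, b.isIrreducible.1.eq_univ]⟩
      exact Order.krullDim_nonpos_of_subsingleton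
    rw [hC1] at h0
    exact absurd h0 (by norm_num)
  have hnormx : ∃ _ : IsDomain ((O : Scheme.{u}).presheaf.stalk x'),
      IsIntegrallyClosed ((O : Scheme.{u}).presheaf.stalk x') := by
    have : IsIso (ν ∣_ V) := hiso
    obtain ⟨w, hw⟩ := (asIso (ν ∣_ V)).schemeIsoToHomeo.surjective ⟨x', hx'V⟩
    have hν : ν w.1 = x' := by rw [← morphismRestrict_base_coe]; exact congrArg Subtype.val hw
    have h1' : IsIso (((ν ⁻¹ᵁ V).ι ≫ ν).stalkMap w) := by
      rw [Scheme.Hom.stalkMap_congr_hom _ _ (morphismRestrict_ι ν V).symm]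
      have : IsIso (((ν ∣_ V) ≫ V.ι).stalkMap w) := (IsOpenImmersion.iff_isIso_stalkMap.mp inferInstance).2 _
      infer_instance
    rw [Scheme.Hom.stalkMap_comp] at h1'
    have h2 : IsIso ((ν ⁻¹ᵁ V).ι.stalkMap w) := (IsOpenImmersion.iff_isIso_stalkMap.mp inferInstance).2 _
    have h3 : IsIso (ν.stalkMap w.1) := @IsIso.of_isIso_comp_right _ _ _ _ _ _ _ h2 h1'
    subst hν
    obtain ⟨_, hic⟩ := hnorm w.1
    exact ⟨inferInstance, IsIntegrallyClosed.of_equiv (asIso (ν.stalkMap w.1)).commRingCatIsoToRingEquiv.symm⟩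
  obtain ⟨_, hic⟩ := hnormx
  let e : X.presheaf.stalk x'.1 ≅ (O : Scheme.{u}).presheaf.stalk x' :=
    @asIso _ _ _ _ (O.ι.stalkMap x') ((IsOpenImmersion.iff_isIso_stalkMap.mp inferInstance).2 _)
  have hd : IsDomain (X.presheaf.stalk x'.1) :=
    MulEquiv.isDomain _ e.commRingCatIsoToRingEquiv.toMulEquiv
  have : IsIntegrallyClosed (X.presheaf.stalk x'.1) :=
    IsIntegrallyClosed.of_equiv e.commRingCatIsoToRingEquiv.symm
  have hg : (⟨η, hηO⟩ : (O : Scheme.{u})) = genericPoint (O : Scheme.{u}) := by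
    set g := genericPoint (O : Scheme.{u})
    have h1 : (⟨η, hηO⟩ : (O : Scheme.{u})) ⤳ g :=
      O.ι.isOpenEmbedding.isInducing.specializes_iff.1 (hspec g.1 g.2)
    exact (h1.antisymm (genericPoint_specializes (α := (O : Scheme.{u})) _)).eq
  obtain ⟨hinj, hfield, hfrac⟩ := open_integral_facts O x' ⟨η, hηO⟩ hg (hspec _ x'.2)
  exact ⟨{ x := x'.1, η := η, O := O, closed := hxc, hx := x'.2, hη := hηO, ne := hxη
           gen := hη.def, sub := hOC
           excl := fun C' hC' hne => Set.disjoint_left.2 fun y hy hyC' => hOsub hy ⟨C', ⟨hC', hne⟩, hyC'⟩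
           spec := hspec, dom := hd, val := (Crv77.valuationRing_stalk hdim x'.1).2
           inj := hinj, field := hfield, frac := hfrac }⟩

end Groth.Agent.Curves2
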