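import Mathlib.Algebra.Polynomial.Coeff
import Mathlib.Data.Nat.Choose.Lucas
import Mathlib.Algebra.CharP.Basic
import Mathlib.LinearAlgebra.Matrix.Block
import Mathlib.Tactic

namespace Groth.Agent.Curves2

open Polynomial Finset

variable {k : Type*} [Field k] {p : ℕ} [Fact p.Prime] [CharP k p]

/-- Lucas in characteristic `p`, at a pair of base-`p` two-digit numbers -/
theorem choose_digits (I r i s : ℕ) (hr : r < p) (hs : s < p) :
    (((I * p + r).choose (i * p + s) : ℕ) : k) = ((I.choose i : ℕ) : k) * ((r.choose s : ℕ) : k) := by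
  have h := Choose.choose_modEq_choose_mod_mul_choose_div_nat (n := I * p + r) (k := i * p + s) (p := p)
  have hp : 0 < p := (Fact.out : p.Prime).pos
  rw [Nat.mul_add_mod_of_lt hr, Nat.mul_add_mod_of_lt hs, Nat.mul_comm I p, Nat.mul_comm i p,
    Nat.mul_add_div hp, Nat.mul_add_div hp, Nat.div_eq_of_lt hr, Nat.div_eq_of_lt hs] at h
  simp only [add_zero] at h
  rw [← Nat.cast_mul, Nat.mul_comm (I.choose i)]
  rw [Nat.mul_comm I p, Nat.mul_comm i p]
  exact (CharP.natCast_eq_natCast k p).mpr h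

/-- coefficients after translation, indexed by base-`p` digits -/
theorem coeff_comp_digits (c : k[X]) (α : k) (G : ℕ) (hc : c.natDegree < G * p) (i s : ℕ) (hs : s < p) :
    (c.comp (X + C α)).coeff (i * p + s) =
      ∑ I ∈ range G, ∑ r ∈ range p, c.coeff (I * p + r) *
        (((I.choose i : ℕ) : k) * α ^ ((I - i) * p) * (((r.choose s : ℕ) : k) * α ^ (r - s))) := by
  have hp : 0 < p := (Fact.out : p.Prime).pos
  have : NeZero p := ⟨hp.ne'⟩
  rw [comp, eval₂_eq_sum_range' C hc (X + C α), finsetSum_coeff]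
  rw [← Finset.sum_product']
  refine Finset.sum_bij' (fun l _ => (l / p, l % p)) (fun x _ => x.1 * p + x.2) ?_ ?_ ?_ ?_ ?_
  · intro l hl
    simp only [mem_product, mem_range] at hl ⊢
    exact ⟨Nat.div_lt_iff_lt_mul hp |>.mpr hl, Nat.mod_lt _ hp⟩
  · rintro ⟨I, r⟩ h
    simp only [mem_product, mem_range] at h ⊢
    nlinarith
  · intro l _; exact Nat.div_add_mod' l p
  · rintro ⟨I, r⟩ h
    simp only [mem_product, mem_range] at h
    simp [Nat.mod_eq_of_lt h.2, Nat.mul_comm I p, Nat.mul_add_div hp, Nat.div_eq_of_lt h.2]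
  · intro l _
    obtain ⟨I, r, hr, rfl⟩ : ∃ I r, r < p ∧ l = I * p + r :=
      ⟨l / p, l % p, Nat.mod_lt _ hp, (Nat.div_add_mod' l p).symm⟩
    have e1 : (I * p + r) / p = I := by simp [Nat.mul_comm I p, Nat.mul_add_div hp, Nat.div_eq_of_lt hr]
    have e2 : (I * p + r) % p = r := Nat.mul_add_mod_of_lt hr
    simp only [e1, e2]
    rw [coeff_C_mul, coeff_X_add_C_pow, choose_digits I r i s hr hs]
    rcases lt_or_ge I i with h | h
    · simp [Nat.choose_eq_zero_of_lt h]
    rcases lt_or_ge r s with h' | h'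
    · simp [Nat.choose_eq_zero_of_lt h']
    obtain ⟨t, rfl⟩ : ∃ t, I = i + t := ⟨I - i, by omega⟩
    obtain ⟨v, rfl⟩ : ∃ v, r = s + v := ⟨r - s, by omega⟩
    rw [show (i + t) * p + (s + v) - (i * p + s) = t * p + v by rw [add_mul]; omega,
      Nat.add_sub_cancel_left, Nat.add_sub_cancel_left, pow_add]
    ring

/-- the Cartier–Manin matrix of a translate -/
theorem cartierManin_comp (g : ℕ) (hg : g ≤ p) (hp2 : p ≠ 2) (f : k[X]) (hf : f.natDegree ≤ 2 * g + 2) (α : k) :
    (Matrix.of fun i j : Fin g =>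
        ((f.comp (Polynomial.X + Polynomial.C α)) ^ ((p - 1) / 2)).coeff (((i : ℕ) + 1) * p - ((j : ℕ) + 1))) =
      (Matrix.of fun i I : Fin g => (((I : ℕ).choose (i : ℕ) : ℕ) : k) * α ^ (((I : ℕ) - (i : ℕ)) * p)) *
        (Matrix.of fun i j : Fin g => (f ^ ((p - 1) / 2)).coeff (((i : ℕ) + 1) * p - ((j : ℕ) + 1))) *
        (Matrix.of fun J j : Fin g => (((p - ((J : ℕ) + 1)).choose (p - ((j : ℕ) + 1)) : ℕ) : k) * α ^ ((j : ℕ) - (J : ℕ))) := by
  obtain ⟨h, hh⟩ := (Fact.out : p.Prime).odd_of_ne_two hp2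
  rw [show (p - 1) / 2 = h by omega, ← pow_comp]
  generalize hc' : f ^ h = c
  have hdeg : c.natDegree ≤ h * (2 * g + 2) := by
    rw [← hc']
    exact natDegree_pow_le.trans (Nat.mul_le_mul_left _ hf)
  have hlt : c.natDegree < (g + 1) * p := by
    subst hh
    nlinarith
  ext i j
  obtain ⟨s, hs⟩ : ∃ s, p = s + ((j : ℕ) + 1) := ⟨p - ((j:ℕ) + 1), by omega⟩
  have hidx : ((i : ℕ) + 1) * p - ((j : ℕ) + 1) = (i : ℕ) * p + s := by rw [add_mul]; omega
  rw [Matrix.of_apply, hidx, coeff_comp_digits c α (g + 1) hlt i s (by omega)]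
  simp only [Matrix.mul_apply, Matrix.of_apply, Finset.sum_mul]
  rw [Finset.sum_comm (γ := Fin g)]
  rw [Finset.sum_range_succ]
  have hlast : ∑ r ∈ range p, c.coeff (g * p + r) *
      (((g.choose i : ℕ) : k) * α ^ ((g - (i:ℕ)) * p) * (((r.choose s : ℕ) : k) * α ^ (r - s))) = 0 := by
    refine Finset.sum_eq_zero fun r hr => ?_
    rcases lt_or_ge r s with h' | h'
    · simp [Nat.choose_eq_zero_of_lt h']
    · rw [coeff_eq_zero_of_natDegree_lt, zero_mul]
      have h3 := j.isLt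
      subst hh
      nlinarith
  rw [hlast, add_zero, ← Fin.sum_univ_eq_sum_range (fun I => ∑ r ∈ range p, c.coeff (I * p + r) *
      (((I.choose i : ℕ) : k) * α ^ ((I - (i:ℕ)) * p) * (((r.choose s : ℕ) : k) * α ^ (r - s))))]
  refine Finset.sum_congr rfl fun I _ => ?_
  rw [← Finset.sum_range_reflect (fun r => c.coeff ((I:ℕ) * p + r) *
      ((((I:ℕ).choose i : ℕ) : k) * α ^ (((I:ℕ) - (i:ℕ)) * p) * (((r.choose s : ℕ) : k) * α ^ (r - s))))]
  symm
  rw [Fin.sum_univ_eq_sum_range (fun J => (((I : ℕ).choose (i : ℕ) : ℕ) : k) * α ^ (((I : ℕ) - (i : ℕ)) * p) *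
      c.coeff (((I : ℕ) + 1) * p - (J + 1)) *
      ((((p - (J + 1)).choose (p - ((j : ℕ) + 1)) : ℕ) : k) * α ^ ((j : ℕ) - J))) g]
  refine (Finset.sum_congr rfl fun J hJ => ?_).trans (Finset.sum_subset (Finset.range_mono hg) ?_)
  · rw [Finset.mem_range] at hJ
    rw [show ((I : ℕ) + 1) * p - (J + 1) = (I:ℕ) * p + (p - 1 - J) by rw [add_mul]; omega,
      show p - (J + 1) = p - 1 - J by omega, show p - ((j : ℕ) + 1) = s by omega,
      show (j : ℕ) - J = p - 1 - J - s by omega]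
    ring
  · intro J hJ hJ'
    simp only [Finset.mem_range] at hJ hJ'
    have h3 := j.isLt
    simp [Nat.choose_eq_zero_of_lt (show p - 1 - J < s by omega)]

/-- the determinant is translation invariant -/
theorem det_cartierManin_comp (g : ℕ) (hg : g ≤ p) (hp2 : p ≠ 2) (f : k[X]) (hf : f.natDegree ≤ 2 * g + 2) (α : k) :
    (Matrix.of fun i j : Fin g =>
        ((f.comp (Polynomial.X + Polynomial.C α)) ^ ((p - 1) / 2)).coeff (((i : ℕ) + 1) * p - ((j : ℕ) + 1))).det =
      (Matrix.of fun i j : Fin g => (f ^ ((p - 1) / 2)).coeff (((i : ℕ) + 1) * p - ((j : ℕ) + 1))).det := by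
  have hA : (Matrix.of fun i I : Fin g =>
      (((I : ℕ).choose (i : ℕ) : ℕ) : k) * α ^ (((I : ℕ) - (i : ℕ)) * p)).det = 1 := by
    rw [Matrix.det_of_isUpperTriangular]
    · simp
    · intro i I hI
      have h : (I : ℕ) < i := hI
      simp [Nat.choose_eq_zero_of_lt h]
  have hB : (Matrix.of fun J j : Fin g =>
      (((p - ((J : ℕ) + 1)).choose (p - ((j : ℕ) + 1)) : ℕ) : k) * α ^ ((j : ℕ) - (J : ℕ))).det = 1 := by
    rw [Matrix.det_of_isUpperTriangular]
    · simp
    · intro J j hJ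
      have h : (j : ℕ) < J := hJ
      have h1 := J.isLt
      simp [Nat.choose_eq_zero_of_lt (show p - ((J : ℕ) + 1) < p - ((j : ℕ) + 1) by omega)]
  rw [cartierManin_comp g hg hp2 f hf α, Matrix.det_mul, Matrix.det_mul, hA, hB, one_mul, mul_one]

end Groth.Agent.Curves2
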