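import Groth.Agent.Var76.ProjCoord
import Mathlib.AlgebraicGeometry.ProjectiveSpectrum.Basic
import Mathlib.AlgebraicGeometry.Morphisms.Immersion

/-! Immersions into projective space from compatible affine charts. -/

set_option autoImplicit false

universe u

open CategoryTheory CategoryTheory.Limits AlgebraicGeometry Opposite TopologicalSpace

noncomputable section

set_option backward.isDefEq.respectTransparency false

namespace Groth.Agent.Curves2.Charts

open HomogeneousLocalization Var76.ProjCoord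

variable (k : Type u) [Field k] {N : ℕ}

local notation "𝒜" => CohB1.polyGrading N k
local notation "Poly" => MvPolynomial (Fin (N + 1)) k

variable {k}

/-- Evaluation of degree zero fractions with denominator a power of `t`. -/
def awayEval {R : Type u} [CommRing R] (φ : Poly →+* R) (t : Poly) (ht : IsUnit (φ t)) : Away 𝒜 t →+* R :=
  (IsLocalization.Away.lift (S := Localization.Away t) t (g := φ) ht).comp (algebraMap _ _)

theorem awayEval_spec {R : Type u} [CommRing R] (φ : Poly →+* R) (t : Poly) (ht : IsUnit (φ t))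
    (c : HomogeneousLocalization.NumDenSameDeg 𝒜 (Submonoid.powers t)) :
    awayEval φ t ht (HomogeneousLocalization.mk c) * φ c.den.1 = φ c.num.1 := by
  rw [awayEval, RingHom.comp_apply, HomogeneousLocalization.algebraMap_apply,
    HomogeneousLocalization.val_mk, Localization.mk_eq_mk']
  have := congrArg (IsLocalization.Away.lift (S := Localization.Away t) t (g := φ) ht)
    (IsLocalization.mk'_spec (Localization.Away t) c.num.1 ⟨c.den.1, c.den_mem⟩)
  rwa [map_mul, IsLocalization.Away.lift_eq, IsLocalization.Away.lift_eq] at this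

theorem isUnit_den {R : Type u} [CommRing R] (φ : Poly →+* R) (t : Poly) (ht : IsUnit (φ t))
    (c : HomogeneousLocalization.NumDenSameDeg 𝒜 (Submonoid.powers t)) : IsUnit (φ c.den.1) := by
  obtain ⟨m, hm⟩ := c.den_mem
  rw [← show t ^ m = c.den.1 from hm, map_pow]
  exact ht.pow m

theorem awayEval_awayMap {R : Type u} [CommRing R] (φ : Poly →+* R) (t s : Poly) {d : ℕ} (hs : s ∈ 𝒜 d)
    {x : Poly} (hx : x = t * s) (ht : IsUnit (φ t)) (hxn : IsUnit (φ x)) :
    (awayEval φ x hxn).comp (awayMap 𝒜 hs hx) = awayEval φ t ht := by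
  refine RingHom.ext fun z => ?_
  obtain ⟨c, rfl⟩ := HomogeneousLocalization.mk_surjective z
  have h1 := awayEval_spec φ t ht c
  obtain ⟨e, a, ⟨b, hb⟩, ⟨i, (rfl : _ = b)⟩⟩ := c
  rw [RingHom.comp_apply]
  generalize awayEval φ t ht (HomogeneousLocalization.mk _) = r at h1 ⊢
  rw [awayEval, RingHom.comp_apply, HomogeneousLocalization.algebraMap_apply,
    HomogeneousLocalization.val_awayMap_mk, Localization.mk_eq_mk', IsLocalization.Away.lift,
    IsLocalization.lift_mk'_spec]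
  simp only [map_mul, map_pow, hx] at h1 ⊢
  rw [← h1]
  ring

theorem eval_smul {R : Type u} [CommRing R] (κ : k →+* R) (r : R) (b : Fin (N + 1) → R) {p : Poly} {d : ℕ}
    (hp : p.IsHomogeneous d) :
    MvPolynomial.eval₂Hom κ (fun i => r * b i) p = r ^ d * MvPolynomial.eval₂Hom κ b p := by
  simp only [MvPolynomial.coe_eval₂Hom, MvPolynomial.eval₂_eq, Finset.mul_sum]
  refine Finset.sum_congr rfl fun e he => ?_
  have hd : ∑ i ∈ e.support, e i = d := by
    have := hp (MvPolynomial.mem_support_iff.1 he)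
    rw [← this, Finsupp.weight_apply]
    simp [Finsupp.sum]
  simp only [mul_pow, Finset.prod_mul_distrib, Finset.prod_pow_eq_pow_sum, hd]
  ring

theorem awayEval_smul {R : Type u} [CommRing R] (κ : k →+* R) (r : R) (hr : IsUnit r)
    (b : Fin (N + 1) → R) (t : Poly) (ha : IsUnit (MvPolynomial.eval₂Hom κ (fun i => r * b i) t))
    (hb : IsUnit (MvPolynomial.eval₂Hom κ b t)) :
    awayEval (MvPolynomial.eval₂Hom κ fun i => r * b i) t ha = awayEval (MvPolynomial.eval₂Hom κ b) t hb := by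
  refine RingHom.ext fun z => ?_
  obtain ⟨c, rfl⟩ := HomogeneousLocalization.mk_surjective z
  have h1 := awayEval_spec _ t ha c
  have h2 := awayEval_spec _ t hb c
  rw [eval_smul κ r b c.num.2, eval_smul κ r b c.den.2, ← h2] at h1
  exact ((hr.pow c.deg).mul (isUnit_den _ t hb c)).mul_right_cancel (by linear_combination h1)

theorem isUnit_eval_X {R : Type u} [CommRing R] (κ : k →+* R) (a : Fin (N + 1) → R) (i : Fin (N + 1))
    (h : IsUnit (a i)) : IsUnit (MvPolynomial.eval₂Hom κ a (MvPolynomial.X i : Poly)) := by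
  rw [MvPolynomial.eval₂Hom_X']; exact h

theorem awayEval_frac {R : Type u} [CommRing R] (κ : k →+* R) (a : Fin (N + 1) → R) (j : Fin (N + 1))
    (hj : a j = 1) (hu : IsUnit (MvPolynomial.eval₂Hom κ a (MvPolynomial.X j : Poly))) (i : Fin (N + 1)) :
    awayEval (MvPolynomial.eval₂Hom κ a) _ hu (frac k N j (X₁ k N i)) = a i := by
  have := awayEval_spec (MvPolynomial.eval₂Hom κ a) _ hu
    ⟨1, X₁ k N i, X₁ k N j, ⟨1, pow_one _⟩⟩
  simp only [X₁, MvPolynomial.eval₂Hom_X', hj, mul_one] at this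
  exact this

theorem awayEval_const {R : Type u} [CommRing R] (κ : k →+* R) (a : Fin (N + 1) → R) (t : Poly)
    (hu : IsUnit (MvPolynomial.eval₂Hom κ a t)) (r : k) :
    awayEval (MvPolynomial.eval₂Hom κ a) t hu (fromZeroRingHom 𝒜 _ (algebraMap k (𝒜 0) r)) = κ r := by
  have := awayEval_spec (MvPolynomial.eval₂Hom κ a) t hu
    ⟨0, algebraMap k (𝒜 0) r, ⟨1, SetLike.GradedOne.one_mem⟩, one_mem _⟩
  simp only [map_one, mul_one] at this
  exact this.trans (MvPolynomial.eval₂Hom_C κ a r)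

section Glue

variable {X : Scheme.{u}} [X.Over (Spec (CommRingCat.of k))]

open Var76.BertiniScheme (const)

theorem res_const {V U : X.Opens} (h : V ≤ U) (r : k) :
    X.presheaf.map (homOfLE h).op (const (k := k) X U r) = const (k := k) X V r := by
  show ((Scheme.ΓSpecIso (CommRingCat.of k)).inv ≫
    Scheme.Hom.appLE (X ↘ Spec (CommRingCat.of k)) ⊤ U le_top ≫ X.presheaf.map (homOfLE h).op).hom r = _
  rw [Scheme.Hom.appLE_map]
  rfl

/-- The chart morphism. -/
def chart (W : X.Opens) (a : Fin (N + 1) → Γ(X, W)) (t : Poly) {d : ℕ} (ht : t ∈ 𝒜 d) (hd : 0 < d)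
    (hu : IsUnit (MvPolynomial.eval₂Hom (const (k := k) X W) a t)) :
    (W : Scheme.{u}) ⟶ CohB1.ProjSpace N k :=
  W.toSpecΓ ≫ Spec.map (CommRingCat.ofHom (awayEval (MvPolynomial.eval₂Hom (const (k := k) X W) a) t hu)) ≫
    Proj.awayι 𝒜 t ht hd

theorem chart_res {V W : X.Opens} (h : V ≤ W) (a : Fin (N + 1) → Γ(X, W)) (t s : Poly) {d : ℕ}
    (ht : t ∈ 𝒜 1) (hs : s ∈ 𝒜 d) {x : Poly} (hx : x = t * s) (hxd : x ∈ 𝒜 (1 + d))
    (hu : IsUnit (MvPolynomial.eval₂Hom (const (k := k) X W) a t))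
    (hux : IsUnit (MvPolynomial.eval₂Hom (const (k := k) X V)
      (fun i => X.presheaf.map (homOfLE h).op (a i)) x)) :
    X.homOfLE h ≫ chart W a t ht one_pos hu =
      chart V (fun i => X.presheaf.map (homOfLE h).op (a i)) x hxd (by omega) hux := by
  set φV := MvPolynomial.eval₂Hom (const (k := k) X V) (fun i => X.presheaf.map (homOfLE h).op (a i))
  have hcomp : φV = (X.presheaf.map (homOfLE h).op).hom.comp (MvPolynomial.eval₂Hom (const (k := k) X W) a) :=
    MvPolynomial.ringHom_ext (fun r => by simp [φV, res_const]) (fun i => by simp [φV])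
  have hut : IsUnit (φV t) := hcomp ▸ hu.map (X.presheaf.map (homOfLE h).op).hom
  have hev : awayEval φV t hut =
      (X.presheaf.map (homOfLE h).op).hom.comp (awayEval (MvPolynomial.eval₂Hom (const (k := k) X W) a) t hu) := by
    refine RingHom.ext fun z => ?_
    obtain ⟨c, rfl⟩ := HomogeneousLocalization.mk_surjective z
    refine (isUnit_den φV t hut c).mul_right_cancel ?_
    rw [awayEval_spec, RingHom.comp_apply, hcomp, RingHom.comp_apply, RingHom.comp_apply, ← map_mul,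
      awayEval_spec]
  rw [chart, chart, ← Scheme.Opens.toSpecΓ_SpecMap_presheaf_map_assoc, ← Spec.map_comp_assoc,
    ← Proj.SpecMap_awayMap_awayι 𝒜 ht one_pos hs hx, ← Spec.map_comp_assoc,
    ← CommRingCat.ofHom_comp, awayEval_awayMap φV t s hs hx hut hux, hev]
  rfl

theorem chart_toSpec (W : X.Opens) (hW : IsAffineOpen W) (a : Fin (N + 1) → Γ(X, W)) (t : Poly) {d : ℕ}
    (ht : t ∈ 𝒜 d) (hd : 0 < d) (hu : IsUnit (MvPolynomial.eval₂Hom (const (k := k) X W) a t)) :
    chart W a t ht hd hu ≫ CohB1.ProjSpace.toSpec N k = W.ι ≫ (X ↘ Spec (CommRingCat.of k)) := by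
  rw [chart, CohB1.ProjSpace.toSpec, Category.assoc, Category.assoc, Proj.awayι_toSpecZero_assoc,
    ← Spec.map_comp, ← Spec.map_comp, ← hW.toSpecΓ_fromSpec, Category.assoc W.toSpecΓ hW.fromSpec,
    ← Var76.BertiniScheme.SpecMap_const (k := k) hW]
  congr 2
  exact CommRingCat.hom_ext (RingHom.ext fun r => awayEval_const _ a t hu r)

theorem chart_congr (W : X.Opens) {a b : Fin (N + 1) → Γ(X, W)} (e : a = b) (t : Poly) {d : ℕ}
    (ht : t ∈ 𝒜 d) (hd : 0 < d) (ha : IsUnit (MvPolynomial.eval₂Hom (const (k := k) X W) a t))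
    (hb : IsUnit (MvPolynomial.eval₂Hom (const (k := k) X W) b t)) :
    chart W a t ht hd ha = chart W b t ht hd hb := by
  subst e; rfl

theorem chart_closed (W : X.Opens) (hW : IsAffineOpen W) (a : Fin (N + 1) → Γ(X, W)) (j : Fin (N + 1))
    (hj : a j = 1) (hgen : ∀ x : Γ(X, W), ∃ p : Poly, MvPolynomial.eval₂Hom (const (k := k) X W) a p = x)
    (hu : IsUnit (MvPolynomial.eval₂Hom (const (k := k) X W) a (MvPolynomial.X j : Poly))) :
    ∃ l : (W : Scheme.{u}) ⟶ (U k N j : Scheme.{u}), IsClosedImmersion l ∧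
      l ≫ (U k N j).ι = chart W a _ (X₁ k N j).2 one_pos hu := by
  set ev := awayEval (MvPolynomial.eval₂Hom (const (k := k) X W) a) _ hu
  have hsurj : Function.Surjective ev := fun x => by
    obtain ⟨p, rfl⟩ := hgen x
    induction p using MvPolynomial.induction_on with
    | C r => exact ⟨_, (awayEval_const _ a _ hu r).trans (MvPolynomial.eval₂Hom_C _ _ _).symm⟩
    | add p q hp hq =>
      obtain ⟨u, hu⟩ := hp; obtain ⟨v, hv⟩ := hq
      exact ⟨u + v, by rw [map_add, map_add, hu, hv]⟩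
    | mul_X p i hp =>
      obtain ⟨u, hu'⟩ := hp
      exact ⟨u * frac k N j (X₁ k N i), by
        rw [map_mul, map_mul, hu', awayEval_frac _ a j hj hu i, MvPolynomial.eval₂Hom_X']⟩
  have : IsIso W.toSpecΓ := hW.isoSpec_hom ▸ inferInstance
  have : IsClosedImmersion (Spec.map (CommRingCat.ofHom ev)) :=
    IsClosedImmersion.spec_of_surjective (CommRingCat.ofHom ev) hsurj
  refine ⟨W.toSpecΓ ≫ Spec.map (CommRingCat.ofHom ev) ≫
    (Proj.basicOpenIsoSpec 𝒜 (MvPolynomial.X j) (X₁ k N j).2 one_pos).inv, inferInstance, ?_⟩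
  simp only [chart, Category.assoc, Proj.awayι]
  rfl

theorem chart_mem (W : X.Opens) (hW : IsAffineOpen W) (a : Fin (N + 1) → Γ(X, W)) (j i : Fin (N + 1))
    (hj : a j = 1) (hu : IsUnit (MvPolynomial.eval₂Hom (const (k := k) X W) a (MvPolynomial.X j : Poly)))
    (x : W) : chart W a _ (X₁ k N j).2 one_pos hu x ∈ U k N i → x.1 ∈ X.basicOpen (a i) := by
  intro hx
  set ev := awayEval (MvPolynomial.eval₂Hom (const (k := k) X W) a) _ hu
  have h1 : Spec.map (CommRingCat.ofHom ev) (W.toSpecΓ x) ∈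
      Proj.awayι 𝒜 (MvPolynomial.X j) (X₁ k N j).2 one_pos ⁻¹ᵁ
        Proj.basicOpen 𝒜 (MvPolynomial.X i) := hx
  rw [Proj.awayι_preimage_basicOpen 𝒜 (f := (MvPolynomial.X j : Poly)) (X₁ k N j).2 (zero_lt_one' ℕ) (g := (MvPolynomial.X i : Poly)) (X₁ k N i).2] at h1
  on_goal 2 => exact one_pos
  have h2 : W.toSpecΓ x ∈ PrimeSpectrum.basicOpen (ev (Away.isLocalizationElem (X₁ k N j).2 (X₁ k N i).2)) := h1
  have e : ev (Away.isLocalizationElem (X₁ k N j).2 (X₁ k N i).2) = a i := by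
    have := awayEval_spec (MvPolynomial.eval₂Hom (const (k := k) X W) a) _ hu
    refine (congrArg ev ?_).trans (awayEval_frac _ a j hj hu i)
    apply HomogeneousLocalization.val_injective
    simp [Away.isLocalizationElem, frac, Away.val_mk, HomogeneousLocalization.val_mk, X₁]
  rw [e] at h2
  have h3 : W.toSpecΓ x ∈ hW.fromSpec ⁻¹ᵁ X.basicOpen (a i) := by
    rw [hW.fromSpec_preimage_basicOpen]; exact h2
  have h4 : hW.fromSpec (W.toSpecΓ x) ∈ X.basicOpen (a i) := h3
  rwa [show hW.fromSpec (W.toSpecΓ x) = x.1 from by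
    rw [← Scheme.Hom.comp_apply, hW.toSpecΓ_fromSpec]; rfl] at h4

/-- An immersion into projective space from charts with compatible coordinates. -/
theorem exists_immersion {ι : Type u} (W : ι → X.Opens) (hW : ∀ i, IsAffineOpen (W i))
    (hcover : ⨆ i, W i = ⊤) (a : ∀ i, Fin (N + 1) → Γ(X, W i)) (j : ι → Fin (N + 1))
    (hone : ∀ i, a i (j i) = 1)
    (hgen : ∀ i (x : Γ(X, W i)), ∃ p : Poly, MvPolynomial.eval₂Hom (const (k := k) X (W i)) (a i) p = x)
    (hcomp : ∀ i i' l, X.presheaf.map (homOfLE (inf_le_left : W i ⊓ W i' ≤ W i)).op (a i l) =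
      X.presheaf.map (homOfLE (inf_le_left : W i ⊓ W i' ≤ W i)).op (a i (j i')) *
        X.presheaf.map (homOfLE (inf_le_right : W i ⊓ W i' ≤ W i')).op (a i' l))
    (hmem : ∀ i i', X.basicOpen (a i' (j i)) ≤ W i) :
    ∃ φ : X ⟶ CohB1.ProjSpace N k, IsImmersion φ ∧
      φ ≫ CohB1.ProjSpace.toSpec N k = X ↘ Spec (CommRingCat.of k) := by
  classical
  have hu : ∀ i, IsUnit (MvPolynomial.eval₂Hom (const (k := k) X (W i)) (a i) (MvPolynomial.X (j i) : Poly)) :=
    fun i => isUnit_eval_X _ _ _ (by rw [hone]; exact isUnit_one)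
  let m : ∀ i, (W i : Scheme.{u}) ⟶ CohB1.ProjSpace N k := fun i =>
    chart (W i) (a i) _ (X₁ k N (j i)).2 one_pos (hu i)
  have hagree : ∀ i i', X.homOfLE (inf_le_left : W i ⊓ W i' ≤ W i) ≫ m i =
      X.homOfLE (inf_le_right : W i ⊓ W i' ≤ W i') ≫ m i' := by
    intro i i'
    set V := W i ⊓ W i'
    set ρ := X.presheaf.map (homOfLE (inf_le_left : V ≤ W i)).op
    set ρ' := X.presheaf.map (homOfLE (inf_le_right : V ≤ W i')).op
    have h1 : (1 : Γ(X, V)) = ρ (a i (j i')) * ρ' (a i' (j i)) := by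
      rw [← hcomp i i' (j i), hone, map_one]
    have hr : IsUnit (ρ (a i (j i'))) := IsUnit.of_mul_eq_one _ h1.symm
    have hs : IsUnit (ρ' (a i' (j i))) := IsUnit.of_mul_eq_one _ (by rw [mul_comm]; exact h1.symm)
    let x : Poly := MvPolynomial.X (j i) * MvPolynomial.X (j i')
    have hxd : x ∈ 𝒜 (1 + 1) := SetLike.mul_mem_graded (X₁ k N (j i)).2 (X₁ k N (j i')).2
    have hxa : IsUnit (MvPolynomial.eval₂Hom (const (k := k) X V) (fun l => ρ (a i l)) x) := by
      simp only [x, map_mul, MvPolynomial.eval₂Hom_X', hone, map_one, one_mul]; exact hr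
    have hxb : IsUnit (MvPolynomial.eval₂Hom (const (k := k) X V) (fun l => ρ' (a i' l)) x) := by
      simp only [x, map_mul, MvPolynomial.eval₂Hom_X', hone, map_one, mul_one]; exact hs
    rw [chart_res (inf_le_left : V ≤ W i) (a i) _ _ (X₁ k N (j i)).2 (X₁ k N (j i')).2 (x := x) rfl hxd _ hxa,
      chart_res (inf_le_right : V ≤ W i') (a i') _ _ (X₁ k N (j i')).2 (X₁ k N (j i)).2 (x := x) (mul_comm _ _)
        hxd _ hxb]
    have hxc : IsUnit (MvPolynomial.eval₂Hom (const (k := k) X V)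
        (fun l => ρ (a i (j i')) * ρ' (a i' l)) x) := by
      rw [show (fun l => ρ (a i (j i')) * ρ' (a i' l)) = fun l => ρ (a i l) from
        funext fun l => (hcomp i i' l).symm]
      exact hxa
    rw [chart_congr V (funext fun l => hcomp i i' l) x hxd _ hxa hxc, chart, chart,
      awayEval_smul _ _ hr _ x hxc hxb]
  let 𝒰 := X.openCoverOfIsOpenCover W (TopologicalSpace.IsOpenCover.mk hcover)
  let φ : X ⟶ CohB1.ProjSpace N k := 𝒰.glueMorphisms m (by
    intro (i : ι) (i' : ι)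
    have e := (isPullback_opens_inf (W i) (W i')).isoPullback
    rw [← cancel_epi (isPullback_opens_inf (W i) (W i')).isoPullback.hom, ← Category.assoc,
      ← Category.assoc]
    show ((isPullback_opens_inf (W i) (W i')).isoPullback.hom ≫ pullback.fst (W i).ι (W i').ι) ≫ m i =
      ((isPullback_opens_inf (W i) (W i')).isoPullback.hom ≫ pullback.snd (W i).ι (W i').ι) ≫ m i'
    rw [IsPullback.isoPullback_hom_fst, IsPullback.isoPullback_hom_snd]
    exact hagree i i')
  have hφ : ∀ i, (W i).ι ≫ φ = m i := fun i => 𝒰.ι_glueMorphisms _ _ i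
  have hpre : ∀ i, φ ⁻¹ᵁ U k N (j i) = W i := by
    intro i
    refine le_antisymm (fun x hx => ?_) fun x hx => ?_
    · obtain ⟨i', hx'⟩ := Opens.mem_iSup.1 (hcover.ge (trivial : x ∈ (⊤ : X.Opens)))
      have : m i' ⟨x, hx'⟩ ∈ U k N (j i) := by rw [← hφ]; exact hx
      exact hmem i i' (chart_mem (W i') (hW i') (a i') (j i') (j i) (hone i') (hu i') ⟨x, hx'⟩ this)
    · show φ x ∈ U k N (j i)
      rw [show φ x = ((W i).ι ≫ φ) ⟨x, hx⟩ from rfl, hφ]
      exact (Proj.opensRange_awayι 𝒜 (MvPolynomial.X (j i)) (X₁ k N (j i)).2 one_pos).le ⟨_, rfl⟩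
  let P : (CohB1.ProjSpace N k).Opens := ⨆ i, U k N (j i)
  have hP : ∀ i, U k N (j i) ≤ P := le_iSup (fun i => U k N (j i))
  have htop : φ ⁻¹ᵁ P = ⊤ := by
    rw [Scheme.Hom.preimage_iSup]; simp only [hpre]; exact hcover
  let ψ : X ⟶ (P : Scheme.{u}) := IsOpenImmersion.lift P.ι φ (by
    rw [Scheme.Opens.range_ι]
    rintro _ ⟨x, rfl⟩
    exact htop.ge (trivial : x ∈ (⊤ : X.Opens)))
  have hψ : ψ ≫ P.ι = φ := IsOpenImmersion.lift_fac _ _ _
  have : IsClosedImmersion ψ := by
    refine (IsZariskiLocalAtTarget.iff_of_iSup_eq_top (P := @IsClosedImmersion)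
      (fun i => P.ι ⁻¹ᵁ U k N (j i)) ?_).2 fun i => ?_
    · rw [← Scheme.Hom.preimage_iSup]; exact P.ι_preimage_self
    obtain ⟨l, hl, hlι⟩ := chart_closed (W i) (hW i) (a i) (j i) (hone i) (hgen i) (hu i)
    have e1 : ψ ⁻¹ᵁ P.ι ⁻¹ᵁ U k N (j i) = W i := by
      rw [← Scheme.Hom.comp_preimage, hψ]; exact hpre i
    have hiso : IsIso (P.ι ∣_ U k N (j i)) := by
      refine isIso_of_isOpenImmersion_of_opensRange_eq_top _ (top_le_iff.1 fun y _ => ?_)
      exact ⟨⟨⟨y.1, hP i y.2⟩, y.2⟩, Subtype.ext (by rw [morphismRestrict_base_coe]; rfl)⟩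
    have key : (X.isoOfEq e1).inv ≫ (ψ ∣_ (P.ι ⁻¹ᵁ U k N (j i))) ≫ (P.ι ∣_ U k N (j i)) = l := by
      rw [← cancel_mono (U k N (j i)).ι, hlι]
      simp only [Category.assoc, morphismRestrict_ι, morphismRestrict_ι_assoc,
        Scheme.isoOfEq_inv_ι_assoc, hψ]
      exact hφ i
    have h3 : IsClosedImmersion ((ψ ∣_ (P.ι ⁻¹ᵁ U k N (j i)))) := by
      have : (ψ ∣_ (P.ι ⁻¹ᵁ U k N (j i))) = (X.isoOfEq e1).hom ≫ l ≫ inv (P.ι ∣_ U k N (j i)) := by
        rw [← key]; simp
      rw [this]; infer_instance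
    exact h3
  refine ⟨φ, ?_, ?_⟩
  · rw [← hψ]; infer_instance
  · refine 𝒰.hom_ext _ _ fun i => ?_
    show (W i).ι ≫ φ ≫ _ = (W i).ι ≫ _
    rw [← Category.assoc, hφ]
    exact chart_toSpec (W i) (hW i) (a i) _ _ _ _

end Glue

end Groth.Agent.Curves2.Charts
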