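import Groth.Agent.Curves2.BilinearHopf
import Groth.Agent.Curves2.CurveToolkit

/-!
# Clifford's inequality without duality

`h⁰(L) + h¹(L) ≤ g + 1` when both are nonzero.
-/

set_option autoImplicit false

universe u

open CategoryTheory CategoryTheory.Limits AlgebraicGeometry CategoryTheory.Abelian

namespace Groth.Agent.Curves2

open Groth.Agent.Crv77

variable {k : Type u} [Field k] [IsAlgClosed k] {X : Scheme.{u}} [X.Over (Spec (CommRingCat.of k))]
  [IsIntegral X]

/-- Clifford's inequality. -/
theorem finrank_h0_add_h1_le (hX : CurveCoh k X) [IsNoetherian X] (hdim : topologicalKrullDim X ≤ 1)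
    {L : X.Modules} (hL : PicF.IsInvertible L) (h0 : Nontrivial (Coh.HH X L 0))
    (h1 : Nontrivial (Coh.HH X L 1)) :
    Module.finrank k (Coh.HH X L 0) + Module.finrank k (Coh.HH X L 1) ≤ Curv2.genus k X + 1 := by
  have hLc := isCoh_of_isInvertible hL
  have := hX.finite L hLc 0
  have := hX.finite L hLc 1
  have := hX.finite _ (isCoh_structureModule (X := X)) 1
  have hadd : ∀ (x y : Coh.HH X L 0) (z : Coh.HH X (Coh.structureModule X) 1),
      hmap k (toHom (x + y)) 1 z = hmap k (toHom x) 1 z + hmap k (toHom y) 1 z := fun x y z => by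
    exact ext_comp_add' z (toAb_toHom_add x y)
  have hsmul : ∀ (a : k) (x : Coh.HH X L 0) (z : Coh.HH X (Coh.structureModule X) 1),
      hmap k (toHom (a • x)) 1 z = a • hmap k (toHom x) 1 z := fun a x z => by
    refine (congrArg (fun e => Ext.comp z (Ext.mk₀ e) (add_zero 1)) (toAb_toHom_smul k a x)).trans ?_
    exact (ext_comp_comp z _ _).symm.trans (smul_eq_comp k L 1 a _).symm
  let φ : Coh.HH X L 0 →ₗ[k] Module.Dual k (Coh.HH X L 1) →ₗ[k]
      Module.Dual k (Coh.HH X (Coh.structureModule X) 1) :=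
    LinearMap.mk₂ k (fun x ξ => ξ ∘ₗ hmap k (toHom x) 1)
      (fun x y ξ => LinearMap.ext fun z => by
        simp only [LinearMap.coe_comp, Function.comp_apply, LinearMap.add_apply, hadd, map_add])
      (fun a x ξ => LinearMap.ext fun z => by
        simp only [LinearMap.coe_comp, Function.comp_apply, LinearMap.smul_apply, hsmul, map_smul])
      (fun x ξ η => LinearMap.add_comp _ _ _)
      (fun a x ξ => LinearMap.smul_comp _ _ _)
  obtain ⟨v, hv⟩ := exists_ne (0 : Coh.HH X L 1)
  obtain ⟨ξ, hξ⟩ : ∃ ξ : Module.Dual k (Coh.HH X L 1), ξ v ≠ 0 := by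
    by_contra hcon
    push Not at hcon
    exact hv ((Module.forall_dual_apply_eq_zero_iff k v).1 hcon)
  have : Nontrivial (Module.Dual k (Coh.HH X L 1)) :=
    ⟨⟨ξ, 0, fun h => hξ (by rw [h]; rfl)⟩⟩
  have key := finrank_add_le_of_bilinear φ fun x η hxη => by
    by_contra hcon
    push Not at hcon
    obtain ⟨hx0, hη0⟩ := hcon
    have hsec : (toHom x).app ⊤ (1 : Γ(X, ⊤)) ≠ 0 := by
      rw [toHom_app_one]
      exact fun h => hx0 ((sec L).injective (h.trans (map_zero _).symm))
    obtain ⟨hm, hgen⟩ := section_of_invertible hL (toHom x) hsec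
    obtain ⟨S, hS, hcl, hsupp⟩ := exists_suppIn hdim (isCoh_cokernel (toHom x) isCoh_structureModule hLc)
      (QC70.subsingleton_stalk_cokernel (toHom x) _ hgen)
    let T := ShortComplex.mk (toHom x) (cokernel.π (toHom x)) (cokernel.condition _)
    have hT : T.ShortExact :=
      { exact := ShortComplex.exact_of_g_is_cokernel _ (cokernelIsCokernel _)
        mono_f := hm
        epi_g := inferInstanceAs (Epi (cokernel.π _)) }
    have := hsupp.subsingleton_HH hS hcl 0
    refine hη0 (LinearMap.ext fun w => ?_)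
    obtain ⟨z, hz⟩ := (exact_f_g k hT 1 w).1 (Subsingleton.elim _ _)
    exact hz ▸ LinearMap.congr_fun hxη z
  rw [Subspace.dual_finrank_eq, Subspace.dual_finrank_eq] at key
  exact key

/-- Clifford: a special module has at most `deg / 2 + 1` sections. -/
theorem two_mul_h0_le_of_special (hX : CurveCoh k X) [IsNoetherian X]
    (hdim : topologicalKrullDim X ≤ 1)
    (hO : Module.finrank k (Coh.HH X (Coh.structureModule X) 0) = 1)
    {L : X.Modules} (hL : PicF.IsInvertible L) (h0 : Nontrivial (Coh.HH X L 0))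
    (h1 : Nontrivial (Coh.HH X L 1)) :
    2 * (Module.finrank k (Coh.HH X L 0) : ℤ) ≤ Curv2.deg k X L 1 + 2 := by
  have h2 := finrank_h0_add_h1_le hX hdim hL h0 h1
  have h3 := hX.riemann hO (isCoh_of_isInvertible hL)
  simp only [Crv77.h] at h3
  omega

/-- Either special and bounded by Clifford, or `h⁰ = deg + 1 - g`. -/
theorem h0_cases (hX : CurveCoh k X) [IsNoetherian X] (hdim : topologicalKrullDim X ≤ 1)
    (hO : Module.finrank k (Coh.HH X (Coh.structureModule X) 0) = 1)
    {L : X.Modules} (hL : PicF.IsInvertible L) (h0 : 1 ≤ Module.finrank k (Coh.HH X L 0)) :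
    2 * (Module.finrank k (Coh.HH X L 0) : ℤ) ≤ Curv2.deg k X L 1 + 2 ∨
      (Module.finrank k (Coh.HH X L 0) : ℤ) = Curv2.deg k X L 1 + 1 - (Curv2.genus k X : ℤ) := by
  have := hX.finite L (isCoh_of_isInvertible hL) 0
  have : Nontrivial (Coh.HH X L 0) := Module.nontrivial_of_finrank_pos (R := k) h0
  rcases subsingleton_or_nontrivial (Coh.HH X L 1) with h1 | h1
  · right
    have h3 := hX.riemann hO (isCoh_of_isInvertible hL)
    simp only [Crv77.h, Module.finrank_zero_of_subsingleton] at h3
    omega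
  · exact Or.inl (two_mul_h0_le_of_special hX hdim hO hL this h1)

end Groth.Agent.Curves2
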