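import Groth.Agent.Curves2.QuasiProj
import Groth.Agent.VarGal.LocalDim
import Mathlib.AlgebraicGeometry.Morphisms.SchemeTheoreticallyDominant

/-! Projective completion of one-dimensional schemes. -/

set_option autoImplicit false

universe u

open CategoryTheory CategoryTheory.Limits AlgebraicGeometry Opposite TopologicalSpace

noncomputable section

set_option backward.isDefEq.respectTransparency false

namespace Groth.Agent.Curves2

theorem isSchemeTheoreticallyDominant_toImage {X Y : Scheme.{u}} (f : X ⟶ Y) [QuasiCompact f] :
    IsSchemeTheoreticallyDominant f.toImage := by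
  refine ⟨Scheme.IdealSheafData.ext (funext fun U => ?_)⟩
  rw [Scheme.Hom.ker_apply, Scheme.IdealSheafData.ideal_bot, Pi.bot_apply,
    ← RingHom.injective_iff_ker_eq_bot]
  exact TopCat.Presheaf.app_injective_of_stalkFunctor_map_injective (F := f.image.sheaf) f.toImage.c
    (U : f.image.Opens) fun x _ => f.stalkFunctor_toImage_injective x

/-- Points outside a dense open of dimension `≤ 1` are finitely many closed points. -/
theorem finite_compl_of_dense (k : Type u) [Field k] {X Y : Scheme.{u}}
    (sY : Y ⟶ Spec (CommRingCat.of k)) [LocallyOfFiniteType sY] [IsNoetherian Y]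
    (j : X ⟶ Y) [IsOpenImmersion j] (hd : Dense (Set.range j)) (hdim : topologicalKrullDim X ≤ 1) :
    (Set.range j)ᶜ.Finite ∧ ∀ y ∈ (Set.range j)ᶜ, IsClosed ({y} : Set Y) := by
  have hcl : ∀ y ∈ (Set.range j)ᶜ, IsClosed ({y} : Set Y) := by
    intro y hy
    have hC : irreducibleComponent y ∈ irreducibleComponents (Y : Type u) :=
      irreducibleComponent_mem_irreducibleComponents y
    let Z : Closeds Y := ⟨irreducibleComponent y, isClosed_irreducibleComponent⟩
    let I := Scheme.IdealSheafData.vanishingIdeal Z
    have : IsIntegral I.subscheme := isIntegral_vanishingIdeal Z hC.1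
    let O : I.subscheme.Opens := I.subschemeι ⁻¹ᵁ j.opensRange
    obtain ⟨g, hg⟩ := QuasiSober.sober hC.1 isClosed_irreducibleComponent
    have hgr : g ∈ Set.range j := by
      by_contra hgr
      have hfin : (irreducibleComponents (Y : Type u)).Finite :=
        NoetherianSpace.finite_irreducibleComponents
      let others : Set Y := ⋃₀ (irreducibleComponents (Y : Type u) \ {irreducibleComponent y})
      have hoc : IsClosed others := by
        simp only [others, Set.sUnion_eq_biUnion]
        exact (hfin.subset Set.sdiff_subset).isClosed_biUnion fun s hs =>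
          isClosed_of_mem_irreducibleComponents s hs.1
      have hgo : g ∈ othersᶜ := by
        rintro ⟨s, ⟨hs, hne⟩, hgs⟩
        have hle : irreducibleComponent y ⊆ s := hg.def ▸ closure_minimal
          (Set.singleton_subset_iff.2 hgs) (isClosed_of_mem_irreducibleComponents s hs)
        exact hne (le_antisymm (hC.2 hs.1 hle) hle)
      obtain ⟨p, hp, q, hq⟩ := hd.inter_open_nonempty _ hoc.isOpen_compl ⟨g, hgo⟩
      have hpC : p ∈ irreducibleComponent y := by
        by_contra hpC
        exact hp ⟨_, ⟨irreducibleComponent_mem_irreducibleComponents p,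
          fun h => hpC (Set.mem_singleton_iff.1 h ▸ mem_irreducibleComponent)⟩, mem_irreducibleComponent⟩
      exact hgr ((hg.specializes hpC).mem_open j.isOpenEmbedding.isOpen_range ⟨q, hq⟩)
    obtain ⟨g', hg'⟩ : g ∈ Set.range I.subschemeι := (range_vanishingIdeal Z).ge hg.mem
    have hO : (O : Set I.subscheme).Nonempty := ⟨g', show I.subschemeι g' ∈ Set.range j from hg' ▸ hgr⟩
    have hdO : topologicalKrullDim O ≤ 1 := by
      have e := j.isOpenEmbedding.isEmbedding.toHomeomorph
      have h1 : topologicalKrullDim (Set.range j) ≤ 1 :=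
        (e.isHomeomorph.topologicalKrullDim_eq).symm.trans_le hdim
      let m : O → Set.range j := fun o => ⟨I.subschemeι o.1, o.2⟩
      have hm : Topology.IsInducing m := by
        refine Topology.IsInducing.of_comp ?_ continuous_subtype_val
          (I.subschemeι.isClosedEmbedding.isInducing.comp Topology.IsInducing.subtypeVal)
        exact (I.subschemeι.continuous.comp continuous_subtype_val).subtype_mk _
      exact hm.topologicalKrullDim_le.trans h1
    have hdI : topologicalKrullDim I.subscheme ≤ 1 :=
      (VarGal.topologicalKrullDim_open_eq (I.subschemeι ≫ sY) O hO).symm.trans_le hdO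
    obtain ⟨y', hy'⟩ : y ∈ Set.range I.subschemeι := (range_vanishingIdeal Z).ge mem_irreducibleComponent
    have hne : y' ≠ genericPoint I.subscheme := by
      intro e
      apply hy
      have h1 : g' ⤳ y' := I.subschemeι.isClosedEmbedding.isInducing.specializes_iff.1
        (by rw [hg', hy']; exact hg.specializes mem_irreducibleComponent)
      have h2 : y' ⤳ g' := e ▸ genericPoint_specializes g'
      rw [← hy', (h2.antisymm h1).eq, hg']
      exact hgr
    have h1 := Crv77.isClosed_singleton hdI hne
    have h2 := I.subschemeι.isClosedEmbedding.isClosedMap _ h1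
    rwa [Set.image_singleton, hy'] at h2
  refine ⟨?_, hcl⟩
  obtain ⟨S, hSfin, hScl, hSirr, hSU⟩ := NoetherianSpace.exists_finite_set_isClosed_irreducible
    j.isOpenEmbedding.isOpen_range.isClosed_compl
  rw [hSU]
  refine hSfin.sUnion fun t ht => ?_
  obtain ⟨g, hg⟩ := QuasiSober.sober (hSirr t ht) (hScl t ht)
  refine (Set.finite_singleton g).subset ?_
  rw [← hg.def, (hcl g (hSU.ge ⟨t, ht, hg.mem⟩)).closure_eq]

end Groth.Agent.Curves2
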