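import Groth.Agent.Curves2.NodePoint
import Groth.Agent.ArLef32.Node
import Groth.Agent.Cartier57.Reduced
import Groth.Agent.AlgGrp79.SepDense
import Mathlib.AlgebraicGeometry.Morphisms.Flat

/-!
# At-worst-nodal schemes over a field are reduced
-/

set_option autoImplicit false

universe u

open CategoryTheory Limits AlgebraicGeometry IsLocalRing

namespace Groth.Agent.Curves2

theorem isReduced_axes (K : Type u) [Field K] :
    _root_.IsReduced (MvPowerSeries (Fin 2) K ⧸
      Ideal.span {(MvPowerSeries.X 0 * MvPowerSeries.X 1 : MvPowerSeries (Fin 2) K)}) := by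
  classical
  refine (isReduced_iff_pow_one_lt 2 one_lt_two).mpr fun z hz => ?_
  obtain ⟨f, rfl⟩ := Ideal.Quotient.mk_surjective z
  rw [← map_pow, Ideal.Quotient.eq_zero_iff_mem, Ideal.mem_span_singleton'] at hz
  obtain ⟨q, hq⟩ := hz
  have hax : ∀ i : Fin 2, ∀ n, MvPowerSeries.coeff (Finsupp.single i.rev n) f = 0 := by
    intro i n
    have h0 : ArLef32.axis (B := K) i f ^ 2 = 0 := by
      rw [← map_pow, ← hq, map_mul, map_mul]
      fin_cases i <;> simp [ArLef32.axis_X_self]
    have h1 := congrArg (PowerSeries.coeff n) ((sq_eq_zero_iff).mp h0)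
    rw [ArLef32.coeff_axis, map_zero] at h1
    exact (IsLocalRing.residue K).injective (h1.trans (map_zero _).symm)
  have hd : ∀ (i : Fin 2) (d : Fin 2 →₀ ℕ), d i = 0 → d = Finsupp.single i.rev (d i.rev) := by
    intro i d hdi
    refine Finsupp.ext fun j => ?_
    rcases eq_or_ne j i with rfl | hj
    · rw [hdi, Finsupp.single_eq_of_ne (ArLef32.rev_ne j).symm]
    · obtain rfl := ArLef32.eq_rev_of_ne hj
      rw [Finsupp.single_eq_same]
  obtain ⟨g, rfl⟩ : MvPowerSeries.X 0 ∣ f := by
    rw [MvPowerSeries.X_dvd_iff]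
    intro d h
    rw [hd 0 d h]
    exact hax 0 _
  obtain ⟨h', rfl⟩ : MvPowerSeries.X 1 ∣ g := by
    rw [MvPowerSeries.X_dvd_iff]
    intro d h
    have h2 := hax 1 (d (1 : Fin 2).rev + 1)
    have h3 : Finsupp.single (1 : Fin 2).rev (d (1 : Fin 2).rev + 1) =
        Finsupp.single 0 1 + d := by
      refine Finsupp.ext fun j => ?_
      fin_cases j <;> simp [h, add_comm]
    rw [h3, MvPowerSeries.X_def, MvPowerSeries.coeff_add_monomial_mul, one_mul] at h2
    exact h2
  rw [Ideal.Quotient.eq_zero_iff_mem, ← mul_assoc]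
  exact Ideal.mul_mem_right _ _ (Ideal.mem_span_singleton_self _)

theorem isReduced_of_isOrdDoublePt {K : Type u} [Field K] {A : Type u} [CommRing A] [Algebra K A]
    [IsLocalRing A] [IsNoetherianRing A] (h : Curv2.IsOrdDoublePt K A) : _root_.IsReduced A := by
  obtain ⟨e, -⟩ := h
  have := isReduced_axes K
  have hι : Function.Injective (algebraMap A (AdicCompletion (maximalIdeal A) A)) := by
    rw [injective_iff_map_eq_zero]
    intro a ha
    have h1 : ∀ n, a ∈ maximalIdeal A ^ n := fun n =>
      (Cohen12.algebraMap_mem_pow_iff A n a).mp (by rw [ha]; exact zero_mem _)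
    have h2 := Ideal.iInf_pow_eq_bot_of_isLocalRing (maximalIdeal A)
      (maximalIdeal.isMaximal A).ne_top
    rw [← Ideal.mem_bot, ← h2, Ideal.mem_iInf]
    exact h1
  exact isReduced_of_injective (e.toRingHom.comp (algebraMap A _)) (e.injective.comp hι)

/-- The local ring at a node is reduced. -/
theorem isReduced_stalk_of_isNode (k : Type u) [Field k] (X : Scheme.{u})
    [X.Over (Spec (CommRingCat.of k))] [LocallyOfFiniteType (X ↘ Spec (CommRingCat.of k))]
    (x : X) (hx : Curv2.IsNode k X x) : _root_.IsReduced (X.presheaf.stalk x) := by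
  obtain ⟨-, xb, rfl, hodp⟩ := hx
  have : IsLocallyNoetherian (Curv2.bc k X (AlgebraicClosure k)) :=
    LocallyOfFiniteType.isLocallyNoetherian (Curv2.bcSnd k X (AlgebraicClosure k))
  let : (Curv2.bc k X (AlgebraicClosure k)).Over (Spec (CommRingCat.of (AlgebraicClosure k))) :=
    ⟨Curv2.bcSnd k X (AlgebraicClosure k)⟩
  let := Curv2.stalkAlgebra (AlgebraicClosure k) (Curv2.bc k X (AlgebraicClosure k)) xb
  have := isReduced_of_isOrdDoublePt hodp
  have : Flat (Spec.map (CommRingCat.ofHom (algebraMap k (AlgebraicClosure k)))) := by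
    rw [HasRingHomProperty.Spec_iff (P := @Flat)]
    exact RingHom.flat_algebraMap_iff.mpr inferInstance
  have hflat := Flat.stalkMap (Curv2.bcFst k X (AlgebraicClosure k)) xb
  algebraize [((Curv2.bcFst k X (AlgebraicClosure k)).stalkMap xb).hom]
  have : IsLocalHom (algebraMap (X.presheaf.stalk (Curv2.bcFst k X (AlgebraicClosure k) xb))
      ((Curv2.bc k X (AlgebraicClosure k)).presheaf.stalk xb)) :=
    ⟨fun a ha => isUnit_of_map_unit ((Curv2.bcFst k X (AlgebraicClosure k)).stalkMap xb).hom a ha⟩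
  have : Module.FaithfullyFlat (X.presheaf.stalk (Curv2.bcFst k X (AlgebraicClosure k) xb))
      ((Curv2.bc k X (AlgebraicClosure k)).presheaf.stalk xb) :=
    Module.FaithfullyFlat.of_flat_of_isLocalHom
  exact isReduced_of_injective _ (FaithfulSMul.algebraMap_injective
    (X.presheaf.stalk (Curv2.bcFst k X (AlgebraicClosure k) xb))
    ((Curv2.bc k X (AlgebraicClosure k)).presheaf.stalk xb))

/-- An at-worst-nodal scheme over a field is reduced. -/
theorem isReduced_of_atWorstNodal (k : Type u) [Field k] (X : Scheme.{u})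
    [X.Over (Spec (CommRingCat.of k))] [LocallyOfFiniteType (X ↘ Spec (CommRingCat.of k))]
    (h : Curv2.AtWorstNodal k X) : IsReduced X := by
  have : JacobsonSpace X := LocallyOfFiniteType.jacobsonSpace (X ↘ Spec (CommRingCat.of k))
  refine Cartier57.isReduced_of_closedPoints fun x hx => ?_
  rcases h x hx with ⟨U, hxU, hU⟩ | hn
  · have := AlgGrp79.isReduced_of_smooth (U.ι ≫ (X ↘ Spec (CommRingCat.of k)))
    have : IsIso (U.ι.stalkMap ⟨x, hxU⟩) :=
      (IsOpenImmersion.iff_isIso_stalkMap.mp inferInstance).2 _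
    exact isReduced_of_injective (U.ι.stalkMap ⟨x, hxU⟩).hom
      (ConcreteCategory.bijective_of_isIso (U.ι.stalkMap ⟨x, hxU⟩)).1
  · exact isReduced_stalk_of_isNode k X x hn

end Groth.Agent.Curves2
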