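import Groth.Agent.Ega11.NodeChart
import Groth.Agent.Crv77.DeltaEuler
import Groth.Agent.Crv77.HH
import Groth.Agent.Frob53.Semilinear
import Groth.Agent.Var76.HHPush
import Groth.Agent.Curves2.SmoothNormal
import Groth.Agent.Curves2.NodeReduced
import Groth.Agent.NormY57.Scheme
import Groth.Agent.LimTop61.SteinFinite
import Groth.Agent.CdP50.Proj

/-!
# Frobenius on `H¹` of a nodal curve and of its normalisation
-/

set_option autoImplicit false
set_option backward.isDefEq.respectTransparency.types false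
set_option maxSynthPendingDepth 6
universe u

open CategoryTheory CategoryTheory.Limits AlgebraicGeometry TopologicalSpace Opposite
open scoped nonZeroDivisors
open Groth.Agent.Coh69 Groth.Agent.CechComp71

noncomputable section

namespace Groth.Agent.Curves2.FrobNormal

/-- A `p`-th root in the fraction field of a node of an element of the node lies in the node. -/
theorem dvd_of_pow_eq_branches {A : Type u} [CommRing A] [IsLocalRing A] {K : Type u} [Field K]
    (b : Ega11.NodeBranches.Branches A K) (p : ℕ) [Fact p.Prime] [CharP K p] {r c a : A}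
    (hc : c ∈ A⁰) (h : r ^ p = c ^ p * a) : c ∣ r := by
  have hp : p ≠ 0 := (Fact.out (p := p.Prime)).ne_zero
  have hi : ∀ i, ∃ w : PowerSeries K, b.φ i r = b.φ i c * w ∧ w ^ p = b.φ i a := fun i => by
    have h1 : b.φ i r ^ p = b.φ i c ^ p * b.φ i a := by rw [← map_pow, h, map_mul, map_pow]
    obtain ⟨w, hw⟩ := (IsIntegrallyClosed.pow_dvd_pow_iff hp).1 ⟨_, h1⟩
    refine ⟨w, hw, mul_left_cancel₀ (pow_ne_zero p (b.ne_zero c hc i)) ?_⟩
    rw [← mul_pow, ← hw, h1]
  choose w hw hwp using hi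
  refine b.dvd r c w hw (frobenius_inj K p ?_)
  show PowerSeries.constantCoeff (w 0) ^ p = PowerSeries.constantCoeff (w 1) ^ p
  rw [← map_pow, ← map_pow, hwp, hwp, b.const a]

/-- A `p`-th root in the fraction field of a normal domain of an element of it lies in it. -/
theorem dvd_of_pow_eq_normal {A : Type u} [CommRing A] [IsDomain A] [IsIntegrallyClosed A] (p : ℕ)
    [Fact p.Prime] {r c a : A} (h : r ^ p = c ^ p * a) : c ∣ r :=
  (IsIntegrallyClosed.pow_dvd_pow_iff (Fact.out (p := p.Prime)).ne_zero).1 ⟨a, h⟩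

variable {k : Type u} [Field k] [IsAlgClosed k] (p : ℕ) [Fact p.Prime] [CharP k p]
  {C C' : Scheme.{u}} [C.Over (Spec (CommRingCat.of k))] (π : C' ⟶ C)

omit [IsAlgClosed k] [Fact p.Prime] [CharP k p] in
theorem seminormal_aux [IsLocallyNoetherian C] [AlgebraicGeometry.IsReduced C] [AlgebraicGeometry.IsReduced C']
    (U : C.Opens) (hU : Dense (U : Set C)) (hU' : Dense ((π ⁻¹ᵁ U : C'.Opens) : Set C'))
    (hπU : IsIso (π ∣_ U)) {x : C} (q : ℕ)
    (hA : ∀ r c a : C.presheaf.stalk x, c ∈ (C.presheaf.stalk x)⁰ → r ^ q = c ^ q * a → c ∣ r)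
    {V : C.Opens} (hxV : x ∈ V) (t : Γ(C', π ⁻¹ᵁ V)) (a : Γ(C, V)) (hta : π.app V a = t ^ q) :
    ∃ (V' : C.Opens) (h : V' ≤ V) (d : Γ(C, V')), x ∈ V' ∧
      π.app V' d = C'.presheaf.map (homOfLE (π.preimage_mono h)).op t := by
  obtain ⟨_, ⟨W, hW, rfl⟩, hxW, hWV'⟩ := C.isBasis_affineOpens.exists_subset_of_mem_open hxV V.2
  change C.Opens at W
  have hWV : W ≤ V := hWV'
  have : IsNoetherianRing Γ(C, W) := IsLocallyNoetherian.component_noetherian ⟨W, hW⟩
  obtain ⟨g, hgR, hgU, hgd⟩ := Crv77.exists_dense_basicOpen_le (hW.fromSpec ⁻¹' (U : Set C))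
    (U.2.preimage hW.fromSpec.continuous) (hU.preimage hW.fromSpec.isOpenEmbedding.isOpenMap)
  let D := C.basicOpen g
  have hDU : D ≤ U := by
    intro z hz
    obtain ⟨q, rfl⟩ : z ∈ Set.range hW.fromSpec := by rw [hW.range_fromSpec]; exact C.basicOpen_le g hz
    refine hgU ?_
    show q ∈ PrimeSpectrum.basicOpen g
    rw [← hW.fromSpec_preimage_basicOpen g]
    exact hz
  have hD : ∀ O : C.Opens, O ≤ W → (O : Set C).Nonempty → ((O : Set C) ∩ D).Nonempty := by
    rintro O hO ⟨z, hz⟩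
    obtain ⟨q, hq⟩ : z ∈ Set.range hW.fromSpec := by rw [hW.range_fromSpec]; exact hO hz
    obtain ⟨q', hq'O, hq'g⟩ := hgd.inter_open_nonempty _ (O.2.preimage hW.fromSpec.continuous)
      ⟨q, show hW.fromSpec q ∈ O from hq.symm ▸ hz⟩
    refine ⟨hW.fromSpec q', hq'O, ?_⟩
    show q' ∈ hW.fromSpec ⁻¹ᵁ C.basicOpen g
    rw [hW.fromSpec_preimage_basicOpen g]
    exact hq'g
  -- restrictions commute with `π`
  have nat : ∀ {O O' : C.Opens} (h : O' ≤ O) (s : Γ(C, O)),
      π.app O' ((C.presheaf.map (homOfLE h).op).hom s) =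
        (C'.presheaf.map (homOfLE (π.preimage_mono h)).op).hom (π.app O s) := fun h s =>
    congr($(π.naturality (homOfLE h).op) s)
  let t₀ : Γ(C', π ⁻¹ᵁ W) := (C'.presheaf.map (homOfLE (π.preimage_mono hWV)).op).hom t
  let a₀ : Γ(C, W) := (C.presheaf.map (homOfLE hWV).op).hom a
  have hta₀ : π.app W a₀ = t₀ ^ q := by
    simp only [a₀, t₀]; rw [nat, hta, map_pow]
  let resD := (C'.presheaf.map (homOfLE (π.preimage_mono (C.basicOpen_le g))).op).hom
  have hzero : ∀ s : Γ(C', π ⁻¹ᵁ W), resD s = 0 → s = 0 :=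
    Crv77.eq_zero_of_res _ fun O hO hne => Crv77.exists_inter_preimage π U hπU hU' hD O hO hne
  obtain ⟨s, hs⟩ := (Crv77.bijective_app_of_isIso_restrict π U hπU hDU).2 (resD t₀)
  have := hW.isLocalization_basicOpen g
  obtain ⟨n, r, hr⟩ := IsLocalization.Away.surj g s
  have hrt : π.app W r = π.app W (g ^ n) * t₀ := by
    refine sub_eq_zero.1 (hzero _ ?_)
    rw [map_sub, map_mul, sub_eq_zero, ← hs, ← nat (C.basicOpen_le g), ← nat (C.basicOpen_le g), ← map_mul]
    exact congrArg _ (hr.symm.trans ((mul_comm _ _).trans (congrArg (· * s) (map_pow _ g n).symm)))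
  have hpow : r ^ q = (g ^ n) ^ q * a₀ := Crv77.injective_app_of_dense π U hU hπU W (by
    show π.app W (r ^ q) = π.app W ((g ^ n) ^ q * a₀)
    rw [map_pow, map_mul, hrt, mul_pow, hta₀, map_pow (π.app W).hom (g ^ n) q])
  let A := C.presheaf.stalk x
  letI := Div89.stalkAlg W x hxW
  have hprime := Div89.primeAt_isPrime ⟨W, hW⟩ x hxW
  have : IsLocalization.AtPrime A (Div89.primeAt ⟨W, hW⟩ x hxW) :=
    Div89.isLocalization_stalk ⟨W, hW⟩ x hxW
  let γ := (C.presheaf.germ W x hxW).hom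
  have hgA : γ (g ^ n) ∈ A⁰ := by
    exact IsLocalization.map_nonZeroDivisors_le
      (Div89.primeAt ⟨W, hW⟩ x hxW).primeCompl A ⟨g ^ n, pow_mem hgR n, rfl⟩
  obtain ⟨δ, hδ⟩ := hA (γ r) (γ (g ^ n)) (γ a₀) hgA (by rw [← map_pow, hpow, map_mul, map_pow])
  obtain ⟨W₁, hxW₁, d₁, rfl⟩ := TopCat.Presheaf.exists_germ_eq C.presheaf δ
  have hxI : x ∈ W ⊓ W₁ := ⟨hxW, hxW₁⟩
  let ρ := (C.presheaf.map (homOfLE (inf_le_left : W ⊓ W₁ ≤ W)).op).hom
  let ρ₁ := (C.presheaf.map (homOfLE (inf_le_right : W ⊓ W₁ ≤ W₁)).op).hom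
  obtain ⟨V', hxV', i₁, i₂, he⟩ := TopCat.Presheaf.germ_eq C.presheaf x hxI hxI (ρ r) (ρ (g ^ n) * ρ₁ d₁) (by
    rw [map_mul]
    refine (C.presheaf.germ_res_apply _ _ _ _).trans (hδ.trans ?_)
    exact congrArg₂ (· * ·) (C.presheaf.germ_res_apply _ _ _ _).symm (C.presheaf.germ_res_apply _ _ _ _).symm)
  have hV'W : V' ≤ W := i₁.le.trans inf_le_left
  let d : Γ(C, V') := (C.presheaf.map i₁.op).hom (ρ₁ d₁)
  refine ⟨V', hV'W.trans hWV, d, hxV', ?_⟩
  let τ := (C'.presheaf.map (homOfLE (π.preimage_mono hV'W)).op).hom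
  have hres : ∀ s : Γ(C, W), (C.presheaf.map i₁.op).hom (ρ s) = (C.presheaf.map (homOfLE hV'W).op).hom s :=
    fun s => by
      show ((C.presheaf.map _) ≫ (C.presheaf.map _)).hom s = _
      rw [← Functor.map_comp]; rfl
  have he' : π.app V' ((C.presheaf.map (homOfLE hV'W).op).hom r) =
      π.app V' ((C.presheaf.map (homOfLE hV'W).op).hom (g ^ n) * d) := by
    refine congrArg _ ?_
    rw [← hres, ← hres, ← map_mul]
    exact he.trans (by rw [Subsingleton.elim i₂ i₁])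
  rw [nat, map_mul, nat, hrt, map_mul] at he'
  have ht : (C'.presheaf.map (homOfLE (π.preimage_mono (hV'W.trans hWV))).op).hom t = τ t₀ := by
    show _ = ((C'.presheaf.map _) ≫ (C'.presheaf.map _)).hom t
    rw [← Functor.map_comp]; rfl
  refine Eq.trans ?_ ht.symm
  -- cancel `g ^ n` on the dense open
  refine sub_eq_zero.1 (Crv77.eq_zero_of_res (π.preimage_mono (inf_le_left : V' ⊓ D ≤ V'))
    (fun O hO hne => Crv77.exists_inter_preimage π U hπU hU' (fun O' hO' hne' => ?_) O hO hne) _ ?_)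
  · obtain ⟨z, hzO, hzD⟩ := hD O' (hO'.trans hV'W) hne'
    exact ⟨z, hzO, hO' hzO, hzD⟩
  · let σ := (C'.presheaf.map (homOfLE (π.preimage_mono (inf_le_left : V' ⊓ D ≤ V'))).op).hom
    have hu : IsUnit (σ (τ (π.app W (g ^ n)))) := by
      rw [← nat hV'W, ← nat (inf_le_left : V' ⊓ D ≤ V')]
      refine IsUnit.map _ ?_
      show IsUnit (((C.presheaf.map _) ≫ (C.presheaf.map _)).hom (g ^ n))
      rw [← Functor.map_comp, map_pow]
      refine IsUnit.pow n ?_
      have := (RingedSpace.isUnit_res_basicOpen C.toRingedSpace g).map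
        (C.presheaf.map (homOfLE (inf_le_right : V' ⊓ D ≤ D)).op).hom
      convert this using 1
      show _ = ((C.presheaf.map _) ≫ (C.presheaf.map _)).hom g
      rw [← Functor.map_comp]; rfl
    have h2 := congrArg σ he'
    rw [map_mul, map_mul] at h2
    rw [map_sub, sub_eq_zero]
    exact (hu.mul_left_cancel h2).symm

section Cohomology

omit [CharP k p] [IsAlgClosed k] [Fact p.Prime] in
/-- A semilinear endomorphism of sheaves gives semilinear maps in cohomology. -/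
theorem hmap_smul_of {X : Scheme.{u}} [X.Over (Spec (CommRingCat.of k))] {M : X.Modules}
    (σ : Coh.toAb M ⟶ Coh.toAb M)
    (hσ : ∀ r, Coh.smulAb M r ≫ σ = σ ≫ Coh.smulAb M (r ^ p)) (i : ℕ) (a : k) (x : Coh.HH X M i) :
    Sheaf.H.map σ i (a • x) =
      (a ^ p • (show Coh.HH X M i from Sheaf.H.map σ i x) : Coh.HH X M i) := by
  rw [Crv77.smul_eq_map, Crv77.smul_eq_map, map_pow, ← Sheaf.H.map_comp_apply,
    ← Sheaf.H.map_comp_apply, hσ]

omit [CharP k p] [IsAlgClosed k] [Fact p.Prime] in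
theorem injective_h0_of_mono {X : Scheme.{u}}
    {F G : Sheaf (Opens.grothendieckTopology X) AddCommGrpCat.{u}} (σ : F ⟶ G) [Mono σ] :
    Function.Injective (Sheaf.H.map σ 0) := by
  let S : ShortComplex (Sheaf (Opens.grothendieckTopology X) AddCommGrpCat.{u}) :=
    ShortComplex.mk σ (cokernel.π σ) (cokernel.condition σ)
  have hS : S.ShortExact := { exact := S.exact_of_g_is_cokernel (cokernelIsCokernel σ) }
  exact Crv77.ginj.{u} (Crv77.srcObj X) hS

/-- An injective semilinear endomorphism is bijective on `H⁰`. -/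
theorem bijective_h0 {X : Scheme.{u}} [X.Over (Spec (CommRingCat.of k))] {M : X.Modules}
    [Module.Finite k (Coh.HH X M 0)] (σ : Coh.toAb M ⟶ Coh.toAb M) [Mono σ]
    (hσ : ∀ r, Coh.smulAb M r ≫ σ = σ ≫ Coh.smulAb M (r ^ p)) :
    Function.Bijective (Sheaf.H.map σ 0) :=
  Frob53.bijective_of_injective_semilinear p k (Coh.HH X M 0) (Sheaf.H.map σ 0)
    (hmap_smul_of p σ hσ 0) (injective_h0_of_mono σ)

omit [CharP k p] [IsAlgClosed k] [Fact p.Prime] in
theorem bijective_iff_of_surjective {Z A B : Type*} [AddCommGroup Z] [AddCommGroup A] [AddCommGroup B]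
    (tA : Z →+ A) (tB : Z →+ B) (hA : Function.Surjective tA) (hB : Function.Surjective tB)
    (hker : ∀ z, tA z = 0 ↔ tB z = 0) (σ : Z →+ Z) (a : A →+ A) (b : B →+ B)
    (ha : ∀ z, a (tA z) = tA (σ z)) (hb : ∀ z, b (tB z) = tB (σ z)) :
    Function.Bijective a ↔ Function.Bijective b := by
  refine ⟨?_, ?_⟩
  · intro hbij
    refine ⟨(injective_iff_map_eq_zero b).2 fun y hy => ?_, fun y => ?_⟩
    · obtain ⟨z, rfl⟩ := hB y
      rw [hb] at hy
      exact (hker z).1 ((injective_iff_map_eq_zero a).1 hbij.1 _ (by rw [ha]; exact (hker _).2 hy))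
    · obtain ⟨z, rfl⟩ := hB y
      obtain ⟨x, hx⟩ := hbij.2 (tA z)
      obtain ⟨w, rfl⟩ := hA x
      rw [ha, ← sub_eq_zero, ← map_sub, hker, map_sub, sub_eq_zero] at hx
      exact ⟨tB w, (hb w).trans hx⟩
  · intro hbij
    refine ⟨(injective_iff_map_eq_zero a).2 fun y hy => ?_, fun y => ?_⟩
    · obtain ⟨z, rfl⟩ := hA y
      rw [ha] at hy
      exact (hker z).2 ((injective_iff_map_eq_zero b).1 hbij.1 _ (by rw [hb]; exact (hker _).1 hy))
    · obtain ⟨z, rfl⟩ := hA y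
      obtain ⟨x, hx⟩ := hbij.2 (tB z)
      obtain ⟨w, rfl⟩ := hB x
      rw [hb, ← sub_eq_zero, ← map_sub, ← hker, map_sub, sub_eq_zero] at hx
      exact ⟨tA w, (ha w).trans hx⟩

end Cohomology

section Chase

omit [CharP k p] [IsAlgClosed k] [Fact p.Prime] in
/-- Five lemma for an endomorphism of a short exact sequence. -/
theorem bijective_h1_iff {X : Scheme.{u}}
    {S : ShortComplex (Sheaf (Opens.grothendieckTopology X) AddCommGrpCat.{u})} (hS : S.ShortExact)
    (Φ : S ⟶ S) (h1 : Subsingleton (Sheaf.H S.X₃ 1))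
    (hb : Function.Surjective (Sheaf.H.map Φ.τ₂ 0)) (hc : Function.Bijective (Sheaf.H.map Φ.τ₃ 0)) :
    Function.Bijective (Sheaf.H.map Φ.τ₁ 1) ↔ Function.Bijective (Sheaf.H.map Φ.τ₂ 1) := by
  let δ := Crv77.gδ.{u} (Crv77.srcObj X) hS 0
  let f := Sheaf.H.map S.f 1
  let g := Sheaf.H.map S.g 0
  let b := Sheaf.H.map Φ.τ₂ 0
  let c := Sheaf.H.map Φ.τ₃ 0
  let d := Sheaf.H.map Φ.τ₁ 1
  let e := Sheaf.H.map Φ.τ₂ 1
  have hf : ∀ x, e (f x) = f (d x) := fun x => by
    show Sheaf.H.map Φ.τ₂ 1 (Sheaf.H.map S.f 1 x) = Sheaf.H.map S.f 1 (Sheaf.H.map Φ.τ₁ 1 x)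
    rw [← Sheaf.H.map_comp_apply, ← Sheaf.H.map_comp_apply, Φ.comm₁₂]
  have hg : ∀ m, c (g m) = g (b m) := fun m => by
    show Sheaf.H.map Φ.τ₃ 0 (Sheaf.H.map S.g 0 m) = Sheaf.H.map S.g 0 (Sheaf.H.map Φ.τ₂ 0 m)
    rw [← Sheaf.H.map_comp_apply, ← Sheaf.H.map_comp_apply, Φ.comm₂₃]
  have hδ : ∀ q, δ (c q) = d (δ q) := fun q => Crv77.ext_extClass_natural.{u} hS Φ q
  have hδg : ∀ m, δ (g m) = 0 := fun m => (Crv77.gexact₃.{u} (Crv77.srcObj X) hS 0 _).2 ⟨m, rfl⟩
  have hker : ∀ x, f x = 0 → ∃ q, δ q = x := fun x hx =>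
    (Crv77.gexact₁.{u} (Crv77.srcObj X) hS 0 x).1 hx
  have hfδ : ∀ q, f (δ q) = 0 := fun q => (Crv77.gexact₁.{u} (Crv77.srcObj X) hS 0 _).2 ⟨q, rfl⟩
  have hsurj : Function.Surjective f := fun z =>
    (Crv77.gexact₂.{u} (Crv77.srcObj X) hS 1 z).1 (h1.elim _ _)
  refine ⟨fun hd => ?_, fun he => ?_⟩
  · refine ⟨(injective_iff_map_eq_zero e).2 fun z hz => ?_, fun z => ?_⟩
    · obtain ⟨x, rfl⟩ := hsurj z
      rw [hf] at hz
      obtain ⟨q, hq⟩ := hker _ hz
      obtain ⟨q', rfl⟩ := hc.2 q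
      have := hd.1 ((hδ q').symm.trans hq)
      rw [← this, hfδ]
    · obtain ⟨y, rfl⟩ := hsurj z
      obtain ⟨x, rfl⟩ := hd.2 y
      exact ⟨f x, hf x⟩
  · refine ⟨(injective_iff_map_eq_zero d).2 fun x hx => ?_, fun y => ?_⟩
    · have hfx : f x = 0 := he.1 (by rw [hf, show d x = 0 from hx, map_zero, map_zero])
      obtain ⟨q, rfl⟩ := hker x hfx
      have : δ (c q) = 0 := (hδ q).trans hx
      obtain ⟨m, hm⟩ := (Crv77.gexact₃.{u} (Crv77.srcObj X) hS 0 _).1 this
      obtain ⟨m', rfl⟩ := hb m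
      rw [← hc.1 (show c (g m') = c q from (hg m').trans hm)]
      exact hδg m'
    · obtain ⟨z, hz⟩ := he.2 (f y)
      obtain ⟨x, rfl⟩ := hsurj z
      obtain ⟨q, hq⟩ := hker (d x - y) (by rw [map_sub, ← hf, sub_eq_zero]; exact hz)
      obtain ⟨q', rfl⟩ := hc.2 q
      refine ⟨x - δ q', ?_⟩
      show d (x - δ q') = y
      rw [map_sub, ← hδ, hq]
      abel

end Chase

/-- The `p`-th power on the direct image of the structure sheaf. -/
def pushPow (φ' : Coh.toAb (Coh.structureModule C') ⟶ Coh.toAb (Coh.structureModule C')) :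
    Coh.toAb ((Coh.push π).obj (Coh.structureModule C')) ⟶
      Coh.toAb ((Coh.push π).obj (Coh.structureModule C')) :=
  ⟨{ app := fun W => φ'.hom.app (op (π ⁻¹ᵁ W.unop))
     naturality := fun _ _ i => φ'.hom.naturality (homOfLE (π.preimage_mono i.unop.le)).op }⟩

omit [IsAlgClosed k] [Fact p.Prime] [CharP k p] in
/-- Frobenius on the first cohomology of the source and of the direct image. -/
theorem bijective_pushPow_iff [IsProper (C ↘ Spec (CommRingCat.of k))] [IsFinite π]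
    (φ' : Coh.toAb (Coh.structureModule C') ⟶ Coh.toAb (Coh.structureModule C')) :
    Function.Bijective (Sheaf.H.map (pushPow π φ') 1) ↔ Function.Bijective (Sheaf.H.map φ' 1) := by
  let M := Coh.structureModule C'
  have : IsLocallyNoetherian C := LocallyOfFiniteType.isLocallyNoetherian (C ↘ Spec (CommRingCat.of k))
  have : IsLocallyNoetherian C' := LocallyOfFiniteType.isLocallyNoetherian π
  have : M.IsQuasicoherent := (Crv77.isCoh_structureModule (X := C')).1
  have : ((Coh.push π).obj M).IsQuasicoherent :=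
    (QC70.isCoh_pushforward_of_isFinite π _ Crv77.isCoh_structureModule).1
  obtain ⟨ι, _, U, hU, hU'⟩ := FF71.exists_cover (A := k) (X := C)
  have hV : ⨆ i, Var76.preCover π U i = ⊤ := by
    rw [← Scheme.Hom.preimage_iSup, hU]; rfl
  have hacS : AcyclicOn U (Coh.toAb ((Coh.push π).obj M)) := acyclicOn_of_isAffineOpen _ _ hU'
  have hacX : AcyclicOn (Var76.preCover π U) (Coh.toAb M) := acyclicOn_of_isAffineOpen _ _ fun n i => by
    rw [Var76.cOpen_preCover]
    exact (hU' n i).preimage π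
  let tA : MZ U ((Coh.push π).obj M) 1 →+ Coh.HH C ((Coh.push π).obj M) 1 := toHH U hU _ 1
  let tB : MZ U ((Coh.push π).obj M) 1 →+ Coh.HH C' M 1 :=
    (toHH (Var76.preCover π U) hV M 1).comp (Var76.pushZ π U M 1).toAddMonoidHom
  refine bijective_iff_of_surjective tA tB (toHH_surjective hU hacS 1)
    ((toHH_surjective hV hacX 1).comp (Var76.pushZ π U M 1).surjective) (fun z => ?_)
    (zmap (pushPow π φ') 1) (Sheaf.H.map (pushPow π φ') 1) (Sheaf.H.map φ' 1)
    (fun z => (toHH_natural U hU (pushPow π φ') 1 z).symm) (fun z => ?_)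
  · show toHH U hU _ 1 z = 0 ↔ toHH (Var76.preCover π U) hV M 1 (Var76.pushZ π U M 1 z) = 0
    rw [toHH_eq_zero_iff hV hacX, toHH_eq_zero_iff hU hacS]
    constructor
    · rintro ⟨r, hr⟩
      exact ⟨Var76.pushCoch π U M 0 r, (Var76.pushCoch_cd π U M 0 r).symm.trans (congrArg _ hr)⟩
    · rintro ⟨r, hr⟩
      refine ⟨(Var76.pushCoch π U M 0).symm r, (Var76.pushCoch π U M 1).injective ?_⟩
      exact (Var76.pushCoch_cd π U M 0 _).trans
        ((congrArg _ ((Var76.pushCoch π U M 0).apply_symm_apply r)).trans hr)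
  · show Sheaf.H.map φ' 1 (toHH (Var76.preCover π U) hV M 1 (Var76.pushZ π U M 1 z)) = _
    rw [← toHH_natural]
    refine congrArg _ (Subtype.ext (funext fun i => ?_))
    exact ((ConcreteCategory.congr_hom (φ'.hom.naturality (homOfLE (Var76.cOpen_preCover π U i).le).op) (z.1 i)))

include p in
/-- **A nodal curve is ordinary iff its normalisation is.** -/
theorem frobenius_bijective_iff [AlgebraicGeometry.IsReduced C] [IsProper (C ↘ Spec (CommRingCat.of k))]
    (hdim : ∀ Z ∈ irreducibleComponents (C : Type u), topologicalKrullDim Z = 1)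
    (hnod : Curv2.AtWorstNodal k C) [IsFinite π] (hC' : Pi1.IsNormalScheme C')
    (U : C.Opens) (hU : Dense (U : Set C)) (hU' : Dense ((π ⁻¹ᵁ U : C'.Opens) : Set C')) (hπU : IsIso (π ∣_ U))
    (φ : Coh.toAb (Coh.structureModule C) ⟶ Coh.toAb (Coh.structureModule C))
    (hφ : ∀ (V : C.Opens) (s : Γ(C, V)), (φ.hom.app (op V)).hom s = s ^ p)
    (φ' : Coh.toAb (Coh.structureModule C') ⟶ Coh.toAb (Coh.structureModule C'))
    (hφ' : ∀ (V : C'.Opens) (s : Γ(C', V)), (φ'.hom.app (op V)).hom s = s ^ p) :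
    Function.Bijective (Sheaf.H.map φ 1) ↔ Function.Bijective (Sheaf.H.map φ' 1) := by
  refine Iff.trans ?_ (bijective_pushPow_iff π φ' (k := k))
  letI : C'.Over (Spec (CommRingCat.of k)) := ⟨π ≫ (C ↘ Spec (CommRingCat.of k))⟩
  have : AlgebraicGeometry.IsReduced C' := NormY57.isReduced_of_isNormalScheme hC'
  have : IsLocallyNoetherian C := LocallyOfFiniteType.isLocallyNoetherian (C ↘ Spec (CommRingCat.of k))
  have : CompactSpace C := QuasiCompact.compactSpace_of_compactSpace (C ↘ Spec (CommRingCat.of k))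
  have : IsNoetherian C := ⟨⟩
  have hdim1 : topologicalKrullDim C ≤ 1 := by
    rw [TopDim50.dim_eq_iSup_irreducibleComponents]
    exact iSup₂_le fun Z hZ => (hdim Z hZ).le
  have hcc := Crv77.curveCoh_of_proper k C hdim1
  let P := (Coh.push π).obj (Coh.structureModule C')
  let f₀ : Coh.structureModule C ⟶ P := ClSub.unitToPush π
  have hP : Coh.IsCoh P := QC70.isCoh_pushforward_of_isFinite π _ Crv77.isCoh_structureModule
  have hmono : Mono f₀ := QC70.mono_of_app_injective f₀ fun W => Crv77.injective_app_of_dense π U hU hπU W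
  let S : ShortComplex C.Modules := ShortComplex.mk f₀ (cokernel.π f₀) (cokernel.condition f₀)
  have hS : S.ShortExact := { exact := ShortComplex.exact_of_g_is_cokernel _ (cokernelIsCokernel _) }
  have hQ : Coh.IsCoh S.X₃ := Crv77.isCoh_cokernel f₀ Crv77.isCoh_structureModule hP
  have hA := Crv77.abComplex_shortExact hS
  obtain ⟨hfin, hcl⟩ := Crv77.finite_compl_dense hdim1 U.2 hU
  have hsupp : Crv77.SuppIn S.X₃ ((U : Set C)ᶜ) := Crv77.suppIn_cokernel f₀ fun x hx =>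
    Crv77.surjective_stalkMapM_unitToPush π U inferInstance x (not_not.1 hx)
  -- the endomorphism of the short exact sequence
  let ψ := pushPow π φ'
  have hψ : ∀ (W : C.Opens) (s : Γ(C', π ⁻¹ᵁ W)), (ψ.hom.app (op W)).hom s = s ^ p :=
    fun W s => hφ' _ s
  have h12 : φ ≫ (Crv77.abComplex S).f = (Crv77.abComplex S).f ≫ ψ := by
    ext W m
    show π.app W.unop ((φ.hom.app W).hom (show Γ(C, W.unop) from m)) =
      (ψ.hom.app W).hom (π.app W.unop (show Γ(C, W.unop) from m))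
    exact ((congrArg _ (hφ W.unop m)).trans (map_pow _ _ _)).trans (hψ W.unop _).symm
  have := hA.epi_g
  obtain ⟨χ, hχ⟩ : ∃ χ : Coh.toAb S.X₃ ⟶ Coh.toAb S.X₃, (Crv77.abComplex S).g ≫ χ = ψ ≫ (Crv77.abComplex S).g := by
    obtain ⟨χ, hχ⟩ := CokernelCofork.IsColimit.desc' hA.gIsCokernel (ψ ≫ (Crv77.abComplex S).g) (by
      rw [← Category.assoc, ← h12, Category.assoc, (Crv77.abComplex S).zero, comp_zero])
    exact ⟨χ, hχ⟩
  let Φ : Crv77.abComplex S ⟶ Crv77.abComplex S :=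
    { τ₁ := φ, τ₂ := ψ, τ₃ := χ, comm₁₂ := h12, comm₂₃ := hχ.symm }
  -- semilinearity
  have sψ : ∀ r, Coh.smulAb P r ≫ ψ = ψ ≫ Coh.smulAb P (r ^ p) := fun r => by
    ext W m
    change (ψ.hom.app (op W.unop)).hom
        ((π.app W.unop (Coh.resTop C W r) * (show Γ(C', π ⁻¹ᵁ W.unop) from m) : Γ(C', π ⁻¹ᵁ W.unop))) =
      π.app W.unop (Coh.resTop C W (r ^ p)) *
        (show Γ(C', π ⁻¹ᵁ W.unop) from (ψ.hom.app (op W.unop)).hom (show Γ(C', π ⁻¹ᵁ W.unop) from m))
    refine (hψ _ _).trans ?_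
    rw [mul_pow, map_pow]
    exact congrArg₂ (fun a b : Γ(C', π ⁻¹ᵁ W.unop) => a * b) (map_pow (π.app W.unop).hom _ p).symm (hψ _ _).symm
  have sχ : ∀ r, Coh.smulAb S.X₃ r ≫ χ = χ ≫ Coh.smulAb S.X₃ (r ^ p) := fun r => by
    rw [← cancel_epi (Crv77.abComplex S).g]
    have hn : ∀ r, Coh.smulAb S.X₂ r ≫ (Crv77.abComplex S).g = (Crv77.abComplex S).g ≫ Coh.smulAb S.X₃ r :=
      fun r => Crv77.smulAb_natural S.g r
    rw [← reassoc_of% (hn r), hχ, ← Category.assoc, sψ, Category.assoc, hn, ← Category.assoc, ← hχ,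
      Category.assoc]
  -- injectivity
  have hroot : ∀ {x : C}, IsClosed ({x} : Set C) → ∀ r c a : C.presheaf.stalk x,
      c ∈ (C.presheaf.stalk x)⁰ → r ^ p = c ^ p * a → c ∣ r := by
    intro x hx r c a hc h
    rcases hnod x hx with ⟨W, hxW, hW⟩ | hn
    · obtain ⟨hd, hi⟩ := isIntegrallyClosed_stalk_of_smooth (W.ι ≫ C ↘ Spec (CommRingCat.of k)) ⟨x, hxW⟩
      let e : C.presheaf.stalk x ≃+* W.toScheme.presheaf.stalk ⟨x, hxW⟩ :=
        (W.stalkIso ⟨x, hxW⟩).commRingCatIsoToRingEquiv.symm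
      have : IsDomain (C.presheaf.stalk x) := MulEquiv.isDomain _ e.toMulEquiv
      have : IsIntegrallyClosed (C.presheaf.stalk x) := IsIntegrallyClosed.of_equiv e.symm
      exact dvd_of_pow_eq_normal p h
    · obtain ⟨b⟩ := Ega11.NodeChart.nonempty_branches k x hn
      exact dvd_of_pow_eq_branches b p hc h
  have mono_of : ∀ {N : C.Modules} (σ : Coh.toAb N ⟶ Coh.toAb N),
      (∀ (W : C.Opens) (s : Γ(N, W)), (σ.hom.app (op W)).hom s = 0 → s = 0) → Mono σ := by
    intro N σ h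
    have (W : (Opens C)ᵒᵖ) : Mono (σ.hom.app W) :=
      (AddCommGrpCat.mono_iff_injective _).2 ((injective_iff_map_eq_zero (σ.hom.app W).hom).2 (h W.unop))
    have : Mono σ.hom := NatTrans.mono_of_mono_app _
    exact (sheafToPresheaf _ _).mono_of_mono_map this
  have mψ : Mono ψ := mono_of (N := P) ψ fun W s h => by
    have h' : (show Γ(C', π ⁻¹ᵁ W) from s) ^ p = 0 := (hψ W s).symm.trans h
    exact IsReduced.eq_zero (R := Γ(C', π ⁻¹ᵁ W)) _ ⟨p, h'⟩
  have mχ : Mono χ := mono_of (N := S.X₃) χ fun W q hq => by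
    refine QC70.section_ext S.X₃ q 0 fun x hx => ?_
    obtain ⟨W₁, hW₁, t, hx₁, ht⟩ := QC70.exists_local_lift (cokernel.π f₀) q hx
    by_cases hxU : x ∈ U
    · obtain ⟨W₂, hW₂, hxW₂, h0⟩ := QC70.germM_eq_zero (M := S.X₃) (s := q) (hx := hx)
        ((hsupp x (fun h => h hxU)).elim _ _)
      exact ⟨W₂, hW₂, hxW₂, h0.trans (QC70.res_zero _).symm⟩
    · have hgψ : S.g.app W₁ ((ψ.hom.app (op W₁)).hom t) = 0 := by
        have e1 := ConcreteCategory.congr_hom (congr(($hχ).hom.app (op W₁))) t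
        refine e1.symm.trans ?_
        show (χ.hom.app (op W₁)).hom (S.g.app W₁ t) = 0
        rw [ht]
        refine (ConcreteCategory.congr_hom (χ.hom.naturality (homOfLE hW₁).op) q).trans ?_
        exact (congrArg _ hq).trans (map_zero (S.X₃.presheaf.map (homOfLE hW₁).op).hom)
      obtain ⟨a, ha⟩ := QC70.exists_app_eq_of_exact S hS.exact W₁ _ hgψ
      obtain ⟨V', hV', d, hxV', hd⟩ := seminormal_aux π U hU hU' hπU p
        (hroot (hcl x hxU)) hx₁ (show Γ(C', π ⁻¹ᵁ W₁) from t) (show Γ(C, W₁) from a) (ha.trans (hψ W₁ t))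
      refine ⟨V', hV'.trans hW₁, hxV', ?_⟩
      rw [QC70.res_zero, ← QC70.res_res hW₁ hV', ← ht, ← QC70.app_res]
      have hd' : QC70.res P hV' t = f₀.app V' d := hd.symm
      rw [hd', ← ConcreteCategory.comp_apply, ← Scheme.Modules.Hom.comp_app, cokernel.condition,
        Scheme.Modules.Hom.zero_app]
      rfl
  have : Module.Finite k (Coh.HH C P 0) := hcc.finite _ hP 0
  have : Module.Finite k (Coh.HH C S.X₃ 0) := hcc.finite _ hQ 0
  exact bijective_h1_iff hA Φ (hsupp.subsingleton_HH hfin hcl 0)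
    (bijective_h0 p (k := k) (M := P) ψ sψ).2 (bijective_h0 p (k := k) (M := S.X₃) χ sχ)

end Groth.Agent.Curves2.FrobNormal
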