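import Groth.Prelude.Def_W4c1stackycurvesGalP1
import Mathlib.LinearAlgebra.Projectivization.Action
import Mathlib.LinearAlgebra.Projectivization.Independence
import Mathlib.LinearAlgebra.Matrix.ToLinearEquiv
import Mathlib.FieldTheory.Galois.Basic
import Mathlib.Data.Set.Card

/-! Strong 3-transitivity of `GL₂` on the line, with Galois descent. -/

namespace Groth.Agent.Curves2

open Matrix Projectivization W4c1stackycurves

universe u

variable {K : Type u} [Field K]

/-- coordinates of a vector in a basis given by two independent vectors -/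
theorem exists_coords {a b : Fin 2 → K} (h : LinearIndependent K ![a, b]) (c : Fin 2 → K) :
    ∃ s t : K, c = s • a + t • b := by
  have hs : Submodule.span K (Set.range ![a, b]) = ⊤ :=
    h.span_eq_top_of_card_eq_finrank (by simp)
  have hc : c ∈ Submodule.span K (Set.range ![a, b]) := hs ▸ trivial
  rw [Matrix.range_cons, Matrix.range_cons, Matrix.range_empty, Set.union_empty, Set.singleton_union,
    Submodule.mem_span_pair] at hc
  obtain ⟨s, t, h⟩ := hc
  exact ⟨s, t, h.symm⟩

theorem coords_ne_zero {a b c : Fin 2 → K} (hac : LinearIndependent K ![a, c])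
    (hbc : LinearIndependent K ![b, c]) {s t : K} (h : c = s • a + t • b) : s ≠ 0 ∧ t ≠ 0 := by
  rw [LinearIndependent.pair_iff] at hac hbc
  constructor
  · rintro rfl
    exact one_ne_zero (hbc (-t) 1 (by rw [h]; module)).2
  · rintro rfl
    exact one_ne_zero (hac (-s) 1 (by rw [h]; module)).2

theorem ext_of_indep {g h : Matrix (Fin 2) (Fin 2) K} {a b : Fin 2 → K}
    (hab : LinearIndependent K ![a, b]) (ha : g *ᵥ a = h *ᵥ a) (hb : g *ᵥ b = h *ᵥ b) : g = h := by
  refine Matrix.ext_of_mulVec_single fun i => ?_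
  obtain ⟨s, t, hc⟩ := exists_coords hab (Pi.single i 1)
  rw [hc, mulVec_add, mulVec_add, mulVec_smul, mulVec_smul, mulVec_smul, mulVec_smul, ha, hb]

theorem exists_gl_map {v w : Fin 3 → Fin 2 → K}
    (hv : ∀ i j, i ≠ j → LinearIndependent K ![v i, v j])
    (hw : ∀ i j, i ≠ j → LinearIndependent K ![w i, w j]) :
    ∃ g : Matrix (Fin 2) (Fin 2) K, g.det ≠ 0 ∧ ∀ i, ∃ c : K, c ≠ 0 ∧ g *ᵥ v i = c • w i := by
  obtain ⟨s, t, hv2⟩ := exists_coords (hv 0 1 (by decide)) (v 2)
  obtain ⟨s', t', hw2⟩ := exists_coords (hw 0 1 (by decide)) (w 2)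
  obtain ⟨hs, ht⟩ := coords_ne_zero (hv 0 2 (by decide)) (hv 1 2 (by decide)) hv2
  obtain ⟨hs', ht'⟩ := coords_ne_zero (hw 0 2 (by decide)) (hw 1 2 (by decide)) hw2
  let b := basisOfLinearIndependentOfCardEqFinrank (hv 0 1 (by decide)) (by simp)
  let L : (Fin 2 → K) →ₗ[K] Fin 2 → K := b.constr K ![(s' / s) • w 0, (t' / t) • w 1]
  have h0 : L (v 0) = (s' / s) • w 0 := by
    rw [show v 0 = b 0 by simp [b]]; exact b.constr_basis K _ 0
  have h1 : L (v 1) = (t' / t) • w 1 := by
    rw [show v 1 = b 1 by simp [b]]; exact b.constr_basis K _ 1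
  have hm : ∀ x, LinearMap.toMatrix' L *ᵥ x = L x := fun x => by
    rw [← Matrix.toLin'_apply, Matrix.toLin'_toMatrix']
  refine ⟨LinearMap.toMatrix' L, ?_, fun i => ?_⟩
  · intro hdet
    obtain ⟨x, hx, hx0⟩ := Matrix.exists_mulVec_eq_zero_iff.mpr hdet
    obtain ⟨p, q, rfl⟩ := exists_coords (hv 0 1 (by decide)) x
    rw [hm, map_add, map_smul, map_smul, h0, h1, smul_smul, smul_smul] at hx0
    obtain ⟨hp, hq⟩ := LinearIndependent.pair_iff.mp (hw 0 1 (by decide)) _ _ hx0
    simp [hs, ht, hs', ht'] at hp hq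
    simp [hp, hq] at hx
  · fin_cases i
    · exact ⟨s' / s, div_ne_zero hs' hs, by rw [hm]; exact h0⟩
    · exact ⟨t' / t, div_ne_zero ht' ht, by rw [hm]; exact h1⟩
    · refine ⟨1, one_ne_zero, ?_⟩
      show LinearMap.toMatrix' L *ᵥ v 2 = (1 : K) • w 2
      rw [hm, hv2, map_add, map_smul, map_smul, h0, h1, one_smul, hw2, smul_smul, smul_smul,
        mul_div_cancel₀ _ hs, mul_div_cancel₀ _ ht]

theorem eq_smul_of_map {v w : Fin 3 → Fin 2 → K}
    (hv : ∀ i j, i ≠ j → LinearIndependent K ![v i, v j])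
    (hw : ∀ i j, i ≠ j → LinearIndependent K ![w i, w j])
    {g h : Matrix (Fin 2) (Fin 2) K} (hg : ∀ i, ∃ c : K, c ≠ 0 ∧ g *ᵥ v i = c • w i)
    (hh : ∀ i, ∃ d : K, h *ᵥ v i = d • w i) : ∃ μ : K, h = μ • g := by
  choose c hc hgc using hg
  choose d hd using hh
  obtain ⟨s, t, hv2⟩ := exists_coords (hv 0 1 (by decide)) (v 2)
  obtain ⟨hs, ht⟩ := coords_ne_zero (hv 0 2 (by decide)) (hv 1 2 (by decide)) hv2
  have e1 := hgc 2; have e2 := hd 2
  rw [hv2, mulVec_add, mulVec_smul, mulVec_smul, hgc 0, hgc 1] at e1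
  rw [hv2, mulVec_add, mulVec_smul, mulVec_smul, hd 0, hd 1] at e2
  have e3 : (c 2 * (s * d 0) - d 2 * (s * c 0)) • w 0 + (c 2 * (t * d 1) - d 2 * (t * c 1)) • w 1 = 0 := by
    linear_combination (norm := module) c 2 • e2 - d 2 • e1
  obtain ⟨p, q⟩ := LinearIndependent.pair_iff.mp (hw 0 1 (by decide)) _ _ e3
  have p' : c 2 * d 0 = d 2 * c 0 := mul_left_cancel₀ hs (by linear_combination p)
  have q' : c 2 * d 1 = d 2 * c 1 := mul_left_cancel₀ ht (by linear_combination q)
  refine ⟨d 2 / c 2, ext_of_indep (hv 0 1 (by decide)) ?_ ?_⟩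
  · rw [hd 0, smul_mulVec, hgc 0, smul_smul]
    congr 1
    have := hc 2
    field_simp
    linear_combination p'
  · rw [hd 1, smul_mulVec, hgc 1, smul_smul]
    congr 1
    have := hc 2
    field_simp
    linear_combination q'

variable {k : Type u} [Field k] [Algebra k K]

theorem galP_mk (σ : K ≃ₐ[k] K) (v : Fin 2 → K) (hv : v ≠ 0) :
    galP σ (mk K v hv) = mk K (galVec σ (Fin 2) v) (by
      intro h; exact hv (galVec_injective σ _ (h.trans (map_zero _).symm))) := rfl

theorem galP_mem_rational (σ : K ≃ₐ[k] K) (u : Fin 2 → k) (hu : (fun i => algebraMap k K (u i)) ≠ 0) :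
    galP σ (mk K _ hu) = mk K _ hu := by
  rw [galP_mk]
  congr 1
  funext i
  exact σ.commutes (u i)

/-- descent for three point configurations -/
theorem exists_gl_descent [FiniteDimensional k K] [IsGalois k K]
    (x y : Fin 3 → Projectivization K (Fin 2 → K)) (hx : Function.Injective x)
    (hy : Function.Injective y)
    (hgal : ∀ (σ : K ≃ₐ[k] K) i, ∃ j, galP σ (x i) = x j ∧ galP σ (y i) = y j) :
    ∃ g : GL (Fin 2) k, ∀ i,
      (Matrix.GeneralLinearGroup.toLin ((Matrix.GeneralLinearGroup.map (algebraMap k K)) g)) • x i = y i := by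
  have hind : ∀ (z : Fin 3 → Projectivization K (Fin 2 → K)), Function.Injective z →
      ∀ i j, i ≠ j → LinearIndependent K ![(z i).rep, (z j).rep] := fun z hz i j hij =>
    linearIndependent_pair_iff_ne.mpr (hz.ne hij)
  obtain ⟨g, hdet, hg⟩ := exists_gl_map (hind x hx) (hind y hy)
  have hfix : ∀ σ : K ≃ₐ[k] K, ∃ μ : K, g.map σ = μ • g := by
    intro σ
    refine eq_smul_of_map (hind x hx) (hind y hy) hg fun j => ?_
    have hsurj : ∀ j, ∃ i, galP σ (x i) = x j ∧ galP σ (y i) = y j := by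
      intro j
      obtain ⟨i, hi1, hi2⟩ := hgal σ.symm j
      refine ⟨i, ?_, ?_⟩
      · obtain ⟨l, hl, -⟩ := hgal σ i
        rw [← hi1]
        induction x j using Projectivization.ind with
        | h v hv => rw [galP_mk, galP_mk]; congr 1; funext a; exact σ.apply_symm_apply _
      · rw [← hi2]
        induction y j using Projectivization.ind with
        | h v hv => rw [galP_mk, galP_mk]; congr 1; funext a; exact σ.apply_symm_apply _
    obtain ⟨i, hi1, hi2⟩ := hsurj j
    have hxv : galP σ (mk K (x i).rep (x i).rep_nonzero) = mk K (x j).rep (x j).rep_nonzero := by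
      rw [mk_rep, mk_rep, hi1]
    have hyv : galP σ (mk K (y i).rep (y i).rep_nonzero) = mk K (y j).rep (y j).rep_nonzero := by
      rw [mk_rep, mk_rep, hi2]
    rw [galP_mk, mk_eq_mk_iff] at hxv hyv
    obtain ⟨a, ha⟩ := hxv
    obtain ⟨b, hb⟩ := hyv
    obtain ⟨c, hc, hgc⟩ := hg i
    refine ⟨σ c * b.1 / a.1, ?_⟩
    have e : g.map σ *ᵥ galVec σ (Fin 2) (x i).rep = galVec σ (Fin 2) (g *ᵥ (x i).rep) := by
      funext r
      simp [galVec_apply, mulVec, dotProduct, map_sum]
    rw [hgc, (galVec σ (Fin 2)).map_smulₛₗ, ← ha, ← hb] at e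
    simp only [Units.smul_def] at e
    rw [mulVec_smul] at e
    rw [eq_comm, div_eq_inv_mul, mul_smul, inv_smul_eq_iff₀ a.ne_zero, mul_smul]
    exact e.symm
  have hne : g ≠ 0 := by rintro rfl; exact hdet Matrix.det_zero
  obtain ⟨p, q, hpq⟩ : ∃ p q, g p q ≠ 0 := by
    by_contra hc
    push Not at hc
    exact hne (Matrix.ext hc)
  have hmem : ∀ a b, g a b / g p q ∈ Set.range (algebraMap k K) := by
    intro a b
    refine (IsGalois.mem_range_algebraMap_iff_fixed _).mpr fun σ => ?_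
    obtain ⟨μ, hμ⟩ := hfix σ
    have e : ∀ a b, σ (g a b) = μ * g a b := fun a b => by
      simpa using congrFun (congrFun hμ a) b
    have hμ0 : μ ≠ 0 := by
      rintro rfl
      simpa [hpq] using e p q
    rw [map_div₀, e, e, mul_div_mul_left _ _ hμ0]
  choose g₀ hg₀ using hmem
  let G : Matrix (Fin 2) (Fin 2) k := Matrix.of g₀
  have hG : G.map (algebraMap k K) = (g p q)⁻¹ • g := by
    ext a b; simp [G, hg₀, div_eq_inv_mul]
  have hGdet : G.det ≠ 0 := by
    intro h
    have : (G.map (algebraMap k K)).det = 0 := by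
      rw [← RingHom.mapMatrix_apply, ← RingHom.map_det, h, map_zero]
    rw [hG, Matrix.det_smul] at this
    simp [hpq, hdet] at this
  refine ⟨Matrix.GeneralLinearGroup.mkOfDetNeZero G hGdet, fun i => ?_⟩
  obtain ⟨c, hc, hgc⟩ := hg i
  conv_lhs => rw [← mk_rep (x i)]
  conv_rhs => rw [← mk_rep (y i)]
  rw [smul_mk, mk_eq_mk_iff']
  refine ⟨(g p q)⁻¹ * c, ?_⟩
  show _ = G.map (algebraMap k K) *ᵥ (x i).rep
  rw [hG, smul_mulVec, hgc, smul_smul]

theorem exists_gl_image [FiniteDimensional k K] [IsGalois k K]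
    (S S' : Set (Projectivization K (Fin 2 → K))) (hfin : S.Finite) (h3 : S.ncard ≤ 3)
    (hS : ∀ (σ : K ≃ₐ[k] K) (x : Projectivization K (Fin 2 → K)), x ∈ S → galP σ x ∈ S)
    (b : S ≃ S')
    (hb : ∀ (σ : K ≃ₐ[k] K) (x : S),
      (b ⟨galP σ x.1, hS σ x.1 x.2⟩ : Projectivization K (Fin 2 → K)) = galP σ (b x).1) :
    ∃ g : GL (Fin 2) k,
      (fun x => (Matrix.GeneralLinearGroup.toLin ((Matrix.GeneralLinearGroup.map (algebraMap k K)) g)) • x) '' S = S' := by
  classical
  have hfin' : S'.Finite := by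
    have := hfin.to_subtype
    exact Set.finite_coe_iff.mp (Finite.of_equiv _ b)
  have hcard : S'.ncard = S.ncard := by
    rw [← Nat.card_coe_set_eq, ← Nat.card_coe_set_eq, Nat.card_congr b]
  let r : Fin 3 → Fin 2 → k := ![![1, 0], ![0, 1], ![1, 1]]
  have hr : ∀ l, (fun i => algebraMap k K (r l i)) ≠ 0 := by
    intro l h
    have h0 := congrFun h 0; have h1 := congrFun h 1
    fin_cases l <;> simp [r] at h0 h1
  let ρ : Fin 3 → Projectivization K (Fin 2 → K) := fun l => mk K _ (hr l)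
  have hρ : Function.Injective ρ := by
    intro a c h
    obtain ⟨u, hu⟩ := (mk_eq_mk_iff' K _ _ _ _).mp h
    have h0 := congrFun hu 0; have h1 := congrFun hu 1
    fin_cases a <;> fin_cases c <;> simp [r] at h0 h1 ⊢ <;> simp_all
  have hR : ∀ T : Set (Projectivization K (Fin 2 → K)), T.Finite → T.ncard = S.ncard →
      Nonempty (Fin (3 - S.ncard) ↪ {z // z ∈ Set.range ρ ∧ z ∉ T}) := by
    intro T hT hc
    have h := Set.le_ncard_sdiff T (Set.range ρ) hT
    rw [Set.ncard_range_of_injective hρ, Nat.card_fin, hc] at h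
    have : Fintype {z // z ∈ Set.range ρ ∧ z ∉ T} :=
      ((Set.finite_range ρ).subset fun z hz => hz.1).fintype
    refine Function.Embedding.nonempty_of_card_le ?_
    rw [Fintype.card_fin, ← Nat.card_eq_fintype_card]
    rw [← Nat.card_coe_set_eq] at h
    exact h
  obtain ⟨eS⟩ := hR S hfin rfl
  obtain ⟨eS'⟩ := hR S' hfin' hcard
  have : Fintype S := hfin.fintype
  let e : Fin 3 ≃ S ⊕ Fin (3 - S.ncard) := (Fintype.equivFinOfCardEq (by
    rw [Fintype.card_sum, Fintype.card_fin, ← Nat.card_eq_fintype_card, Nat.card_coe_set_eq]; omega)).symm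
  let x₀ : S ⊕ Fin (3 - S.ncard) → Projectivization K (Fin 2 → K) :=
    Sum.elim (fun s => s.1) fun l => (eS l).1
  let y₀ : S ⊕ Fin (3 - S.ncard) → Projectivization K (Fin 2 → K) :=
    Sum.elim (fun s => (b s).1) fun l => (eS' l).1
  have hx₀ : Function.Injective x₀ := by
    refine Function.Injective.sumElim Subtype.val_injective (Subtype.val_injective.comp eS.injective) ?_
    intro s l h
    exact (eS l).2.2 (h ▸ s.2)
  have hy₀ : Function.Injective y₀ := by
    refine Function.Injective.sumElim (Subtype.val_injective.comp b.injective)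
      (Subtype.val_injective.comp eS'.injective) ?_
    intro s l h
    exact (eS' l).2.2 (h ▸ (b s).2)
  have hfixρ : ∀ (σ : K ≃ₐ[k] K) z, z ∈ Set.range ρ → galP σ z = z := by
    rintro σ _ ⟨l, rfl⟩
    exact galP_mem_rational σ _ _
  obtain ⟨g, hg⟩ := exists_gl_descent (x₀ ∘ e) (y₀ ∘ e) (hx₀.comp e.injective) (hy₀.comp e.injective)
    (fun σ i => by
      rcases hei : e i with s | l
      · refine ⟨e.symm (Sum.inl ⟨galP σ s.1, hS σ s.1 s.2⟩), ?_, ?_⟩
        · simp [x₀, hei]
        · simp [y₀, hei, hb]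
      · refine ⟨i, ?_, ?_⟩
        · simp only [Function.comp_apply, x₀, hei, Sum.elim_inr]
          exact hfixρ σ _ (eS l).2.1
        · simp only [Function.comp_apply, y₀, hei, Sum.elim_inr]
          exact hfixρ σ _ (eS' l).2.1)
  refine ⟨g, Set.ext fun z => ⟨?_, fun hz => ?_⟩⟩
  · rintro ⟨s, hs, rfl⟩
    have := hg (e.symm (Sum.inl ⟨s, hs⟩))
    simp only [Function.comp_apply, Equiv.apply_symm_apply, x₀, y₀, Sum.elim_inl] at this
    show _ • s ∈ S'
    rw [this]
    exact (b _).2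
  · have := hg (e.symm (Sum.inl (b.symm ⟨z, hz⟩)))
    simp only [Function.comp_apply, Equiv.apply_symm_apply, x₀, y₀, Sum.elim_inl] at this
    exact ⟨_, (b.symm ⟨z, hz⟩).2, this⟩

end Groth.Agent.Curves2
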