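import Groth.Agent.Crv77.Involution
import Groth.Agent.Crv77.DoubleUnique

/-! Infinitely many automorphisms of a curve of genus one over an algebraically closed field. -/

set_option autoImplicit false
set_option linter.style.haveILetI false
set_option backward.isDefEq.respectTransparency false
set_option maxHeartbeats 1000000
set_option synthInstance.maxHeartbeats 200000
universe u

open CategoryTheory CategoryTheory.Limits AlgebraicGeometry TopologicalSpace IntermediateField FunFld
open Groth.Agent.Crv77

noncomputable section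

namespace Groth.Agent.Curves2.GenusOneAut

variable {k : Type u} [Field k]

section FF

variable {K : Type u} [Field K] [Algebra k K]

/-- A function with two given simple poles. -/
theorem exists_two_poles (hK : IsFunctionField k K) (hg : genus k K = 1) {P Q : Place k K}
    (hP : P.deg = 1) (hQ : Q.deg = 1) (hPQ : P ≠ Q) :
    ∃ z : K, Module.finrank k⟮z⟯ K = 2 ∧ ∀ R : Place k K, R.ord z < 0 ↔ R = P ∨ R = Q := by
  classical
  have hF := FF30.FF.of_isFunctionField hK
  let E : Divisor k K := Finsupp.single P 1 + Finsupp.single Q 1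
  have hEd : E.deg = 2 := by simp [E, FF30.deg_add, FF30.deg_single, hP, hQ]
  have hE : 0 ≤ E := add_nonneg (Finsupp.single_nonneg.2 zero_le_one) (Finsupp.single_nonneg.2 zero_le_one)
  have hl := FF30.ell_eq_of_deg_gt hK (D := E) (by rw [hg, hEd]; norm_num)
  rw [hEd, hg] at hl
  obtain ⟨z, hzE, hz⟩ : ∃ z ∈ L E, z ∉ Set.range (algebraMap k K) := by
    by_contra hne
    push Not at hne
    have hle : L E ≤ (1 : Submodule k K) := fun x hx => FF30.mem_one_iff.2 (hne x hx)
    have := hF.finite_L E
    have h1 : Module.finrank k (1 : Submodule k K) = 1 := by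
      rw [← FF30.L_zero' hK]; exact FF30.ell_zero hK
    have : Module.Finite k (1 : Submodule k K) := by
      rw [← FF30.L_zero' hK]; exact hF.finite_L 0
    have h2 := Submodule.finrank_mono hle
    unfold ell at hl
    omega
  have htr := FF30.transcendental_of_not_mem_range hK hz
  have hle := Crv77.poleDiv_le_of_mem_L hK hE hzE
  have h1 := FF30.deg_mono hle
  rw [hF.deg_poleDiv htr, hEd] at h1
  have := hF.finiteDimensional_adjoin htr
  have h2 : 0 < Module.finrank k⟮z⟯ K := Module.finrank_pos
  have h3 : Module.finrank k⟮z⟯ K = 2 := by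
    by_contra hne
    have := FF30.genus_eq_zero_of_deg_poleDiv_eq_one hK (x := z) htr (by rw [hF.deg_poleDiv htr]; omega)
    omega
  refine ⟨z, h3, fun R => ?_⟩
  have he := hF.eq_of_le_of_deg_le hle (by rw [hF.deg_poleDiv htr, h3, hEd]; norm_num)
  have hR : max (-R.ord z) 0 = E R := by rw [← hF.poleDiv_apply, he]
  rw [show E R = (Finsupp.single P (1 : ℤ)) R + (Finsupp.single Q (1 : ℤ)) R from Finsupp.add_apply ..] at hR
  simp only [Finsupp.single_apply] at hR
  constructor
  · intro hlt
    by_contra hne
    push Not at hne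
    rw [if_neg hne.1.symm, if_neg hne.2.symm] at hR
    omega
  · rintro (rfl | rfl)
    · rw [if_pos rfl, if_neg hPQ.symm] at hR; omega
    · rw [if_neg hPQ, if_pos rfl] at hR; omega

/-- Two double functions in one quadratic subfield with a common pole have the same poles. -/
theorem pole_of_pole [IsAlgClosed k] (hK : IsFunctionField k K) {z w : K}
    (hz : Module.finrank k⟮z⟯ K = 2) (hw : Module.finrank k⟮w⟯ K = 2) (hwz : w ∈ k⟮z⟯) {P R : Place k K}
    (hzP : P.ord z < 0) (hwP : P.ord w < 0) (hwR : R.ord w < 0) : R.ord z < 0 := by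
  classical
  have hF := FF30.FF.of_isFunctionField hK
  let F := k⟮z⟯
  have : FiniteDimensional F K := Module.finite_of_finrank_eq_succ hz
  have hFfun := isFunctionField_of_finite hK F
  have hf := FF30.FF.of_isFunctionField hFfun
  let z' : F := ⟨z, mem_adjoin_simple_self k z⟩
  let w' : F := ⟨w, hwz⟩
  have : FiniteDimensional k⟮w⟯ K := Module.finite_of_finrank_eq_succ hw
  have hFw : k⟮w⟯ = F :=
    IntermediateField.eq_of_le_of_finrank_eq' (IntermediateField.adjoin_simple_le_iff.2 hwz) (hw.trans hz.symm)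
  have gen : ∀ (v : K) (hv : v ∈ F), k⟮v⟯ = F → IntermediateField.adjoin k {(⟨v, hv⟩ : F)} = ⊤ := by
    intro v hv e
    apply IntermediateField.map_injective F.val
    rw [IntermediateField.adjoin_map, Set.image_singleton, ← AlgHom.fieldRange_eq_map,
      IntermediateField.fieldRange_val]
    exact e
  have htF : ∀ (v : F), IntermediateField.adjoin k {v} = ⊤ → (FF30.poleDiv v : Divisor k F).deg = 1 := by
    intro v hv
    have ht : Transcendental k v := by
      refine FF30.transcendental_of_not_mem_range hFfun ?_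
      rintro ⟨c, rfl⟩
      obtain ⟨x, hx, -⟩ := id hf
      have h1 : IntermediateField.adjoin k {algebraMap k F c} = ⊥ :=
        IntermediateField.adjoin_simple_eq_bot_iff.2 ⟨c, rfl⟩
      rw [h1] at hv
      obtain ⟨d, hd⟩ := IntermediateField.mem_bot.1 (hv ▸ IntermediateField.mem_top : x ∈ (⊥ : IntermediateField k F))
      exact hx (hd ▸ isAlgebraic_algebraMap d)
    rw [hf.deg_poleDiv ht, IntermediateField.finrank_eq_one_iff_eq_top.2 hv]
    rfl
  obtain ⟨P₁, eP, hPover, hP₁⟩ := hf.exists_isOverWith P
  obtain ⟨R₁, eR, hRover, hR₁⟩ := hf.exists_isOverWith R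
  have neg_iff : ∀ (Q : Place k K) (Q₁ : Place k F) (e : ℕ), IsOverWith Q Q₁ e → e ≠ 0 →
      ∀ v : F, Q.ord (v : K) < 0 ↔ Q₁.ord v < 0 := by
    intro Q Q₁ e hQ he v
    rw [← FF30.one_lt_val_iff, ← FF30.one_lt_val_iff, show Q.1 (v : K) = Q₁.1 v ^ e from hQ v]
    exact one_lt_pow_iff_of_nonneg zero_le he
  have key : P₁ = R₁ := by
    have h1 := htF w' (gen w hwz hFw)
    have hP1 := (neg_iff P P₁ eP hP₁ (by omega) w').1 hwP
    have hR1 := (neg_iff R R₁ eR hR₁ (by omega) w').1 hwR
    by_contra hne
    have hle : (Finsupp.single P₁ (1 : ℤ) + Finsupp.single R₁ 1 : Divisor k F) ≤ FF30.poleDiv w' := by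
      intro S
      rw [hf.poleDiv_apply, Finsupp.add_apply, Finsupp.single_apply, Finsupp.single_apply]
      split_ifs with h2 h3 h4
      · exact absurd (h2.trans h3.symm) hne
      · subst h2; omega
      · subst h4; omega
      · omega
    have := FF30.deg_mono hle
    rw [h1, FF30.deg_add, FF30.deg_single, FF30.deg_single, hf.deg_eq_one, hf.deg_eq_one] at this
    norm_num at this
  exact (neg_iff R R₁ eR hR₁ (by omega) z').2 (key ▸ (neg_iff P P₁ eP hP₁ (by omega) z').1 hzP)

end FF

variable {C : Scheme.{u}} [C.Over (Spec (CommRingCat.of k))] [IsIntegral C]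

attribute [local instance] CrvPic30.ffAlg

/-- Infinitely many automorphisms in genus one. -/
theorem infinite_aut [IsAlgClosed k] [Smooth (C ↘ Spec (CommRingCat.of k))] (h : CrvPic30.Setup k C)
    (hg : genus k C.functionField = 1) :
    Infinite {e : C ≅ C // e.hom ≫ (C ↘ (Spec (CommRingCat.of k))) = C ↘ (Spec (CommRingCat.of k))} := by
  classical
  have := h.proper
  have hF := h.ffield
  have := hF.infinite_places
  obtain ⟨P₀⟩ := hF.nonempty_place
  let S := {R : Place k C.functionField // R ≠ P₀}
  have : Infinite S := Set.infinite_coe_iff.2 (Set.Finite.infinite_compl (Set.finite_singleton P₀))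
  choose z hz hpole using fun R : S =>
    exists_two_poles h.ff hg (hF.deg_eq_one P₀) (hF.deg_eq_one R.1) R.2.symm
  have hsig : ∀ R : S, ∃ σ : C.functionField ≃ₐ[k] C.functionField,
      σ * σ = 1 ∧ ∀ v, σ v = v ↔ v ∈ k⟮z R⟯ := by
    intro R
    let F := k⟮z R⟯
    have : FiniteDimensional F C.functionField := Module.finite_of_finrank_eq_succ (hz R)
    have : Algebra.IsQuadraticExtension F C.functionField := ⟨hz R⟩
    have : Algebra.IsSeparable F C.functionField := isSeparable_double h hg.ge (hz R)
    have hc := IsGalois.card_aut_eq_finrank F C.functionField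
    rw [hz R] at hc
    obtain ⟨τ, hτ, huniq⟩ := (Nat.card_eq_two_iff' 1).1 hc
    have hττ : τ * τ = 1 := by rw [← pow_two, ← hc]; exact pow_card_eq_one'
    refine ⟨τ.restrictScalars k, AlgEquiv.ext fun v => AlgEquiv.congr_fun hττ v, fun v => ⟨fun hv => ?_, fun hv => ?_⟩⟩
    · have h1 : v ∈ (⊥ : IntermediateField F C.functionField) := (IsGalois.mem_bot_iff_fixed v).2 fun f => by
        by_cases hf : f = 1
        · rw [hf]; rfl
        · exact (huniq f hf).symm ▸ hv
      obtain ⟨a, rfl⟩ := IntermediateField.mem_bot.1 h1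
      exact a.2
    · exact τ.commutes ⟨v, hv⟩
  choose σ hσσ hfix using hsig
  choose g eg hg' hgσ using fun R : S => exists_hom_of_algHom h (σ R).toAlgHom
  have hgg : ∀ R, g R ≫ g R = 𝟙 C := fun R => by
    refine hom_eq_of_ffMap (k := k) (by rw [Category.assoc, hg', hg']) (Category.id_comp _) ?_
    rw [← Category.assoc, ← fromSpecStalk_ffMap _ (eg R), Category.assoc, ← fromSpecStalk_ffMap _ (eg R),
      ← Category.assoc, ← Spec.map_comp, Category.comp_id]
    have : CommRingCat.ofHom (ffMap (g R) (eg R)) ≫ CommRingCat.ofHom (ffMap (g R) (eg R)) =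
        𝟙 C.functionField := by
      refine CommRingCat.hom_ext (RingHom.ext fun w => ?_)
      show ffMap (g R) (eg R) (ffMap (g R) (eg R) w) = w
      rw [hgσ]
      exact AlgEquiv.congr_fun (hσσ R) w
    rw [this]
    exact specMap_id_comp _
  refine Infinite.of_injective (fun R => ⟨⟨g R, g R, hgg R, hgg R⟩, hg' R⟩) fun R R' hRR => Subtype.ext ?_
  have hgeq : g R = g R' := congrArg (fun e => e.1.hom) hRR
  have hmap : ∀ (a b : C ⟶ C) (ea : a (genericPoint C) = genericPoint C) (eb : b (genericPoint C) = genericPoint C),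
      a = b → ffMap a ea = ffMap b eb := by
    rintro a b ea eb rfl; rfl
  have hσ : ∀ v, σ R v = σ R' v := fun v => by
    have h1 := congr($(hmap _ _ (eg R) (eg R') hgeq) v)
    rwa [hgσ, hgσ] at h1
  have hmem : z R' ∈ k⟮z R⟯ := (hfix R _).1 (by rw [hσ]; exact (hfix R' _).2 (mem_adjoin_simple_self k _))
  have h1 := pole_of_pole h.ff (hz R) (hz R') hmem ((hpole R P₀).2 (Or.inl rfl)) ((hpole R' P₀).2 (Or.inl rfl))
    ((hpole R' R'.1).2 (Or.inr rfl))
  rcases (hpole R R'.1).1 h1 with h2 | h2
  · exact absurd h2 R'.2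
  · exact h2.symm

end Groth.Agent.Curves2.GenusOneAut
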