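import Mathlib.RingTheory.DualNumber
import Mathlib.RingTheory.LocalRing.ResidueField.Basic
import Mathlib.LinearAlgebra.Basis.VectorSpace
import Mathlib.Algebra.Module.Projective
import Mathlib.Tactic.Ring
import Mathlib.Tactic.Abel
import Mathlib.Tactic.Module
import Mathlib.Tactic.LinearCombination

/-!
# A node does not lie over a point with principal maximal ideal

If `B` is a local `K`-algebra with two cotangent coordinates `u, v` with `u * v ∈ m³` (as for an
ordinary double point), and `B` satisfies the universal property of a local ring of a base change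
`A ⊗ₖ K`, then the maximal ideal of `A` is not principal.
-/

set_option autoImplicit false

universe u

namespace Groth.Agent.Curves2

open IsLocalRing

open scoped DualNumber

/-- A dual number with given components. -/
def mkDual {R : Type u} [CommRing R] (x y : R) : R[ε] := (x, y)

@[simp]
theorem fst_mkDual {R : Type u} [CommRing R] (x y : R) : TrivSqZeroExt.fst (mkDual x y) = x := rfl

@[simp]
theorem snd_mkDual {R : Type u} [CommRing R] (x y : R) : TrivSqZeroExt.snd (mkDual x y) = y := rfl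

theorem isLocalRing_dualNumber (R : Type u) [CommRing R] [IsLocalRing R] : IsLocalRing R[ε] := by
  refine IsLocalRing.of_isUnit_or_isUnit_one_sub_self fun a => ?_
  rcases IsLocalRing.isUnit_or_isUnit_one_sub_self (TrivSqZeroExt.fst a) with h | h
  · exact Or.inl (TrivSqZeroExt.isUnit_iff_isUnit_fst.mpr h)
  · exact Or.inr (TrivSqZeroExt.isUnit_iff_isUnit_fst.mpr (by simpa using h))

/-- A linear section, semilinear along a map from a local ring killing the maximal ideal. -/
theorem exists_semilinear_section {A K E : Type u} [CommRing A] [IsLocalRing A] [CommRing K]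
    [CommRing E] (φ : A →+* E) (π : E →+* K) (hπ : Function.Surjective π)
    (hker : ∀ a ∈ maximalIdeal A, φ a = 0) :
    ∃ s : K →+ E, (∀ z, π (s z) = z) ∧ ∀ a z, s (π (φ a) * z) = φ a * s z := by
  let φ' : ResidueField A →+* E := Ideal.Quotient.lift _ φ hker
  letI : Module (ResidueField A) E := Module.compHom E φ'
  letI : Module (ResidueField A) K := Module.compHom K (π.comp φ')
  let L : E →ₗ[ResidueField A] K :=
    { π.toAddMonoidHom with map_smul' := fun r e => map_mul π (φ' r) e }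
  obtain ⟨s, hs⟩ := L.exists_rightInverse_of_surjective (LinearMap.range_eq_top.mpr hπ)
  refine ⟨s.toAddMonoidHom, fun z => LinearMap.congr_fun hs z, fun a z => ?_⟩
  exact s.map_smul (residue A a) z

/-- Two cotangent coordinates of an ordinary double point. -/
structure NodeCoords (K B : Type u) [Field K] [CommRing B] [IsLocalRing B] [Algebra K B] where
  u : B
  v : B
  hu : u ∈ maximalIdeal B
  hv : v ∈ maximalIdeal B
  huv : u * v ∈ maximalIdeal B ^ 3
  res : ∀ b : B, ∃ c : K, b - algebraMap K B c ∈ maximalIdeal B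
  span : ∀ b ∈ maximalIdeal B, ∃ α β : K, b - α • u - β • v ∈ maximalIdeal B ^ 2
  indep : ∀ α β : K, α • u + β • v ∈ maximalIdeal B ^ 2 → α = 0 ∧ β = 0

namespace NodeCoords

variable {K B : Type u} [Field K] [CommRing B] [IsLocalRing B] [Algebra K B] (N : NodeCoords K B)

theorem exists_coord (b : B) :
    ∃ c : K × K × K, b - algebraMap K B c.1 - c.2.1 • N.u - c.2.2 • N.v ∈ maximalIdeal B ^ 2 := by
  obtain ⟨c, hc⟩ := N.res b
  obtain ⟨α, β, h⟩ := N.span _ hc
  exact ⟨(c, α, β), h⟩

noncomputable def cst (b : B) : K := (N.exists_coord b).choose.1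

noncomputable def α (b : B) : K := (N.exists_coord b).choose.2.1

noncomputable def β (b : B) : K := (N.exists_coord b).choose.2.2

theorem coord_spec (b : B) :
    b - algebraMap K B (N.cst b) - N.α b • N.u - N.β b • N.v ∈ maximalIdeal B ^ 2 :=
  (N.exists_coord b).choose_spec

theorem coord_eq {b : B} {c a a' : K}
    (h : b - algebraMap K B c - a • N.u - a' • N.v ∈ maximalIdeal B ^ 2) :
    N.cst b = c ∧ N.α b = a ∧ N.β b = a' := by
  have hd : algebraMap K B (N.cst b - c) + (N.α b - a) • N.u + (N.β b - a') • N.v ∈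
      maximalIdeal B ^ 2 := by
    have e := sub_mem h (N.coord_spec b)
    refine (congrArg (· ∈ maximalIdeal B ^ 2) ?_).mp e
    rw [sub_smul, sub_smul, map_sub]
    abel
  have hc : algebraMap K B (N.cst b - c) ∈ maximalIdeal B := by
    have h1 : (N.α b - a) • N.u + (N.β b - a') • N.v ∈ maximalIdeal B := by
      rw [Algebra.smul_def, Algebra.smul_def]
      exact add_mem (Ideal.mul_mem_left _ _ N.hu) (Ideal.mul_mem_left _ _ N.hv)
    rw [add_assoc] at hd
    exact (Submodule.add_mem_iff_left _ h1).mp (Ideal.pow_le_self two_ne_zero hd)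
  have hc0 : N.cst b - c = 0 := by
    by_contra hne
    exact (mem_maximalIdeal _).mp hc ((IsUnit.mk0 _ hne).map (algebraMap K B))
  rw [hc0, map_zero, zero_add] at hd
  obtain ⟨h1, h2⟩ := N.indep _ _ hd
  exact ⟨sub_eq_zero.mp hc0, sub_eq_zero.mp h1, sub_eq_zero.mp h2⟩

theorem coord_algebraMap (r : K) :
    N.cst (algebraMap K B r) = r ∧ N.α (algebraMap K B r) = 0 ∧ N.β (algebraMap K B r) = 0 :=
  N.coord_eq (by simp)

theorem coord_u : N.cst N.u = 0 ∧ N.α N.u = 1 ∧ N.β N.u = 0 := N.coord_eq (by simp)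

theorem coord_v : N.cst N.v = 0 ∧ N.α N.v = 0 ∧ N.β N.v = 1 := N.coord_eq (by simp)

theorem cst_eq_zero {b : B} (hb : b ∈ maximalIdeal B) : N.cst b = 0 := by
  obtain ⟨a, a', h⟩ := N.span b hb
  exact (N.coord_eq (c := 0) (a := a) (a' := a') (by rw [map_zero, sub_zero]; exact h)).1

theorem coord_add (a b : B) :
    N.cst (a + b) = N.cst a + N.cst b ∧ N.α (a + b) = N.α a + N.α b ∧
      N.β (a + b) = N.β a + N.β b := by
  refine N.coord_eq ?_
  refine (congrArg (· ∈ maximalIdeal B ^ 2) ?_).mp (add_mem (N.coord_spec a) (N.coord_spec b))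
  rw [map_add, add_smul, add_smul]
  abel

theorem coord_mul (a b : B) :
    N.cst (a * b) = N.cst a * N.cst b ∧ N.α (a * b) = N.cst a * N.α b + N.α a * N.cst b ∧
      N.β (a * b) = N.cst a * N.β b + N.β a * N.cst b := by
  refine N.coord_eq ?_
  set la := N.α a • N.u + N.β a • N.v with hla
  set lb := N.α b • N.u + N.β b • N.v with hlb
  have hla' : la ∈ maximalIdeal B := by
    rw [hla, Algebra.smul_def, Algebra.smul_def]
    exact add_mem (Ideal.mul_mem_left _ _ N.hu) (Ideal.mul_mem_left _ _ N.hv)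
  have hlb' : lb ∈ maximalIdeal B := by
    rw [hlb, Algebra.smul_def, Algebra.smul_def]
    exact add_mem (Ideal.mul_mem_left _ _ N.hu) (Ideal.mul_mem_left _ _ N.hv)
  have h1 := N.coord_spec a
  have h2 := N.coord_spec b
  have h3 : la * lb ∈ maximalIdeal B ^ 2 := by
    rw [pow_two]; exact Ideal.mul_mem_mul hla' hlb'
  have key := add_mem (add_mem (Ideal.mul_mem_right b _ h1)
    (Ideal.mul_mem_left (maximalIdeal B ^ 2) (algebraMap K B (N.cst a) + la) h2)) h3
  refine (congrArg (· ∈ maximalIdeal B ^ 2) ?_).mp key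
  simp only [hla, hlb, Algebra.smul_def, map_add, map_mul]
  ring

/-- The constant term. -/
noncomputable def cstHom : B →ₐ[K] K where
  toFun := N.cst
  map_one' := by simpa using (N.coord_algebraMap 1).1
  map_mul' a b := (N.coord_mul a b).1
  map_zero' := by simpa using (N.coord_algebraMap 0).1
  map_add' a b := (N.coord_add a b).1
  commutes' r := (N.coord_algebraMap r).1

theorem isLocalHom_cstHom : IsLocalHom N.cstHom := by
  refine ⟨fun b hb => ?_⟩
  by_contra h
  exact hb.ne_zero (N.cst_eq_zero ((mem_maximalIdeal _).mpr h))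

/-- The `K[ε]`-point in direction `(l₀, l₁)`. -/
noncomputable def tangent (l₀ l₁ : K) : B →ₐ[K] K[ε] where
  toFun b := mkDual (N.cst b) (l₀ * N.α b + l₁ * N.β b)
  map_one' := by
    obtain ⟨h1, h2, h3⟩ := N.coord_algebraMap 1
    rw [map_one] at h1 h2 h3
    refine TrivSqZeroExt.ext (h1.trans TrivSqZeroExt.fst_one.symm) ?_
    show l₀ * N.α 1 + l₁ * N.β 1 = 0
    rw [h2, h3]; ring
  map_mul' a b := by
    obtain ⟨h1, h2, h3⟩ := N.coord_mul a b
    refine TrivSqZeroExt.ext (by simpa using h1) ?_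
    simp only [DualNumber.snd_mul, fst_mkDual, snd_mkDual]
    rw [h2, h3]; ring
  map_zero' := by
    obtain ⟨h1, h2, h3⟩ := N.coord_algebraMap 0
    rw [map_zero] at h1 h2 h3
    refine TrivSqZeroExt.ext h1 ?_
    show l₀ * N.α 0 + l₁ * N.β 0 = 0
    rw [h2, h3]; ring
  map_add' a b := by
    obtain ⟨h1, h2, h3⟩ := N.coord_add a b
    refine TrivSqZeroExt.ext h1 ?_
    show l₀ * N.α (a + b) + l₁ * N.β (a + b) =
      (l₀ * N.α a + l₁ * N.β a) + (l₀ * N.α b + l₁ * N.β b)
    rw [h2, h3]; ring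
  commutes' r := by
    obtain ⟨h1, h2, h3⟩ := N.coord_algebraMap r
    refine TrivSqZeroExt.ext h1 ?_
    show l₀ * N.α (algebraMap K B r) + l₁ * N.β (algebraMap K B r) = 0
    rw [h2, h3]; ring

theorem fst_tangent (l₀ l₁ : K) (b : B) :
    TrivSqZeroExt.fst (N.tangent l₀ l₁ b) = N.cst b := rfl

theorem snd_tangent (l₀ l₁ : K) (b : B) :
    TrivSqZeroExt.snd (N.tangent l₀ l₁ b) = l₀ * N.α b + l₁ * N.β b := rfl

end NodeCoords

variable {k K A B : Type u} [Field k] [Field K] [CommRing A] [IsLocalRing A] [CommRing B]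
  [IsLocalRing B] [Algebra K B]

/-- A node does not lie over a point with principal maximal ideal. -/
theorem NodeCoords.false_of_principal (N : NodeCoords K B) (kA : k →+* A) (kK : k →+* K)
    (f : A →+* B) [IsLocalHom f] (hk : ∀ r, f (kA r) = algebraMap K B (kK r))
    (p : A) (hp : maximalIdeal A = Ideal.span {p})
    (hlift : ∀ (R : Type u) [CommRing R] [IsLocalRing R] [Algebra K R] (ρ : R →ₐ[K] K),
      IsLocalHom ρ → ∀ (c : B →ₐ[K] K), IsLocalHom c → ∀ g : A →+* R,
      (∀ r, g (kA r) = algebraMap K R (kK r)) → (∀ a, ρ (g a) = c (f a)) →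
      ∃ Φ : B →ₐ[K] R, ∀ a, Φ (f a) = g a)
    (huniq : ∀ (R : Type u) [CommRing R] [IsLocalRing R] [Algebra K R] (Φ Φ' : B →ₐ[K] R),
      (∀ a, Φ (f a) = Φ' (f a)) → Φ = Φ') : False := by
  classical
  have hpm : p ∈ maximalIdeal A := hp ▸ Ideal.mem_span_singleton_self p
  have hfm : ∀ a ∈ maximalIdeal A, f a ∈ maximalIdeal B := fun a ha => map_nonunit f a ha
  obtain ⟨l₀, l₁, hl, hlp⟩ : ∃ l₀ l₁ : K, (l₀ ≠ 0 ∨ l₁ ≠ 0) ∧
      l₀ * N.α (f p) + l₁ * N.β (f p) = 0 := by
    by_cases h : N.α (f p) = 0 ∧ N.β (f p) = 0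
    · exact ⟨1, 0, Or.inl one_ne_zero, by rw [h.1, h.2]; ring⟩
    · refine ⟨N.β (f p), -N.α (f p), ?_, by ring⟩
      rcases not_and_or.mp h with h | h
      · exact Or.inr (neg_ne_zero.mpr h)
      · exact Or.inl h
  let φ : A →+* K[ε] := (N.tangent l₀ l₁).toRingHom.comp f
  have hφm : ∀ a ∈ maximalIdeal A, φ a = 0 := by
    intro a ha
    rw [hp] at ha
    obtain ⟨b, rfl⟩ := Ideal.mem_span_singleton'.mp ha
    have : φ p = 0 := TrivSqZeroExt.ext (N.cst_eq_zero (hfm p hpm)) hlp
    rw [map_mul, this, mul_zero]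
  let π : K[ε] →+* K := (TrivSqZeroExt.fstHom K K K).toRingHom
  obtain ⟨s, hs, hsl⟩ := exists_semilinear_section φ π
    (fun z => ⟨mkDual z 0, rfl⟩) hφm
  have main : ∀ m₀ m₁ : K, l₀ * m₁ + m₀ * l₁ = 0 := by
    intro m₀ m₁
    have := isLocalRing_dualNumber K[ε]
    let d : A → K := fun a => m₀ * N.α (f a) + m₁ * N.β (f a)
    have hd1 : d 1 = 0 := by
      simp only [d, map_one]
      obtain ⟨-, h2, h3⟩ := N.coord_algebraMap 1
      rw [map_one] at h2 h3
      rw [h2, h3]; ring
    have hd0 : d 0 = 0 := by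
      simp only [d, map_zero]
      obtain ⟨-, h2, h3⟩ := N.coord_algebraMap 0
      rw [map_zero] at h2 h3
      rw [h2, h3]; ring
    have hdadd : ∀ a b, d (a + b) = d a + d b := fun a b => by
      simp only [d, map_add]
      rw [(N.coord_add _ _).2.1, (N.coord_add _ _).2.2]; ring
    have hdmul : ∀ a b, d (a * b) = π (φ a) * d b + π (φ b) * d a := fun a b => by
      show _ = N.cst (f a) * d b + N.cst (f b) * d a
      simp only [d, map_mul]
      rw [(N.coord_mul _ _).2.1, (N.coord_mul _ _).2.2]; ring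
    let g : A →+* (K[ε])[ε] :=
      { toFun := fun a => mkDual (φ a) (s (d a))
        map_one' := TrivSqZeroExt.ext (map_one φ) (by
          show s (d 1) = 0
          rw [hd1, map_zero])
        map_mul' := fun a b => TrivSqZeroExt.ext (by simp) (by
          simp only [DualNumber.snd_mul, fst_mkDual, snd_mkDual]
          rw [hdmul, map_add, hsl, hsl]; ring)
        map_zero' := TrivSqZeroExt.ext (map_zero φ) (by
          show s (d 0) = 0
          rw [hd0, map_zero])
        map_add' := fun a b => TrivSqZeroExt.ext (map_add φ a b) (by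
          show s (d (a + b)) = s (d a) + s (d b)
          rw [hdadd, map_add]) }
    let q : (K[ε])[ε] →ₐ[K] K[ε] :=
      (TrivSqZeroExt.fstHom K[ε] K[ε] K[ε]).restrictScalars K
    let ρ : (K[ε])[ε] →ₐ[K] K := (TrivSqZeroExt.fstHom K K K).comp q
    have hρ : IsLocalHom ρ := ⟨fun z hz =>
      TrivSqZeroExt.isUnit_iff_isUnit_fst.mpr (TrivSqZeroExt.isUnit_iff_isUnit_fst.mpr hz)⟩
    have hgk : ∀ r, g (kA r) = algebraMap K (K[ε])[ε] (kK r) := by
      intro r
      refine TrivSqZeroExt.ext ?_ ?_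
      · show N.tangent l₀ l₁ (f (kA r)) = algebraMap K K[ε] (kK r)
        rw [hk, AlgHom.commutes]
      · show s (d (kA r)) = _
        have : d (kA r) = 0 := by
          simp only [d, hk]
          rw [(N.coord_algebraMap _).2.1, (N.coord_algebraMap _).2.2]; ring
        rw [this, map_zero]
        rfl
    have hρg : ∀ a, ρ (g a) = N.cstHom (f a) := fun a => rfl
    obtain ⟨Φ, hΦ⟩ := hlift (K[ε])[ε] ρ hρ N.cstHom N.isLocalHom_cstHom g hgk hρg
    have h1 : q.comp Φ = N.tangent l₀ l₁ := huniq _ _ _ fun a => by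
      show TrivSqZeroExt.fst (Φ (f a)) = _
      rw [hΦ]
      rfl
    let p₂ : (K[ε])[ε] →ₐ[K] K[ε] :=
      { toFun := fun z => mkDual (TrivSqZeroExt.fst (TrivSqZeroExt.fst z))
          (TrivSqZeroExt.fst (TrivSqZeroExt.snd z))
        map_one' := TrivSqZeroExt.ext rfl rfl
        map_mul' := fun z w => TrivSqZeroExt.ext (by simp) (by simp)
        map_zero' := TrivSqZeroExt.ext rfl rfl
        map_add' := fun z w => TrivSqZeroExt.ext rfl rfl
        commutes' := fun r => TrivSqZeroExt.ext rfl rfl }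
    have h2 : p₂.comp Φ = N.tangent m₀ m₁ := huniq _ _ _ fun a => by
      show p₂ (Φ (f a)) = _
      rw [hΦ]
      exact TrivSqZeroExt.ext rfl (hs (d a))
    have hz : ∀ z ∈ maximalIdeal B, ∀ w ∈ maximalIdeal B,
        TrivSqZeroExt.fst (TrivSqZeroExt.fst (Φ z)) = 0 ∧
        TrivSqZeroExt.fst (Φ z * Φ w) = 0 ∧
        TrivSqZeroExt.fst (TrivSqZeroExt.snd (Φ z * Φ w)) = 0 := by
      intro z hz w hw
      have e1 : TrivSqZeroExt.fst (TrivSqZeroExt.fst (Φ z)) = 0 :=
        (congrArg TrivSqZeroExt.fst (AlgHom.congr_fun h1 z)).trans (N.cst_eq_zero hz)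
      have e2 : TrivSqZeroExt.fst (TrivSqZeroExt.fst (Φ w)) = 0 :=
        (congrArg TrivSqZeroExt.fst (AlgHom.congr_fun h1 w)).trans (N.cst_eq_zero hw)
      refine ⟨e1, TrivSqZeroExt.ext ?_ ?_, ?_⟩
      · simp [e1]
      · simp [e1, e2]
      · simp [e1, e2]
    have hzero : ∀ z ∈ maximalIdeal B ^ 3, Φ z = 0 := by
      intro z hz3
      rw [pow_succ] at hz3
      refine Submodule.mul_induction_on hz3 (fun r hr t ht => ?_) (fun a b ha hb => by
        rw [map_add, ha, hb, add_zero])
      rw [pow_two] at hr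
      refine Submodule.mul_induction_on hr (fun a ha b hb => ?_) (fun a b ha hb => by
        rw [add_mul, map_add, ha, hb, add_zero])
      obtain ⟨-, e1, e2⟩ := hz a ha b hb
      obtain ⟨e3, -, -⟩ := hz t ht t ht
      rw [map_mul, map_mul]
      generalize Φ a * Φ b = w at e1 e2 ⊢
      refine TrivSqZeroExt.ext ?_ (TrivSqZeroExt.ext ?_ ?_)
      · simp [e1]
      · simp [e1, e2]
      · simp [e1, e2, e3]
    have huv := hzero _ N.huv
    rw [map_mul] at huv
    have key := congrArg (fun z => TrivSqZeroExt.snd (TrivSqZeroExt.snd z)) huv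
    have a1 := AlgHom.congr_fun h1 N.u
    have a2 := AlgHom.congr_fun h1 N.v
    have b1 := AlgHom.congr_fun h2 N.u
    have b2 := AlgHom.congr_fun h2 N.v
    have fu : TrivSqZeroExt.fst (TrivSqZeroExt.fst (Φ N.u)) = 0 :=
      (congrArg TrivSqZeroExt.fst a1).trans N.coord_u.1
    have fv : TrivSqZeroExt.fst (TrivSqZeroExt.fst (Φ N.v)) = 0 :=
      (congrArg TrivSqZeroExt.fst a2).trans N.coord_v.1
    have su : TrivSqZeroExt.snd (TrivSqZeroExt.fst (Φ N.u)) = l₀ :=
      (congrArg TrivSqZeroExt.snd a1).trans (by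
        rw [N.snd_tangent, N.coord_u.2.1, N.coord_u.2.2]; ring)
    have sv : TrivSqZeroExt.snd (TrivSqZeroExt.fst (Φ N.v)) = l₁ :=
      (congrArg TrivSqZeroExt.snd a2).trans (by
        rw [N.snd_tangent, N.coord_v.2.1, N.coord_v.2.2]; ring)
    have mu : TrivSqZeroExt.fst (TrivSqZeroExt.snd (Φ N.u)) = m₀ :=
      (congrArg TrivSqZeroExt.snd b1).trans (by
        rw [N.snd_tangent, N.coord_u.2.1, N.coord_u.2.2]; ring)
    have mv : TrivSqZeroExt.fst (TrivSqZeroExt.snd (Φ N.v)) = m₁ :=
      (congrArg TrivSqZeroExt.snd b2).trans (by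
        rw [N.snd_tangent, N.coord_v.2.1, N.coord_v.2.2]; ring)
    simp [fu, fv, su, sv, mu, mv] at key
    linear_combination key
  rcases hl with h | h
  · exact h (by simpa using main 0 1)
  · exact h (by simpa using main 1 0)

end Groth.Agent.Curves2
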