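import Groth.Prelude.Def_CurvBase
import Groth.Agent.Curves2.NodeCotangent
import Groth.Agent.Cohen12.Completion
import Groth.Agent.CAlg6.CompleteSurj

/-!
# Nodes of curves over arbitrary fields

A node of a scheme over a field never has a principal maximal ideal.
-/

set_option autoImplicit false

universe u

open CategoryTheory Limits AlgebraicGeometry IsLocalRing

namespace Groth.Agent.Curves2

variable {K : Type u} [Field K]

theorem ordGE_two_of_mem_sq {f : MvPowerSeries (Fin 2) K}
    (hf : f ∈ maximalIdeal (MvPowerSeries (Fin 2) K) ^ 2) : CAlg6.OrdGE 2 f := by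
  rw [pow_two] at hf
  refine Submodule.mul_induction_on hf (fun a ha b hb => ?_) (fun a b ha hb => ha.add hb)
  exact (CAlg6.ordGE_one_iff.mpr (CAlg6.mem_maximalIdeal_iff.mp ha)).mul
    (CAlg6.ordGE_one_iff.mpr (CAlg6.mem_maximalIdeal_iff.mp hb))

theorem linear_coeff_eq_zero {a b : K}
    (h : MvPowerSeries.C a * MvPowerSeries.X 0 + MvPowerSeries.C b * MvPowerSeries.X 1 ∈
      maximalIdeal (MvPowerSeries (Fin 2) K) ^ 2) : a = 0 ∧ b = 0 := by
  classical
  have h2 := ordGE_two_of_mem_sq h
  constructor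
  · have := h2 (Finsupp.single 0 1) (by simp)
    simpa [MvPowerSeries.coeff_X, Finsupp.single_eq_single_iff] using this
  · have := h2 (Finsupp.single 1 1) (by simp)
    simpa [MvPowerSeries.coeff_X, Finsupp.single_eq_single_iff] using this

/-- An ordinary double point has cotangent coordinates with product of order three. -/
theorem nonempty_nodeCoords {A : Type u} [CommRing A] [Algebra K A] [IsLocalRing A]
    [IsNoetherianRing A] (h : Curv2.IsOrdDoublePt K A) : Nonempty (NodeCoords K A) := by
  classical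
  obtain ⟨e, he⟩ := h
  set ι := algebraMap A (AdicCompletion (maximalIdeal A) A) with hι
  let mk := Ideal.Quotient.mk
    (Ideal.span {(MvPowerSeries.X 0 * MvPowerSeries.X 1 : MvPowerSeries (Fin 2) K)})
  let ψ : MvPowerSeries (Fin 2) K →+* AdicCompletion (maximalIdeal A) A :=
    e.symm.toRingHom.comp mk
  have hψ : Function.Surjective ψ := e.symm.surjective.comp Ideal.Quotient.mk_surjective
  have hψC : ∀ c, ψ (MvPowerSeries.C c) = ι (algebraMap K A c) := fun c => by
    show e.symm (mk (MvPowerSeries.C c)) = _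
    rw [RingEquiv.symm_apply_eq]
    exact (he c).symm
  have hmax : (maximalIdeal (MvPowerSeries (Fin 2) K)).map ψ =
      maximalIdeal (AdicCompletion (maximalIdeal A) A) := by
    rcases Ideal.map_eq_top_or_isMaximal_of_surjective ψ hψ
      (maximalIdeal.isMaximal (MvPowerSeries (Fin 2) K)) with h1 | h1
    · exfalso
      have hker : RingHom.ker ψ ≤ maximalIdeal _ :=
        IsLocalRing.le_maximalIdeal (RingHom.ker_ne_top ψ)
      have := congrArg (Ideal.comap ψ) h1
      rw [Ideal.comap_map_of_surjective ψ hψ, Ideal.comap_top,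
        ← RingHom.ker_eq_comap_bot, sup_eq_left.mpr hker] at this
      exact (maximalIdeal.isMaximal _).ne_top this
    · exact IsLocalRing.eq_maximalIdeal h1
  have hlow : ∀ n p, p ∈ maximalIdeal (MvPowerSeries (Fin 2) K) ^ n →
      ψ p ∈ maximalIdeal (AdicCompletion (maximalIdeal A) A) ^ n := fun n p hp => by
    rw [← hmax, ← Ideal.map_pow]
    exact Ideal.mem_map_of_mem ψ hp
  have hker : RingHom.ker ψ ≤ maximalIdeal (MvPowerSeries (Fin 2) K) ^ 2 := by
    intro p hp
    have hp' : mk p = 0 := e.symm.injective (by rw [map_zero]; exact hp)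
    rw [Ideal.Quotient.eq_zero_iff_mem, Ideal.mem_span_singleton'] at hp'
    obtain ⟨q, rfl⟩ := hp'
    refine Ideal.mul_mem_left _ _ ?_
    rw [pow_two]
    exact Ideal.mul_mem_mul (CAlg6.mem_maximalIdeal_iff.mpr (MvPowerSeries.constantCoeff_X 0))
      (CAlg6.mem_maximalIdeal_iff.mpr (MvPowerSeries.constantCoeff_X 1))
  have hX : ∀ i, (MvPowerSeries.X i : MvPowerSeries (Fin 2) K) ∈ maximalIdeal _ := fun i =>
    CAlg6.mem_maximalIdeal_iff.mpr (MvPowerSeries.constantCoeff_X i)
  obtain ⟨u, hu⟩ := Cohen12.exists_sub_mem_pow A 2 (ψ (MvPowerSeries.X 0))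
  obtain ⟨v, hv⟩ := Cohen12.exists_sub_mem_pow A 2 (ψ (MvPowerSeries.X 1))
  have hιu : ι u ∈ maximalIdeal (AdicCompletion (maximalIdeal A) A) := by
    have h1 := hlow 1 (MvPowerSeries.X 0) (by rw [pow_one]; exact hX 0)
    rw [pow_one] at h1
    have := sub_mem h1 (Ideal.pow_le_self two_ne_zero hu)
    rwa [sub_sub_cancel] at this
  have hιv : ι v ∈ maximalIdeal (AdicCompletion (maximalIdeal A) A) := by
    have h1 := hlow 1 (MvPowerSeries.X 1) (by rw [pow_one]; exact hX 1)
    rw [pow_one] at h1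
    have := sub_mem h1 (Ideal.pow_le_self two_ne_zero hv)
    rwa [sub_sub_cancel] at this
  have hpow : ∀ (n : ℕ) (a : A), ι a ∈ maximalIdeal _ ^ n → a ∈ maximalIdeal A ^ n := fun n a =>
    (Cohen12.algebraMap_mem_pow_iff A n a).mp
  have hιpow : ∀ (n : ℕ) (a : A), a ∈ maximalIdeal A ^ n → ι a ∈ maximalIdeal _ ^ n := fun n a =>
    (Cohen12.algebraMap_mem_pow_iff A n a).mpr
  refine ⟨{ u := u, v := v, hu := ?_, hv := ?_, huv := ?_, res := ?_, span := ?_, indep := ?_ }⟩
  · simpa using hpow 1 u (by rwa [pow_one])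
  · simpa using hpow 1 v (by rwa [pow_one])
  · refine hpow 3 _ ?_
    have hzero : ψ (MvPowerSeries.X 0) * ψ (MvPowerSeries.X 1) = 0 := by
      rw [← map_mul]
      show e.symm (mk _) = 0
      rw [Ideal.Quotient.eq_zero_iff_mem.mpr (Ideal.mem_span_singleton_self _), map_zero]
    have h1 : ι (u * v) =
        -((ψ (MvPowerSeries.X 0) - ι u) * ψ (MvPowerSeries.X 1)) -
          ι u * (ψ (MvPowerSeries.X 1) - ι v) := by
      rw [map_mul]
      linear_combination hzero
    rw [h1]
    have h2 := hlow 1 (MvPowerSeries.X 1) (by rw [pow_one]; exact hX 1)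
    refine sub_mem (neg_mem ?_) ?_
    · rw [pow_succ]
      rw [pow_one] at h2
      exact Ideal.mul_mem_mul hu h2
    · rw [pow_succ']
      exact Ideal.mul_mem_mul hιu hv
  · intro a
    obtain ⟨p, hp⟩ := hψ (ι a)
    refine ⟨MvPowerSeries.constantCoeff p, ?_⟩
    have h1 : p - MvPowerSeries.C (MvPowerSeries.constantCoeff p) ∈ maximalIdeal _ :=
      CAlg6.mem_maximalIdeal_iff.mpr (by simp)
    have h2 := hlow 1 _ (by rwa [pow_one])
    rw [map_sub, hp, hψC, ← map_sub] at h2
    simpa using hpow 1 _ h2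
  · intro a ha
    have h1 : ι a ∈ (maximalIdeal (MvPowerSeries (Fin 2) K)).map ψ := by
      rw [hmax]
      simpa using hιpow 1 a (by rwa [pow_one])
    rw [Ideal.mem_map_iff_of_surjective ψ hψ] at h1
    obtain ⟨p, hp, hpa⟩ := h1
    rw [CAlg6.maximalIdeal_eq_span_X, Ideal.mem_span_range_iff_exists_fun] at hp
    obtain ⟨g, rfl⟩ := hp
    refine ⟨MvPowerSeries.constantCoeff (g 0), MvPowerSeries.constantCoeff (g 1), hpow 2 _ ?_⟩
    have hg : ∀ i, g i - MvPowerSeries.C (MvPowerSeries.constantCoeff (g i)) ∈ maximalIdeal _ :=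
      fun i => CAlg6.mem_maximalIdeal_iff.mpr (by simp)
    have h2 : (g 0 - MvPowerSeries.C (MvPowerSeries.constantCoeff (g 0))) * MvPowerSeries.X 0 +
        (g 1 - MvPowerSeries.C (MvPowerSeries.constantCoeff (g 1))) * MvPowerSeries.X 1 ∈
        maximalIdeal (MvPowerSeries (Fin 2) K) ^ 2 := by
      rw [pow_two]
      exact add_mem (Ideal.mul_mem_mul (hg 0) (hX 0)) (Ideal.mul_mem_mul (hg 1) (hX 1))
    have h3 := hlow 2 _ h2
    have key := add_mem (add_mem h3
      (Ideal.mul_mem_left _ (ι (algebraMap K A (MvPowerSeries.constantCoeff (g 0)))) hu))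
      (Ideal.mul_mem_left _ (ι (algebraMap K A (MvPowerSeries.constantCoeff (g 1)))) hv)
    refine (congrArg (· ∈ maximalIdeal _ ^ 2) ?_).mp key
    rw [map_sub ι, map_sub ι, ← hpa, Fin.sum_univ_two, Algebra.smul_def, Algebra.smul_def]
    simp only [map_add, map_mul, map_sub, hψC]
    ring
  · intro α β hαβ
    have h1 := hιpow 2 _ hαβ
    rw [map_add, Algebra.smul_def, Algebra.smul_def, map_mul, map_mul] at h1
    have h2 : ψ (MvPowerSeries.C α * MvPowerSeries.X 0 + MvPowerSeries.C β * MvPowerSeries.X 1) ∈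
        maximalIdeal (AdicCompletion (maximalIdeal A) A) ^ 2 := by
      have key := add_mem (add_mem h1 (Ideal.mul_mem_left _ (ι (algebraMap K A α)) hu))
        (Ideal.mul_mem_left _ (ι (algebraMap K A β)) hv)
      refine (congrArg (· ∈ maximalIdeal _ ^ 2) ?_).mp key
      simp only [map_add, map_mul, hψC]
      ring
    rw [← hmax, ← Ideal.map_pow, Ideal.mem_map_iff_of_surjective ψ hψ] at h2
    obtain ⟨q, hq, hqeq⟩ := h2
    refine linear_coeff_eq_zero ?_
    have := sub_mem hq (hker (RingHom.mem_ker.mpr (by rw [map_sub, hqeq, sub_self]) :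
      q - (MvPowerSeries.C α * MvPowerSeries.X 0 + MvPowerSeries.C β * MvPowerSeries.X 1) ∈ _))
    rwa [sub_sub_cancel] at this

/-- The stalk map over a point of the base field, as a morphism. -/
theorem fromSpecStalk_struct {k : Type u} [Field k] {X : Scheme.{u}}
    (f : X ⟶ Spec (CommRingCat.of k)) (x : X) :
    X.fromSpecStalk x ≫ f =
      Spec.map (CommRingCat.ofHom ((X.presheaf.germ ⊤ x trivial).hom.comp (Coh.toGlobal f))) := by
  have h1 : f = X.toSpecΓ ≫ Spec.map ((Scheme.ΓSpecIso (CommRingCat.of k)).inv ≫ f.appTop) := by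
    rw [Spec.map_comp, ← Scheme.toSpecΓ_naturality_assoc]
    simp [toSpecΓ_SpecMap_ΓSpecIso_inv]
  conv_lhs => rw [h1]
  rw [← Category.assoc, Scheme.fromSpecStalk_toSpecΓ, ← Spec.map_comp]
  rfl

theorem exists_stalkHom_of_point {Y : Scheme.{u}} {R : CommRingCat.{u}} [IsLocalRing R]
    (h : Spec R ⟶ Y) {y : Y} (hy : h (closedPoint R) = y) :
    ∃ φ : Y.presheaf.stalk y ⟶ R, Spec.map φ ≫ Y.fromSpecStalk y = h := by
  subst hy
  exact ⟨Scheme.stalkClosedPointTo h, Scheme.Spec_stalkClosedPointTo_fromSpecStalk h⟩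

/-- A node has no principal maximal ideal. -/
theorem not_isPrincipal_maximalIdeal_of_isNode (k : Type u) [Field k] (X : Scheme.{u})
    [X.Over (Spec (CommRingCat.of k))] [LocallyOfFiniteType (X ↘ Spec (CommRingCat.of k))]
    (x : X) (hx : Curv2.IsNode k X x) (p : X.presheaf.stalk x) :
    maximalIdeal (X.presheaf.stalk x) ≠ Ideal.span {p} := by
  intro hp
  obtain ⟨-, xb, rfl, hodp⟩ := hx
  have : IsLocallyNoetherian (Curv2.bc k X (AlgebraicClosure k)) :=
    LocallyOfFiniteType.isLocallyNoetherian (Curv2.bcSnd k X (AlgebraicClosure k))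
  let : (Curv2.bc k X (AlgebraicClosure k)).Over (Spec (CommRingCat.of (AlgebraicClosure k))) :=
    ⟨Curv2.bcSnd k X (AlgebraicClosure k)⟩
  let := Curv2.stalkAlgebra (AlgebraicClosure k) (Curv2.bc k X (AlgebraicClosure k)) xb
  obtain ⟨N⟩ := nonempty_nodeCoords hodp
  have hsq : Spec.map ((Curv2.bcFst k X (AlgebraicClosure k)).stalkMap xb) ≫
      X.fromSpecStalk _ = (Curv2.bc k X (AlgebraicClosure k)).fromSpecStalk xb ≫
        Curv2.bcFst k X (AlgebraicClosure k) :=
    Scheme.SpecMap_stalkMap_fromSpecStalk _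
  have hsnd : (Curv2.bc k X (AlgebraicClosure k)).fromSpecStalk xb ≫
      Curv2.bcSnd k X (AlgebraicClosure k) = Spec.map (CommRingCat.ofHom (algebraMap
        (AlgebraicClosure k) ((Curv2.bc k X (AlgebraicClosure k)).presheaf.stalk xb))) :=
    fromSpecStalk_struct _ xb
  have hX : X.fromSpecStalk (Curv2.bcFst k X (AlgebraicClosure k) xb) ≫
      (X ↘ Spec (CommRingCat.of k)) = Spec.map (CommRingCat.ofHom (Curv2.stalkMap k X _)) :=
    fromSpecStalk_struct _ _
  refine N.false_of_principal (Curv2.stalkMap k X _) (algebraMap k (AlgebraicClosure k))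
    ((Curv2.bcFst k X (AlgebraicClosure k)).stalkMap xb).hom ?_ p hp ?_ ?_
  · intro r
    have h1 : Spec.map (CommRingCat.ofHom (Curv2.stalkMap k X
          (Curv2.bcFst k X (AlgebraicClosure k) xb)) ≫
          (Curv2.bcFst k X (AlgebraicClosure k)).stalkMap xb) =
        Spec.map (CommRingCat.ofHom (algebraMap k (AlgebraicClosure k)) ≫
          CommRingCat.ofHom (algebraMap (AlgebraicClosure k)
            ((Curv2.bc k X (AlgebraicClosure k)).presheaf.stalk xb))) := by
      rw [Spec.map_comp, Spec.map_comp, ← hX, ← hsnd, ← Category.assoc, hsq, Category.assoc,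
        Category.assoc, pullback.condition]
    exact RingHom.congr_fun (congrArg CommRingCat.Hom.hom (Spec.map_injective h1)) r
  · intro R _ _ _ ρ hρ c hc g hgk hρg
    have hcond : (Spec.map (CommRingCat.ofHom g) ≫ X.fromSpecStalk _) ≫
        (X ↘ Spec (CommRingCat.of k)) =
        Spec.map (CommRingCat.ofHom (algebraMap (AlgebraicClosure k) R)) ≫
          Spec.map (CommRingCat.ofHom (algebraMap k (AlgebraicClosure k))) := by
      rw [Category.assoc, hX, ← Spec.map_comp, ← Spec.map_comp]
      congr 1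
      exact CommRingCat.hom_ext (RingHom.ext hgk)
    let h : Spec (CommRingCat.of R) ⟶ Curv2.bc k X (AlgebraicClosure k) :=
      pullback.lift _ _ hcond
    have hpt : Spec.map (CommRingCat.ofHom (ρ : R →+* AlgebraicClosure k)) ≫ h =
        Spec.map (CommRingCat.ofHom c.toRingHom) ≫
          (Curv2.bc k X (AlgebraicClosure k)).fromSpecStalk xb := by
      refine pullback.hom_ext ?_ ?_
      · rw [Category.assoc, pullback.lift_fst, ← Category.assoc, ← Spec.map_comp, Category.assoc]
        show _ = _ ≫ (_ ≫ Curv2.bcFst k X (AlgebraicClosure k))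
        rw [← hsq, ← Category.assoc, ← Spec.map_comp]
        congr 2
        exact CommRingCat.hom_ext (RingHom.ext hρg)
      · rw [Category.assoc, pullback.lift_snd, ← Spec.map_comp, Category.assoc]
        show _ = _ ≫ (_ ≫ Curv2.bcSnd k X (AlgebraicClosure k))
        rw [hsnd, ← Spec.map_comp]
        congr 1
        exact CommRingCat.hom_ext (RingHom.ext fun z => (ρ.commutes z).trans (c.commutes z).symm)
    have : IsLocalHom (CommRingCat.ofHom (ρ : R →+* AlgebraicClosure k)).hom :=
      ⟨fun z hz => hρ.map_nonunit z hz⟩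
    have : IsLocalHom (CommRingCat.ofHom
        c.toRingHom).hom :=
      ⟨fun z hz => hc.map_nonunit z hz⟩
    have hclosed : h (closedPoint R) = xb := by
      have h1 := congrArg (fun F : Spec (CommRingCat.of (AlgebraicClosure k)) ⟶ _ =>
        F (closedPoint (AlgebraicClosure k))) hpt
      have e1 := Spec_closedPoint (R := CommRingCat.of R) (S := CommRingCat.of (AlgebraicClosure k))
        (f := CommRingCat.ofHom (ρ : R →+* AlgebraicClosure k))
      have e2 := Spec_closedPoint (R := (Curv2.bc k X (AlgebraicClosure k)).presheaf.stalk xb)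
        (S := CommRingCat.of (AlgebraicClosure k)) (f := CommRingCat.ofHom c.toRingHom)
      rw [← Scheme.fromSpecStalk_closedPoint (x := xb)]
      rw [← e2, ← e1]
      exact h1
    obtain ⟨φ, hφ⟩ := exists_stalkHom_of_point h hclosed
    have hcomm : CommRingCat.ofHom (algebraMap (AlgebraicClosure k)
        ((Curv2.bc k X (AlgebraicClosure k)).presheaf.stalk xb)) ≫ φ =
        CommRingCat.ofHom (algebraMap (AlgebraicClosure k) R) := by
      apply Spec.map_injective
      rw [Spec.map_comp, ← hsnd, ← Category.assoc, hφ]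
      exact pullback.lift_snd _ _ _
    refine ⟨{ φ.hom with
      commutes' := fun z => RingHom.congr_fun (congrArg CommRingCat.Hom.hom hcomm) z }, fun a => ?_⟩
    have h1 : (Curv2.bcFst k X (AlgebraicClosure k)).stalkMap xb ≫ φ = CommRingCat.ofHom g := by
      apply Spec.map_injective
      rw [← cancel_mono (X.fromSpecStalk _), Spec.map_comp, Category.assoc, hsq,
        ← Category.assoc, hφ]
      exact pullback.lift_fst _ _ _
    exact RingHom.congr_fun (congrArg CommRingCat.Hom.hom h1) a
  · intro R _ _ _ Φ Φ' hΦ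
    suffices Spec.map (CommRingCat.ofHom Φ.toRingHom) = Spec.map (CommRingCat.ofHom Φ'.toRingHom) from
      AlgHom.coe_ringHom_injective (congrArg CommRingCat.Hom.hom (Spec.map_injective this))
    rw [← cancel_mono ((Curv2.bc k X (AlgebraicClosure k)).fromSpecStalk xb)]
    refine pullback.hom_ext ?_ ?_
    · simp only [Category.assoc]
      show _ ≫ (_ ≫ Curv2.bcFst k X (AlgebraicClosure k)) =
        _ ≫ (_ ≫ Curv2.bcFst k X (AlgebraicClosure k))
      rw [← hsq, ← Category.assoc, ← Category.assoc, ← Spec.map_comp, ← Spec.map_comp]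
      congr 2
      exact CommRingCat.hom_ext (RingHom.ext hΦ)
    · simp only [Category.assoc]
      show _ ≫ (_ ≫ Curv2.bcSnd k X (AlgebraicClosure k)) =
        _ ≫ (_ ≫ Curv2.bcSnd k X (AlgebraicClosure k))
      rw [hsnd, ← Spec.map_comp, ← Spec.map_comp]
      congr 1
      exact CommRingCat.hom_ext (RingHom.ext fun z => (Φ.commutes z).trans (Φ'.commutes z).symm)

end Groth.Agent.Curves2
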