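import Groth.Agent.Curves2.AffineNil
import Groth.Agent.Curves2.ChartsToProj
import Mathlib.AlgebraicGeometry.Morphisms.FiniteType

/-! Morphisms to the line with affine charts: lifting through thickenings, projective embedding. -/

set_option autoImplicit false

universe u

open CategoryTheory CategoryTheory.Limits AlgebraicGeometry Opposite TopologicalSpace

noncomputable section

set_option backward.isDefEq.respectTransparency false

namespace Groth.Agent.Curves2

/-- Two affine opens covering `X` with mutually inverse functions cutting out their intersection. -/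
structure LinePair (X : Scheme.{u}) where
  U : X.affineOpens
  V : X.affineOpens
  z : Γ(X, U)
  w : Γ(X, V)
  cover : (U : X.Opens) ⊔ V = ⊤
  hz : X.basicOpen z = (U : X.Opens) ⊓ V
  hw : X.basicOpen w = (U : X.Opens) ⊓ V
  mul_eq : resHom (inf_le_left : (U : X.Opens) ⊓ V ≤ U) z * resHom (inf_le_right : (U : X.Opens) ⊓ V ≤ V) w = 1

theorem basicOpen_resHom {X : Scheme.{u}} {U V : X.Opens} (h : V ≤ U) (a : Γ(X, U)) :
    X.basicOpen (resHom h a) = V ⊓ X.basicOpen a :=
  X.basicOpen_res a (homOfLE h).op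

/-- Transport of the structure along an equality of opens. -/
theorem exists_section_eq {X : Scheme.{u}} {U V : X.Opens} (h : U = V) (a : Γ(X, U)) :
    X.basicOpen (resHom h.ge a) = X.basicOpen a := by
  subst h
  rw [basicOpen_resHom]
  exact inf_eq_right.2 (X.basicOpen_le a)

section Lift

variable {X₀ X : Scheme.{u}} (i : X₀ ⟶ X) [IsClosedImmersion i] [Surjective i]

omit [Surjective i] in
theorem exists_preimage_eq (U₀ : X₀.Opens) : ∃ U : X.Opens, i ⁻¹ᵁ U = U₀ := by
  have he := i.isClosedEmbedding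
  refine ⟨⟨(i '' (U₀ : Set X₀)ᶜ)ᶜ, (he.isClosedMap _ U₀.isOpen.isClosed_compl).isOpen_compl⟩, ?_⟩
  ext x
  refine ⟨fun h => by_contra fun hx => h ⟨x, hx, rfl⟩, fun hx ⟨y, hy, e⟩ => ?_⟩
  exact hy (he.injective e ▸ hx)

theorem isAffineOpen_of_preimage [IsLocallyNoetherian X] (U : X.Opens) (h : IsAffineOpen (i ⁻¹ᵁ U)) :
    IsAffineOpen U := by
  have : IsAffine (i ⁻¹ᵁ U).toScheme := h
  have : IsClosedImmersion (i ∣_ U) := IsZariskiLocalAtTarget.restrict ‹_› U
  have : Surjective (i ∣_ U) := IsZariskiLocalAtTarget.restrict ‹_› U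
  have : IsLocallyNoetherian (U : Scheme.{u}) := LocallyOfFiniteType.isLocallyNoetherian U.ι
  exact isAffine_of_surjective_closedImmersion (i ∣_ U)

include i in
/-- Line pairs lift through a thickening. -/
theorem exists_linePair_of_surjective_closedImmersion [IsLocallyNoetherian X] (D : LinePair X₀) :
    Nonempty (LinePair X) := by
  obtain ⟨U, hU⟩ := exists_preimage_eq i (D.U : X₀.Opens)
  obtain ⟨V, hV⟩ := exists_preimage_eq i (D.V : X₀.Opens)
  have hUa : IsAffineOpen U := isAffineOpen_of_preimage i U (hU ▸ D.U.2)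
  have hVa : IsAffineOpen V := isAffineOpen_of_preimage i V (hV ▸ D.V.2)
  obtain ⟨z, hz⟩ := i.app_surjective U hUa (resHom hU.le D.z)
  obtain ⟨w, hw⟩ := i.app_surjective V hVa (resHom hV.le D.w)
  have hUV : i ⁻¹ᵁ (U ⊓ V) = (D.U : X₀.Opens) ⊓ D.V := by
    rw [← hU, ← hV]; rfl
  have hz1 : X.basicOpen z = U ⊓ V := preimage_injective i <| by
    rw [Scheme.preimage_basicOpen, hz, exists_section_eq hU.symm, D.hz, hUV]
  have hw1 : X.basicOpen w = U ⊓ V := preimage_injective i <| by
    rw [Scheme.preimage_basicOpen, hw, exists_section_eq hV.symm, D.hw, hUV]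
  let W : X.affineOpens := ⟨U ⊓ V, hw1 ▸ hVa.basicOpen w⟩
  set zW := resHom (inf_le_left : U ⊓ V ≤ U) z
  set wW := resHom (inf_le_right : U ⊓ V ≤ V) w
  set δ := zW * wW - 1
  have hδ : δ ∈ i.ker.ideal W := by
    rw [Scheme.Hom.ker_apply, RingHom.mem_ker]
    show i.app (U ⊓ V) (zW * wW - 1) = 0
    rw [map_sub, map_mul, map_one, app_resHom, app_resHom, hz, hw, resHom_resHom, resHom_resHom]
    have h1 := congrArg (resHom hUV.le) D.mul_eq
    rw [map_mul, map_one, resHom_resHom, resHom_resHom] at h1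
    exact sub_eq_zero.2 h1
  have hWV : (W : X.Opens) ≤ V := inf_le_right
  obtain ⟨e, n, hn, hne⟩ := exists_clear i.ker ⟨V, hVa⟩ W w hw1.symm hWV 1 (by rwa [pow_one])
  rw [pow_one] at hn
  obtain ⟨r, hr⟩ := isNilpotent_ker i ⟨V, hVa⟩
  have hnr : n ^ r = 0 := by
    have h1 := Ideal.pow_mem_pow hn r
    rw [hr] at h1
    exact h1
  have hwu : IsUnit wW := by
    have h1 : IsUnit (resHom (U := V) (V := X.basicOpen w) (X.basicOpen_le w) w) :=
      X.toRingedSpace.isUnit_res_basicOpen w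
    have h2 := h1.map (resHom hw1.ge)
    rwa [resHom_resHom] at h2
  have hδr : δ ^ r = 0 := by
    have h1 : (wW ^ e * δ) ^ r = 0 := by
      rw [show wW ^ e * δ = resHom hWV n from hne.symm, ← map_pow, hnr, map_zero]
    rw [mul_pow] at h1
    exact ((hwu.pow e).pow r).mul_right_eq_zero.1 h1
  let m := e * r + 1
  let P : Polynomial ℤ := (∑ j ∈ Finset.range r, (-Polynomial.X) ^ j) ^ m
  have hP : (1 + δ) ^ m * Polynomial.aeval δ P = 1 := by
    rw [map_pow, ← mul_pow, map_sum]
    simp only [map_pow, map_neg, Polynomial.aeval_X]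
    have h1 : (1 + δ) * ∑ j ∈ Finset.range r, (-δ) ^ j = 1 - (-δ) ^ r := by
      rw [← mul_neg_geom_sum]; ring
    rw [h1, neg_pow, hδr, mul_zero, sub_zero, one_pow]
  let w' : Γ(X, V) := ∑ j ∈ Finset.range (P.natDegree + 1), (P.coeff j : Γ(X, V)) * (w ^ (m - e * j) * n ^ j)
  have hw' : resHom hWV w' = wW ^ m * Polynomial.aeval δ P := by
    rw [Polynomial.aeval_eq_sum_range, Finset.mul_sum, map_sum]
    refine Finset.sum_congr rfl fun j _ => ?_
    rw [map_mul, map_intCast, map_mul, map_pow, map_pow, hne, zsmul_eq_mul]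
    by_cases hj : r ≤ j
    · rw [mul_pow, show δ ^ j = δ ^ r * δ ^ (j - r) by rw [← pow_add, Nat.add_sub_cancel' hj], hδr]
      ring
    · have hle : e * j ≤ m := (Nat.mul_le_mul_left e (le_of_not_ge hj)).trans (Nat.le_succ _)
      rw [mul_pow, ← pow_mul, ← mul_assoc (wW ^ (m - e * j)), ← pow_add, Nat.sub_add_cancel hle]
      ring
  have hinv : zW ^ m * resHom hWV w' = 1 := by
    rw [hw', ← mul_assoc, ← mul_pow, show zW * wW = 1 + δ by simp [δ], hP]
  refine ⟨{ U := ⟨U, hUa⟩, V := ⟨V, hVa⟩, z := z ^ m, w := w', cover := ?_, hz := ?_, hw := ?_,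
            mul_eq := by rw [map_pow]; exact hinv }⟩
  · refine preimage_injective i ?_
    show i ⁻¹ᵁ U ⊔ i ⁻¹ᵁ V = ⊤
    rw [hU, hV]; exact D.cover
  · rw [Scheme.basicOpen_pow _ _ (Nat.succ_pos _)]; exact hz1
  · refine preimage_injective i ?_
    have hsub : i.app V w' = i.app V (w ^ m * (P.coeff 0 : Γ(X, V))) := by
      rw [map_sum, Finset.sum_eq_single 0]
      · simp [mul_comm]
      · intro j _ hj
        have : i.app V n = 0 := by
          rw [Scheme.Hom.ker_apply, RingHom.mem_ker] at hn; exact hn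
        rw [map_mul, map_mul, map_pow _ n, this, zero_pow hj, mul_zero, mul_zero]
      · intro h0; simp at h0
    have hc0 : (P.coeff 0 : ℤ) = 1 ∨ r = 0 := by
      rcases Nat.eq_zero_or_pos r with h | h
      · exact Or.inr h
      · refine Or.inl ?_
        rw [Polynomial.coeff_zero_eq_eval_zero, Polynomial.eval_pow, Polynomial.eval_finsetSum,
          Finset.sum_eq_single 0]
        · simp
        · intro j _ hj; simp [zero_pow hj]
        · intro h0; simp at h0; omega
    rw [Scheme.preimage_basicOpen, hsub]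
    rcases hc0 with h | h
    · rw [h, Int.cast_one, mul_one, map_pow, Scheme.basicOpen_pow _ _ (Nat.succ_pos _), ← Scheme.preimage_basicOpen, hw1]
    · have : (1 : Γ(X, V)) = 0 := by rw [← pow_zero n, ← h]; exact hnr
      have hbot : V = ⊥ := by
        rw [← Scheme.basicOpen_of_isUnit X (isUnit_one : IsUnit (1 : Γ(X, V))), this, Scheme.basicOpen_zero]
      rw [← Scheme.preimage_basicOpen]
      refine congrArg (fun O => i ⁻¹ᵁ O) ?_
      exact (le_bot_iff.1 ((X.basicOpen_le _).trans hbot.le)).trans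
        (le_bot_iff.1 ((inf_le_right : U ⊓ V ≤ V).trans hbot.le)).symm

end Lift

/-- A line pair gives a projective embedding. -/
theorem exists_immersion_of_linePair {k : Type u} [Field k] (X : Scheme.{u})
    [X.Over (Spec (CommRingCat.of k))] [LocallyOfFiniteType (X ↘ Spec (CommRingCat.of k))] (D : LinePair X) :
    ∃ (N : ℕ) (φ : X ⟶ CohB1.ProjSpace N k), IsImmersion φ ∧
      φ ≫ CohB1.ProjSpace.toSpec N k = X ↘ Spec (CommRingCat.of k) := by
  classical
  obtain ⟨U, V, z, w, hcover, hz, hw, hzw⟩ := D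
  let κU := Var76.BertiniScheme.const (k := k) X (U : X.Opens)
  let κV := Var76.BertiniScheme.const (k := k) X (V : X.Opens)
  have hgen : ∀ O : X.affineOpens, ∃ (r : ℕ) (g : Fin r → Γ(X, O)), ∀ x, ∃ p,
      MvPolynomial.eval₂Hom (Var76.BertiniScheme.const (k := k) X (O : X.Opens)) g p = x := by
    intro O
    have hft : (Var76.BertiniScheme.const (k := k) X (O : X.Opens)).FiniteType := by
      have h1 := Scheme.Hom.finiteType_appLE (X ↘ Spec (CommRingCat.of k)) (isAffineOpen_top _) O.2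
        (le_top (a := (O : X.Opens)))
      exact h1.comp (RingHom.FiniteType.of_surjective _
        (ConcreteCategory.bijective_of_isIso (Scheme.ΓSpecIso (CommRingCat.of k)).inv).2)
    let : Algebra k Γ(X, O) := (Var76.BertiniScheme.const (k := k) X (O : X.Opens)).toAlgebra
    obtain ⟨r, f, hf⟩ := Algebra.FiniteType.iff_quotient_mvPolynomial''.1 hft
    refine ⟨r, fun i => f (MvPolynomial.X i), fun x => ?_⟩
    obtain ⟨p, rfl⟩ := hf x
    refine ⟨p, ?_⟩
    conv_rhs => rw [MvPolynomial.aeval_unique f]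
    rfl
  obtain ⟨r, gU, hgU⟩ := hgen U
  obtain ⟨s, gV, hgV⟩ := hgen V
  set ρ := resHom (inf_le_left : (U : X.Opens) ⊓ V ≤ U)
  set ρ' := resHom (inf_le_right : (U : X.Opens) ⊓ V ≤ V)
  have clear : ∀ (O : X.affineOpens) (f : Γ(X, O)) (h : (U : X.Opens) ⊓ V ≤ O)
      (_ : X.basicOpen f = (U : X.Opens) ⊓ V) (a : Γ(X, (U : X.Opens) ⊓ V)),
      ∃ (n : ℕ) (b : Γ(X, O)), resHom h b = a * resHom h f ^ n := by
    intro O f h hf a
    let : Algebra Γ(X, O) Γ(X, (U : X.Opens) ⊓ V) := (resHom h).toAlgebra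
    have : IsLocalization.Away f Γ(X, (U : X.Opens) ⊓ V) :=
      O.2.isLocalization_of_eq_basicOpen _ (homOfLE h) hf.symm
    obtain ⟨n, b, hb⟩ := IsLocalization.Away.surj f a
    exact ⟨n, b, hb.symm⟩
  choose nα α₀ hα₀ using fun i => clear V w inf_le_right hw (ρ (gU i))
  choose nβ β₀ hβ₀ using fun i => clear U z inf_le_left hz (ρ' (gV i))
  let n := (Finset.univ.sup nα) + (Finset.univ.sup nβ) + 1
  have hnα : ∀ i, nα i ≤ n := fun i => by
    have := Finset.le_sup (f := nα) (Finset.mem_univ i); omega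
  have hnβ : ∀ i, nβ i ≤ n := fun i => by
    have := Finset.le_sup (f := nβ) (Finset.mem_univ i); omega
  let α : Fin r → Γ(X, V) := fun i => α₀ i * w ^ (n - nα i)
  let β : Fin s → Γ(X, U) := fun i => β₀ i * z ^ (n - nβ i)
  have hα : ∀ i, ρ' (α i) = ρ (gU i) * ρ' w ^ n := fun i => by
    rw [map_mul, map_pow, hα₀, mul_assoc, ← pow_add, Nat.add_sub_cancel' (hnα i)]
  have hβ : ∀ i, ρ (β i) = ρ' (gV i) * ρ z ^ n := fun i => by
    rw [map_mul, map_pow, hβ₀, mul_assoc, ← pow_add, Nat.add_sub_cancel' (hnβ i)]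
  let aU : Fin (r + s + 1 + 1) → Γ(X, U) := Fin.cons 1 (Fin.cons (z ^ n) (Fin.append gU β))
  let aV : Fin (r + s + 1 + 1) → Γ(X, V) := Fin.cons (w ^ n) (Fin.cons 1 (Fin.append α gV))
  have hone : ρ z ^ n * ρ' w ^ n = 1 := by rw [← mul_pow, hzw, one_pow]
  have key : ∀ l, ρ (aU l) = ρ z ^ n * ρ' (aV l) := by
    refine Fin.cases ?_ (Fin.cases ?_ ?_)
    · simp only [aU, aV, Fin.cons_zero, map_one, map_pow]; exact hone.symm
    · simp [aU, aV]
    · refine fun l => ?_
      simp only [aU, aV, Fin.cons_succ]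
      refine Fin.addCases (fun i => ?_) (fun i => ?_) l
      · rw [Fin.append_left, Fin.append_left, hα, ← mul_assoc, mul_comm (ρ z ^ n), mul_assoc, hone, mul_one]
      · rw [Fin.append_right, Fin.append_right, hβ, mul_comm]
  let W : ULift.{u} Bool → X.Opens := fun b => cond b.down (U : X.Opens) V
  let a : ∀ b, Fin (r + s + 1 + 1) → Γ(X, W b) := fun
    | ⟨true⟩ => aU
    | ⟨false⟩ => aV
  let j : ULift.{u} Bool → Fin (r + s + 1 + 1) := fun b => cond b.down 0 1
  refine ⟨r + s + 1, Charts.exists_immersion W ?_ ?_ a j ?_ ?_ ?_ ?_⟩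
  · rintro ⟨b⟩; cases b
    exacts [V.2, U.2]
  · refine top_le_iff.1 (hcover.ge.trans (sup_le ?_ ?_))
    exacts [le_iSup W ⟨true⟩, le_iSup W ⟨false⟩]
  · rintro ⟨b⟩; cases b <;> simp [a, j, aU, aV]
  · rintro ⟨b⟩ x
    cases b
    · obtain ⟨p, rfl⟩ := hgV x
      refine ⟨MvPolynomial.rename (fun i => (Fin.natAdd r i).succ.succ) p, ?_⟩
      rw [MvPolynomial.coe_eval₂Hom, MvPolynomial.eval₂_rename]
      congr 1
      funext i
      simp [a, aV]
    · obtain ⟨p, rfl⟩ := hgU x
      refine ⟨MvPolynomial.rename (fun i => (Fin.castAdd s i).succ.succ) p, ?_⟩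
      rw [MvPolynomial.coe_eval₂Hom, MvPolynomial.eval₂_rename]
      congr 1
      funext i
      simp [a, aU]
  · rintro ⟨b⟩ ⟨b'⟩ l
    cases b <;> cases b'
    · show resHom _ (aV l) = resHom _ (aV 1) * resHom _ (aV l)
      simp [aV]
    · show resHom (inf_le_left : (V : X.Opens) ⊓ U ≤ V) (aV l) =
        resHom (inf_le_left : (V : X.Opens) ⊓ U ≤ V) (aV 0) * resHom (inf_le_right : (V : X.Opens) ⊓ U ≤ U) (aU l)
      have := congrArg (resHom (inf_comm (V : X.Opens) U).le) (key l)
      simp only [map_mul, map_pow, ρ, ρ', resHom_resHom] at this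
      have h1 := congrArg (resHom (inf_comm (V : X.Opens) U).le) hone
      simp only [map_mul, map_pow, map_one, ρ, ρ', resHom_resHom] at h1
      simp only [aV, Fin.cons_zero, map_pow] at this ⊢
      rw [this, ← mul_assoc, mul_comm _ (resHom _ z ^ n), h1, one_mul]
    · show ρ (aU l) = ρ (aU 1) * ρ' (aV l)
      rw [key]; simp [aU]
    · show resHom _ (aU l) = resHom _ (aU 0) * resHom _ (aU l)
      simp [aU]
  · rintro ⟨b⟩ ⟨b'⟩
    cases b <;> cases b'
    · exact X.basicOpen_le _
    · show X.basicOpen (aU 1) ≤ (V : X.Opens)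
      simp only [aU, Fin.cons_one, Fin.cons_zero]
      rw [Scheme.basicOpen_pow _ _ (Nat.succ_pos _), hz]
      exact inf_le_right
    · show X.basicOpen (aV 0) ≤ (U : X.Opens)
      simp only [aV, Fin.cons_zero]
      rw [Scheme.basicOpen_pow _ _ (Nat.succ_pos _), hw]
      exact inf_le_left
    · exact X.basicOpen_le _

end Groth.Agent.Curves2
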