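import Groth.Agent.Curves2.Branch
import Groth.Agent.Curves2.LinePair
import Groth.Agent.Curves2.CurveComponents

/-! Every reduced separated curve admits an affine morphism to the line. -/

set_option autoImplicit false

universe u

open CategoryTheory CategoryTheory.Limits AlgebraicGeometry Opposite TopologicalSpace

noncomputable section

set_option backward.isDefEq.respectTransparency false

namespace Groth.Agent.Curves2

variable {X : Scheme.{u}}

namespace Branch

variable {C : Set X} (B : Branch X C)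

/-- The map from the local ring at the point to that at the generic point. -/
def toGen : X.presheaf.stalk B.x →+* X.presheaf.stalk B.η :=
  (X.presheaf.stalkSpecializes (B.spec B.x B.hx)).hom

theorem toGen_germ {U : X.Opens} (h : B.x ∈ U) (h' : B.η ∈ U) (a : Γ(X, U)) :
    B.toGen (X.presheaf.germ U B.x h a) = X.presheaf.germ U B.η h' a := by
  show (X.presheaf.germ U B.x h ≫ X.presheaf.stalkSpecializes (B.spec B.x B.hx)).hom a = _
  rw [TopCat.Presheaf.germ_stalkSpecializes]

theorem eta_mem {U : X.Opens} (h : B.x ∈ U) : B.η ∈ U := (B.spec B.x B.hx).mem_open U.2 h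

theorem eq_zero_of_germ [AlgebraicGeometry.IsReduced X] {U : X.Opens} (hU : U ≤ B.O) (h : B.η ∈ U)
    (a : Γ(X, U)) (ha : X.presheaf.germ U B.η h a = 0) : a = 0 := by
  rw [← basicOpen_eq_bot_iff]
  refine bot_unique fun y hy => ?_
  have h1 := (B.spec y (hU (X.basicOpen_le a hy))).mem_open (X.basicOpen a).2 hy
  have h2 := (X.mem_basicOpen a _ h).1 h1
  rw [ha] at h2
  have : Nontrivial (X.presheaf.stalk B.η) := inferInstance
  exact not_isUnit_zero h2

theorem exists_not_regular (k : Type u) [Field k] [X.Over (Spec (CommRingCat.of k))]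
    [IsSeparated (X ↘ Spec (CommRingCat.of k))] {W : X.Opens} (hW : IsAffineOpen W) (hη : B.η ∈ W)
    (hx : B.x ∉ W) : ∃ s : Γ(X, W), X.presheaf.germ W B.η hη s ∉ B.toGen.range := by
  by_contra hcon
  push Not at hcon
  choose r hr using hcon
  have := B.dom
  have hι : Function.Injective B.toGen := B.inj
  let ψ : Γ(X, W) →+* X.presheaf.stalk B.x :=
    { toFun := r
      map_one' := hι (by rw [hr, map_one, map_one])
      map_mul' := fun a b => hι (by simp only [hr, map_mul])
      map_zero' := hι (by rw [hr, map_zero, map_zero])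
      map_add' := fun a b => hι (by simp only [hr, map_add]) }
  have : X.IsSeparated := ⟨by
    rw [← terminal.comp_from (X ↘ Spec (CommRingCat.of k))]; infer_instance⟩
  have : IsDominant (Spec.map (CommRingCat.ofHom B.toGen)) :=
    ⟨(PrimeSpectrum.denseRange_comap_iff_ker_le_nilRadical _).2
      ((le_of_eq ((RingHom.injective_iff_ker_eq_bot _).1 hι)).trans bot_le)⟩
  have key : Spec.map (CommRingCat.ofHom ψ) ≫ hW.fromSpec = X.fromSpecStalk B.x := by
    refine ext_of_isDominant (Spec.map (CommRingCat.ofHom B.toGen)) ?_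
    rw [← Category.assoc, ← Spec.map_comp]
    refine Eq.trans ?_ (Scheme.SpecMap_stalkSpecializes_fromSpecStalk (B.spec B.x B.hx)).symm
    rw [← hW.fromSpecStalk_eq_fromSpecStalk hη, IsAffineOpen.fromSpecStalk]
    congr 2
    exact CommRingCat.hom_ext (RingHom.ext hr)
  refine hx ?_
  rw [← Scheme.fromSpecStalk_closedPoint (X := X) (x := B.x), ← key]
  exact (hW.range_fromSpec).le ⟨_, rfl⟩

/-- An element of the local ring inverting, at the generic point, a multiple of a pole by `e`. -/
theorem exists_inverse [IsLocallyNoetherian X] (hdim : topologicalKrullDim X ≤ 1)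
    (s e : X.presheaf.stalk B.η) (hs : s ∉ B.toGen.range) (he : e ≠ 0) :
    ∃ (N : ℕ) (v : X.presheaf.stalk B.x),
      v ∈ IsLocalRing.maximalIdeal _ ∧ s ^ N * e * B.toGen v = 1 := by
  have := B.dom
  have := B.val
  let : Field (X.presheaf.stalk B.η) := B.field.toField
  have hι : Function.Injective B.toGen := B.inj
  have hs0 : s ≠ 0 := fun h => hs ⟨0, by rw [h, map_zero]⟩
  obtain ⟨r, r', hr'0, hsr⟩ := B.frac s
  have hsr : s * B.toGen r' = B.toGen r := hsr
  have hr'0 : B.toGen r' ≠ 0 := hr'0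
  obtain ⟨u, hu⟩ : r ∣ r' := by
    refine ((ValuationRing.iff_dvd_total.1 B.val).total r r').resolve_right ?_
    rintro ⟨c, rfl⟩
    refine hs ⟨c, mul_left_cancel₀ hr'0 ?_⟩
    rw [← map_mul, ← hsr, mul_comm]
  have hsu : s * B.toGen u = 1 := by
    have h1 : B.toGen r * (s * B.toGen u) = B.toGen r * 1 := by
      rw [mul_one]
      calc B.toGen r * (s * B.toGen u) = s * B.toGen r' := by rw [hu, map_mul]; ring
        _ = B.toGen r := hsr
    refine mul_left_cancel₀ ?_ h1
    rw [← hsr]
    exact mul_ne_zero hs0 hr'0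
  have hu0 : u ≠ 0 := fun h => one_ne_zero (α := X.presheaf.stalk B.η) (by
    rw [← hsu, h, map_zero, mul_zero])
  have humax : u ∈ IsLocalRing.maximalIdeal (X.presheaf.stalk B.x) := by
    refine (IsLocalRing.mem_maximalIdeal u).2 fun hun => hs ?_
    obtain ⟨u', hu'⟩ := hun.exists_right_inv
    refine ⟨u', ?_⟩
    calc B.toGen u' = s * B.toGen u * B.toGen u' := by rw [hsu, one_mul]
      _ = s := by rw [mul_assoc, ← map_mul, hu', map_one, mul_one]
  obtain ⟨a, b, hb0, heb⟩ := B.frac e
  have heb : e * B.toGen b = B.toGen a := heb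
  have hb0 : B.toGen b ≠ 0 := hb0
  have ha0 : a ≠ 0 := fun h => mul_ne_zero he hb0 (by rw [heb, h, map_zero])
  have hk : Ring.KrullDimLE 1 (X.presheaf.stalk B.x) :=
    Ring.krullDimLE_iff.mpr ((Crv77.stalk_dim_le B.x).trans hdim)
  have hrad : u ∈ (Ideal.span {a * u}).radical := by
    rw [Ideal.radical_eq_sInf, Ideal.mem_sInf]
    rintro q ⟨hle, hq⟩
    have hq0 : q ≠ ⊥ := fun h => mul_ne_zero ha0 hu0
      (by simpa [h] using hle (Ideal.subset_span (Set.mem_singleton _)))
    rw [IsLocalRing.eq_maximalIdeal (Ring.krullDimLE_one_iff_of_noZeroDivisors.mp hk q hq0 hq)]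
    exact humax
  obtain ⟨N, hN⟩ := hrad
  obtain ⟨q, hq⟩ := Ideal.mem_span_singleton'.1 hN
  refine ⟨N, q * b * u, Ideal.mul_mem_left _ _ humax, ?_⟩
  calc s ^ N * e * B.toGen (q * b * u) = s ^ N * (B.toGen q * (e * B.toGen b) * B.toGen u) := by
        rw [map_mul, map_mul]; ring
    _ = s ^ N * B.toGen (u ^ N) := by rw [heb, ← map_mul, ← map_mul, mul_assoc q, hq]
    _ = 1 := by rw [map_pow, ← mul_pow, hsu, one_pow]

end Branch

theorem isAffineOpen_of_no_proper_curve (k : Type u) [Field k] [X.Over (Spec (CommRingCat.of k))]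
    [IsSeparated (X ↘ Spec (CommRingCat.of k))] [LocallyOfFiniteType (X ↘ Spec (CommRingCat.of k))]
    [IsNoetherian X] (hdim : topologicalKrullDim X ≤ 1) (W : X.Opens)
    (h : ∀ (Y : Scheme.{u}) (j : Y ⟶ X), IsIntegral Y → IsProper (j ≫ (X ↘ Spec (CommRingCat.of k))) →
      Set.range j ⊆ W → Set.range j ∈ irreducibleComponents (X : Type u) →
      topologicalKrullDim (Set.range j) = 1 → False) :
    IsAffineOpen W := by
  let : (W : Scheme.{u}).Over (Spec (CommRingCat.of k)) := ⟨W.ι ≫ (X ↘ Spec (CommRingCat.of k))⟩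
  have : IsSeparated ((W : Scheme.{u}) ↘ Spec (CommRingCat.of k)) :=
    inferInstanceAs (IsSeparated (W.ι ≫ (X ↘ Spec (CommRingCat.of k))))
  have : LocallyOfFiniteType ((W : Scheme.{u}) ↘ Spec (CommRingCat.of k)) :=
    inferInstanceAs (LocallyOfFiniteType (W.ι ≫ (X ↘ Spec (CommRingCat.of k))))
  have : IsLocallyNoetherian (W : Scheme.{u}) := LocallyOfFiniteType.isLocallyNoetherian W.ι
  have : NoetherianSpace (W : Scheme.{u}) := inferInstanceAs (NoetherianSpace (W : Set X))
  have : CompactSpace (W : Scheme.{u}) := inferInstance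
  have : IsNoetherian (W : Scheme.{u}) := {}
  have hdW : topologicalKrullDim (W : Scheme.{u}) ≤ 1 :=
    (W.ι.isOpenEmbedding.isInducing.topologicalKrullDim_le).trans hdim
  refine isAffine_of_components k (W : Scheme.{u}) hdW fun Z hZ hZ1 hp => ?_
  let I := Scheme.IdealSheafData.vanishingIdeal Z
  let j : I.subscheme ⟶ X := I.subschemeι ≫ W.ι
  have : IsIntegral I.subscheme := isIntegral_vanishingIdeal Z hZ.1
  have hpj : IsProper (j ≫ (X ↘ Spec (CommRingCat.of k))) := by
    show IsProper ((I.subschemeι ≫ W.ι) ≫ _)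
    rw [Category.assoc]; exact hp
  have : IsProper j := IsProper.of_comp j (X ↘ Spec (CommRingCat.of k))
  have hrange : Set.range j = W.ι '' (Z : Set (W : Scheme.{u})) := by
    rw [← range_vanishingIdeal Z]
    simp only [j, Scheme.Hom.comp_base, TopCat.coe_comp]
    exact Set.range_comp _ _
  have hrW : Set.range j ⊆ W := by rw [hrange]; rintro _ ⟨w, -, rfl⟩; exact w.2
  have hcl : IsClosed (Set.range j) := j.isClosedMap.isClosed_range
  have hirr : IsIrreducible (Set.range j) := by
    rw [hrange]; exact hZ.1.image _ W.ι.continuous.continuousOn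
  refine h _ j inferInstance hpj hrW ⟨hirr, fun T hT hle => ?_⟩ ?_
  · obtain ⟨t, ht⟩ := hirr.1
    have hpre : IsIrreducible (W.ι ⁻¹' T) := by
      refine IsIrreducible.preimage hT W.ι.isOpenEmbedding ?_
      exact ⟨t, hle ht, by rw [Scheme.Opens.range_ι]; exact hrW ht⟩
    have hZT : W.ι ⁻¹' T = (Z : Set (W : Scheme.{u})) := by
      refine le_antisymm (hZ.2 hpre ?_) ?_ <;> intro w hw <;> exact hle (hrange.ge ⟨w, hw, rfl⟩)
    have h1 : T ∩ W ⊆ Set.range j := fun y hy => by
      rw [hrange]; exact ⟨⟨y, hy.2⟩, hZT.le hy.1, rfl⟩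
    exact ((subset_closure_inter_of_isPreirreducible_of_isOpen hT.2 W.2 ⟨t, hle ht, hrW ht⟩).trans
      (closure_mono h1)).trans hcl.closure_eq.le
  · rw [hrange]
    exact ((W.ι.isOpenEmbedding.isEmbedding.homeomorphImage (Z : Set (W : Scheme.{u})))
      |>.isHomeomorph.topologicalKrullDim_eq).symm.trans hZ1

/-- A reduced separated one-dimensional scheme of finite type over a field has a line pair. -/
theorem exists_linePair_of_isReduced (k : Type u) [Field k] (X : Scheme.{u})
    [X.Over (Spec (CommRingCat.of k))] [IsSeparated (X ↘ Spec (CommRingCat.of k))]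
    [LocallyOfFiniteType (X ↘ Spec (CommRingCat.of k))] [IsNoetherian X] [AlgebraicGeometry.IsReduced X]
    (hdim : topologicalKrullDim X ≤ 1) : Nonempty (LinePair X) := by
  classical
  let ι := {C : Set X // C ∈ irreducibleComponents (X : Type u) ∧ topologicalKrullDim C = 1}
  have : Finite ι := (TopologicalSpace.NoetherianSpace.finite_irreducibleComponents.subset
    (fun C (hC : C ∈ irreducibleComponents (X : Type u) ∧ topologicalKrullDim C = 1) => hC.1)).to_subtype
  have := Fintype.ofFinite ι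
  let B : ∀ i : ι, Branch X i.1 := fun i => (exists_branch k X hdim i.2.1 i.2.2).some
  have hexcl : ∀ i j : ι, i ≠ j → ∀ y ∈ (B i).O, y ∉ j.1 := fun i j h y hy hy' =>
    Set.disjoint_left.1 ((B i).excl j.1 j.2.1 fun e => h (Subtype.ext e.symm)) hy hy'
  let F : Set X := Set.range fun i => (B i).x
  have hF : IsClosed F := by
    rw [show F = ⋃ i, {(B i).x} by ext y; simp [F, eq_comm]]; exact isClosed_iUnion_of_finite fun i => (B i).closed
  let W : X.Opens := ⟨Fᶜ, hF.isOpen_compl⟩
  have hxW : ∀ i, (B i).x ∉ W := fun i h => h ⟨i, rfl⟩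
  have hηW : ∀ i, (B i).η ∈ W := by
    rintro i ⟨j, hj⟩
    by_cases h : j = i
    · subst h; exact (B j).ne hj
    · exact hexcl i j (Ne.symm h) _ (B i).hη ((hj : (B j).x = (B i).η) ▸ (B j).sub (B j).hx)
  have hxO : ∀ i j, i ≠ j → (B j).x ∉ (B i).O := fun i j h hm => hexcl i j h _ hm ((B j).sub (B j).hx)
  have hWaff : IsAffineOpen W := isAffineOpen_of_no_proper_curve k hdim W fun Y j _ _ hjW hjC hj1 => by
    exact hxW ⟨_, hjC, hj1⟩ (hjW ((B ⟨_, hjC, hj1⟩).sub (B ⟨_, hjC, hj1⟩).hx))
  have hfield : ∀ i, IsField (X.presheaf.stalk (B i).η) := fun i => (B i).field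
  have hloc : ∀ i, ∃ g : Γ(X, W), (∀ j, j ≠ i → X.presheaf.germ W (B j).η (hηW j) g = 0) ∧
      ∃ v, v ∈ IsLocalRing.maximalIdeal _ ∧ X.presheaf.germ W (B i).η (hηW i) g * (B i).toGen v = 1 := by
    intro i
    obtain ⟨s, hs⟩ := (B i).exists_not_regular k hWaff (hηW i) (hxW i)
    obtain ⟨e, heO, hηe⟩ := hWaff.exists_basicOpen_le (V := (B i).O) (⟨(B i).η, (B i).hη⟩) (hηW i)
    have he0 : X.presheaf.germ W (B i).η (hηW i) e ≠ 0 := fun h0 => by
      have := (X.mem_basicOpen e _ (hηW i)).1 hηe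
      rw [h0] at this
      exact not_isUnit_zero this
    obtain ⟨N, v, hv, hinv⟩ := (B i).exists_inverse hdim _ _ hs he0
    refine ⟨s ^ N * e, fun j hj => ?_, v, hv, by rw [map_mul, map_pow]; exact hinv⟩
    by_contra h0
    let : Field (X.presheaf.stalk (B j).η) := (hfield j).toField
    have hmem : (B j).η ∈ X.basicOpen (s ^ N * e) := (X.mem_basicOpen _ _ (hηW j)).2 (Ne.isUnit h0)
    rw [Scheme.basicOpen_mul] at hmem
    exact hexcl i j (Ne.symm hj) _ (heO hmem.2) ((B j).sub (B j).hη)
  choose g hg0 v hvm hginv using hloc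
  let f : Γ(X, W) := ∑ i, g i
  have hfη : ∀ i, X.presheaf.germ W (B i).η (hηW i) f * (B i).toGen (v i) = 1 := by
    intro i
    rw [map_sum, Finset.sum_eq_single i (fun j _ hj => hg0 j i (Ne.symm hj))
      (fun h => absurd (Finset.mem_univ i) h)]
    exact hginv i
  have hnb : ∀ i, ∃ (O' : X.Opens) (_ : (B i).x ∈ O') (a : Γ(X, O')), O' ≤ (B i).O ∧
      (B i).x ∉ X.basicOpen a ∧
      resHom (inf_le_left : O' ⊓ W ≤ O') a * resHom (inf_le_right : O' ⊓ W ≤ W) f = 1 := by
    intro i
    obtain ⟨O'', hx'', a'', ha''⟩ := TopCat.Presheaf.exists_germ_eq X.presheaf (v i)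
    have hx' : (B i).x ∈ O'' ⊓ (B i).O := ⟨hx'', (B i).hx⟩
    let a : Γ(X, O'' ⊓ (B i).O) := resHom inf_le_left a''
    have hga : X.presheaf.germ _ (B i).x hx' a = v i :=
      (TopCat.Presheaf.germ_res_apply _ _ _ _ _).trans ha''
    refine ⟨_, hx', a, inf_le_right, fun hmem => ?_, ?_⟩
    · have := (X.mem_basicOpen a _ hx').1 hmem
      rw [hga] at this
      exact (IsLocalRing.mem_maximalIdeal _).1 (hvm i) this
    · have hη' : (B i).η ∈ O'' ⊓ (B i).O := (B i).eta_mem hx'
      refine sub_eq_zero.1 ((B i).eq_zero_of_germ (inf_le_left.trans inf_le_right) ⟨hη', hηW i⟩ _ ?_)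
      rw [map_sub, map_mul, map_one, resHom, resHom, TopCat.Presheaf.germ_res_apply,
        TopCat.Presheaf.germ_res_apply, ← (B i).toGen_germ hx' hη', hga, mul_comm, hfη, sub_self]
  choose O' hx' a hO' hna hmul using hnb
  let P : Option ι → X.Opens := fun o => o.elim (X.basicOpen f) O'
  have hfU : IsUnit (resHom (X.basicOpen_le f) f) := X.toRingedSpace.isUnit_res_basicOpen f
  obtain ⟨b, hb⟩ := hfU.exists_left_inv
  let sec : ∀ o, Γ(X, P o) := fun
    | none => b
    | some i => a i
  have hOW : ∀ i, O' i ⊓ W ≤ X.basicOpen f := fun i y hy => by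
    have h1 := X.basicOpen_of_isUnit (IsUnit.of_mul_eq_one_right _ (hmul i))
    rw [basicOpen_resHom] at h1
    exact (h1.ge hy).2
  have hcompat : TopCat.Presheaf.IsCompatible X.sheaf.1 P sec := by
    have hcase : ∀ i, resHom (inf_le_left : O' i ⊓ X.basicOpen f ≤ O' i) (a i) =
        resHom (inf_le_right : O' i ⊓ X.basicOpen f ≤ X.basicOpen f) b := by
      intro i
      have h1 := congrArg (resHom (inf_le_inf_left (O' i) (X.basicOpen_le f))) (hmul i)
      rw [map_mul, map_one, resHom_resHom, resHom_resHom] at h1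
      have h2 := congrArg (resHom (inf_le_right : O' i ⊓ X.basicOpen f ≤ X.basicOpen f)) hb
      rw [map_mul, map_one, resHom_resHom] at h2
      calc resHom _ (a i) = resHom _ (a i) * (resHom _ b * resHom _ f) := by rw [h2, mul_one]
        _ = resHom _ b * (resHom _ (a i) * resHom _ f) := by ring
        _ = resHom _ b := by rw [h1, mul_one]
    rintro (_ | i) (_ | j)
    · rfl
    · have := congrArg (resHom (inf_comm (X.basicOpen f) (O' j)).le) (hcase j)
      rw [resHom_resHom, resHom_resHom] at this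
      exact this.symm
    · exact hcase i
    · by_cases h : i = j
      · subst h; rfl
      · have hbot : (O' i ⊓ O' j : X.Opens) = ⊥ := bot_unique fun y hy =>
          hexcl i j h y (hO' i hy.1) ((B j).sub (hO' j hy.2))
        have hz : ∀ c : Γ(X, O' i ⊓ O' j), c = 0 := fun c =>
          (basicOpen_eq_bot_iff c).1 (le_bot_iff.1 ((X.basicOpen_le c).trans hbot.le))
        exact (hz _).trans (hz _).symm
  let V : X.Opens := ⨆ o, P o
  have hPV : ∀ o, P o ≤ V := le_iSup P
  obtain ⟨w, hw, -⟩ := X.sheaf.existsUnique_gluing' P V (fun o => homOfLE (hPV o)) le_rfl sec hcompat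
  have hw' : ∀ o, resHom (hPV o) w = sec o := hw
  have hWV : W ⊓ V = X.basicOpen f := by
    refine le_antisymm ?_ (le_inf (X.basicOpen_le f) (hPV none))
    rintro y ⟨hyW, hyV⟩
    obtain ⟨(_ | i), hi⟩ := Opens.mem_iSup.1 hyV
    exacts [hi, hOW i ⟨hi, hyW⟩]
  have hbw : X.basicOpen w = W ⊓ V := by
    rw [hWV]
    refine le_antisymm (fun y hy => ?_) fun y hy => ?_
    · obtain ⟨(_ | i), hi⟩ := Opens.mem_iSup.1 (X.basicOpen_le w hy)
      · exact hi
      have h1 : y ∈ X.basicOpen (a i) := by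
        have h0 : y ∈ X.basicOpen (resHom (hPV (some i)) w) := by
          rw [basicOpen_resHom]; exact ⟨hi, hy⟩
        rw [hw' (some i)] at h0
        exact h0
      by_cases hyW : y ∈ W
      · exact hOW i ⟨hi, hyW⟩
      obtain ⟨j, rfl⟩ : y ∈ F := not_not.1 hyW
      by_cases h : i = j
      · subst h; exact absurd h1 (hna i)
      · exact absurd (hO' i hi) (hxO i j h)
    · have h1 : y ∈ X.basicOpen (resHom (hPV none) w) := by
        rw [hw' none]
        rw [show X.basicOpen (sec none) = X.basicOpen f from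
          X.basicOpen_of_isUnit (IsUnit.of_mul_eq_one _ hb)]
        exact hy
      rw [basicOpen_resHom] at h1
      exact h1.2
  have hVaff : IsAffineOpen V := by
    refine isAffineOpen_of_no_proper_curve k hdim V fun Y j hY hp hjV hjC hj1 => ?_
    let i : ι := ⟨_, hjC, hj1⟩
    have htop : (⊤ : Y.Opens) ≤ j ⁻¹ᵁ V := fun y _ => hjV ⟨y, rfl⟩
    let c : Γ(Y, ⊤) := resHom htop (j.app V w)
    have hc : Y.basicOpen c = j ⁻¹ᵁ X.basicOpen w := by
      rw [basicOpen_resHom, Scheme.preimage_basicOpen, top_inf_eq]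
    obtain ⟨yη, hyη⟩ := (B i).sub (B i).hη
    obtain ⟨yx, hyx⟩ := (B i).sub (B i).hx
    have hfY : IsField Γ(Y, ⊤) :=
      isField_of_universallyClosed (K := k) (j ≫ (X ↘ Spec (CommRingCat.of k)))
    have hηw : yη ∈ Y.basicOpen c := by
      rw [hc]
      show j yη ∈ X.basicOpen w
      rw [hbw, hWV, hyη]
      exact (X.mem_basicOpen f _ (hηW i)).2 (IsUnit.of_mul_eq_one _ (hfη i))
    have hcne : c ≠ 0 := fun h0 => by rw [h0, Scheme.basicOpen_zero] at hηw; exact hηw
    have hxw : yx ∈ Y.basicOpen c := by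
      obtain ⟨c', hc'⟩ := hfY.mul_inv_cancel hcne
      rw [Scheme.basicOpen_of_isUnit _ (IsUnit.of_mul_eq_one _ hc')]; trivial
    rw [hc] at hxw
    have : (B i).x ∈ X.basicOpen w := hyx ▸ hxw
    rw [hbw] at this
    exact hxW i this.1
  refine ⟨{ U := ⟨W, hWaff⟩, V := ⟨V, hVaff⟩, z := f, w := w, cover := ?_, hz := hWV.symm, hw := hbw
            mul_eq := ?_ }⟩
  · refine top_le_iff.1 fun y _ => ?_
    by_cases hy : y ∈ W
    · exact Or.inl hy
    obtain ⟨i, rfl⟩ : y ∈ F := not_not.1 hy
    exact Or.inr (hPV (some i) (hx' i))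
  · show resHom (inf_le_left : W ⊓ V ≤ W) f * resHom (inf_le_right : W ⊓ V ≤ V) w = 1
    have h2 := congrArg (resHom hWV.le) hb
    have h3 : resHom (U := V) (V := X.basicOpen f) (hPV none) w = b := hw' none
    rw [map_mul, map_one, ← h3, resHom_resHom, resHom_resHom, mul_comm] at h2
    exact h2

end Groth.Agent.Curves2
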