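import Groth.Prelude.Def_W4c3cyccovratcurvTree
import Mathlib.Combinatorics.SimpleGraph.Connectivity.Connected
import Mathlib.Logic.Function.Basic

/-! Connectedness of marked trees under conic deformations: every tree moves to the marked star. -/

namespace Groth.Agent.Curves2

open W4c3cyccovratcurv SimpleGraph Relation

variable {k n : ℕ}

theorem conicAdj_symm {T₁ T₂ : MarkedTree k} (h : ConicAdj T₁ T₂) : ConicAdj T₂ T₁ := by
  obtain ⟨u₁, w₁, u₂, w₂, h₁, h₂, φ, hu, hm⟩ := h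
  refine ⟨u₂, w₂, u₁, w₁, h₂, h₁, φ.symm, ?_, fun i => ?_⟩
  · rw [← hu]; exact φ.symm_apply_apply _
  · rw [← hm i]; exact φ.symm_apply_apply _

theorem conicAdj_of_eq {G G' : SimpleGraph (Fin n)} (hG : G.IsTree) (hG' : G'.IsTree)
    {m m' : Fin k → Fin n} {u w : Fin n} (h : G.Adj u w) (h' : G'.Adj u w)
    (hc : contract G u w = contract G' u w)
    (hm : ∀ i, contractMark m u w h.ne i = contractMark m' u w h'.ne i) :
    ConicAdj ⟨n, G, hG, m⟩ ⟨n, G', hG', m'⟩ :=
  ⟨u, w, u, w, h, h', ⟨Equiv.refl _, by rw [hc]; exact Iff.rfl⟩, rfl, hm⟩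

/-- move the marks one step along an edge -/
theorem conicAdj_mark {G : SimpleGraph (Fin n)} (hG : G.IsTree) {u w : Fin n} (h : G.Adj u w)
    (m : Fin k → Fin n) (i : Fin k) (hi : m i = w) :
    ConicAdj ⟨n, G, hG, m⟩ ⟨n, G, hG, Function.update m i u⟩ := by
  refine conicAdj_of_eq hG hG h h rfl fun j => ?_
  by_cases hj : j = i
  · subst hj
    simp [contractMark, hi, h.ne]
  · simp [contractMark, Function.update_of_ne hj]

theorem reflTransGen_marks {G : SimpleGraph (Fin n)} (hG : G.IsTree) (z : Fin n) (m : Fin k → Fin n) :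
    ReflTransGen ConicAdj (⟨n, G, hG, m⟩ : MarkedTree k) ⟨n, G, hG, fun _ => z⟩ := by
  suffices H : ∀ s : Finset (Fin k), ∀ m : Fin k → Fin n, (∀ i ∉ s, m i = z) →
      ReflTransGen ConicAdj (⟨n, G, hG, m⟩ : MarkedTree k) ⟨n, G, hG, fun _ => z⟩ from
    H Finset.univ m fun i hi => absurd (Finset.mem_univ i) hi
  intro s
  induction s using Finset.induction_on with
  | empty =>
    intro m hm
    obtain rfl : m = fun _ => z := funext fun i => hm i (by simp)
    exact .refl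
  | insert i s hi ih =>
    intro m hm
    obtain ⟨p⟩ := hG.connected.preconnected (m i) z
    have : ∀ {a b : Fin n} (p : G.Walk a b) (m : Fin k → Fin n), m i = a →
        ReflTransGen ConicAdj (⟨n, G, hG, m⟩ : MarkedTree k) ⟨n, G, hG, Function.update m i b⟩ := by
      intro a b p
      induction p with
      | nil => intro m hm; rw [← hm, Function.update_eq_self]
      | @cons a c b hac q ihq =>
        intro m hm
        refine (ReflTransGen.single (conicAdj_mark hG hac.symm m i hm)).trans ?_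
        have := ihq (Function.update m i c) (Function.update_self _ _ _)
        rwa [Function.update_idem] at this
    refine (this p m rfl).trans (ih _ fun j hj => ?_)
    by_cases hji : j = i
    · subst hji; exact Function.update_self _ _ _
    · rw [Function.update_of_ne hji]; exact hm j (by simp [hji, hj])

/-- the star centred at `z` -/
def star' (z : Fin n) : SimpleGraph (Fin n) := SimpleGraph.fromRel fun a _ => a = z

theorem eq_star_of_forall_adj {G : SimpleGraph (Fin n)} (hG : G.IsTree) {z : Fin n}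
    (h : ∀ v, v ≠ z → G.Adj z v) : G = star' z := by
  ext a b
  simp only [star', SimpleGraph.fromRel_adj]
  refine ⟨fun hab => ⟨hab.ne, ?_⟩, ?_⟩
  · by_contra hz
    push Not at hz
    obtain ⟨ha, hb⟩ := hz
    classical
    let p : G.Path a b := Path.singleton hab
    let q : G.Path a b := ⟨.cons (h a ha).symm (.cons (h b hb) .nil), by
      simp [Ne.symm hb, ha, hab.ne]⟩
    have := congrArg (fun r : G.Path a b => r.1.length) (hG.isAcyclic.path_unique p q)
    simp [p, q] at this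
  · rintro ⟨hne, rfl | rfl⟩
    · exact h b hne.symm
    · exact (h a hne).symm

/-- move the branch at `w` from `p` to `z` -/
theorem exists_move {G : SimpleGraph (Fin n)} (hG : G.IsTree) {z p w : Fin n} (hzp : G.Adj z p)
    (hpw : G.Adj p w) (hwz : w ≠ z) (hnzw : ¬ G.Adj z w) :
    ∃ (G' : SimpleGraph (Fin n)) (hG' : G'.IsTree), (∀ v, G.Adj z v → G'.Adj z v) ∧ G'.Adj z w ∧
      ∀ m : Fin k → Fin n, ConicAdj (⟨n, G, hG, m⟩ : MarkedTree k) ⟨n, G', hG', m⟩ := by
  set G' : SimpleGraph (Fin n) := G.deleteEdges {s(p, w)} ⊔ SimpleGraph.edge z w with hdef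
  have hadj : ∀ a b, G'.Adj a b ↔
      (G.Adj a b ∧ s(a, b) ≠ s(p, w)) ∨ (a = z ∧ b = w ∨ a = w ∧ b = z) := by
    intro a b
    simp only [hdef, SimpleGraph.sup_adj, SimpleGraph.deleteEdges_adj, Set.mem_singleton_iff,
      SimpleGraph.edge_adj]
    constructor
    · rintro (h | ⟨h, -⟩)
      · exact Or.inl h
      · exact Or.inr h
    · rintro (h | h)
      · exact Or.inl h
      · refine Or.inr ⟨h, ?_⟩
        rcases h with ⟨rfl, rfl⟩ | ⟨rfl, rfl⟩
        · exact hwz.symm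
        · exact hwz
  have hzp' : G'.Adj z p := (hadj z p).mpr (Or.inl ⟨hzp, by simp [hwz.symm, hzp.ne]⟩)
  have hzw' : G'.Adj z w := (hadj z w).mpr (Or.inr (Or.inl ⟨rfl, rfl⟩))
  have hkeep : ∀ v, G.Adj z v → G'.Adj z v := fun v hv =>
    (hadj z v).mpr (Or.inl ⟨hv, by simp [hzp.ne, hwz.symm]⟩)
  have hconn : G'.Connected := by
    have hr : ∀ a b, G.Adj a b → G'.Reachable a b := by
      intro a b hab
      by_cases hs : s(a, b) = s(p, w)
      · have : G'.Reachable p w := hzp'.symm.reachable.trans hzw'.reachable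
        rcases Sym2.eq_iff.mp hs with ⟨rfl, rfl⟩ | ⟨rfl, rfl⟩
        · exact this
        · exact this.symm
      · exact ((hadj a b).mpr (Or.inl ⟨hab, hs⟩)).reachable
    have hne : Nonempty (Fin n) := ⟨z⟩
    refine ⟨fun a b => ?_⟩
    obtain ⟨q⟩ := hG.connected.preconnected a b
    induction q with
    | nil => exact Reachable.refl _
    | cons h _ ih => exact (hr _ _ h).trans ih
  have htree : G'.IsTree := by
    rw [isTree_iff_connected_and_card]
    refine ⟨hconn, ?_⟩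
    have hcard := (isTree_iff_connected_and_card.mp hG).2
    have he : G'.edgeSet = insert s(z, w) (G.edgeSet \ {s(p, w)}) := by
      rw [hdef, SimpleGraph.edgeSet_sup, SimpleGraph.edgeSet_deleteEdges,
        SimpleGraph.edge_edgeSet_of_ne hwz.symm, Set.union_singleton]
    rw [Nat.card_coe_set_eq, he, Set.ncard_insert_of_notMem (fun h => hnzw h.1),
      Set.ncard_sdiff_singleton_of_mem (show s(p, w) ∈ G.edgeSet from hpw), ← Nat.card_coe_set_eq]
    have : 0 < Nat.card G.edgeSet := by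
      have : Nonempty G.edgeSet := ⟨⟨s(p, w), hpw⟩⟩
      exact Nat.card_pos
    omega
  refine ⟨G', htree, hkeep, hzw', fun m => conicAdj_of_eq hG htree hzp hzp' ?_ fun i => rfl⟩
  ext ⟨a, ha⟩ ⟨b, hb⟩
  simp only [contract, SimpleGraph.fromRel_adj, ne_eq, Subtype.mk.injEq, hadj, Sym2.eq_iff, ha, hb,
    false_and, and_false, or_false, not_false_eq_true, and_true, true_and]
  have := hzp.ne
  constructor
  · rintro ⟨hne, h⟩
    refine ⟨hne, ?_⟩
    rcases h with (h | ⟨rfl, h⟩) | (h | ⟨rfl, h⟩)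
    · exact Or.inl (Or.inl (Or.inl h))
    · by_cases hbw : b = w
      · exact Or.inl (Or.inl (Or.inr (Or.inl ⟨rfl, hbw⟩)))
      · exact Or.inl (Or.inr ⟨rfl, Or.inl ⟨h, by simp [hbw, hwz]⟩⟩)
    · exact Or.inr (Or.inl (Or.inl h))
    · by_cases hbw : a = w
      · exact Or.inr (Or.inl (Or.inr (Or.inl ⟨rfl, hbw⟩)))
      · exact Or.inr (Or.inr ⟨rfl, Or.inl ⟨h, by simp [hbw, hwz]⟩⟩)
  · rintro ⟨hne, h⟩
    refine ⟨hne, ?_⟩
    rcases h with ((h | h) | ⟨rfl, h⟩) | ((h | h) | ⟨rfl, h⟩)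
    · exact Or.inl (Or.inl h)
    · rcases h with ⟨rfl, rfl⟩ | ⟨rfl, rfl⟩
      · exact Or.inl (Or.inr ⟨rfl, hpw⟩)
      · exact Or.inr (Or.inr ⟨rfl, hpw⟩)
    · rcases h with ⟨h, -⟩ | ⟨h1, h2⟩ | ⟨h1, h2⟩
      · exact Or.inl (Or.inr ⟨rfl, h⟩)
      · exact absurd h1.symm this
      · exact absurd h2 (Ne.symm hne)
    · exact Or.inr (Or.inl h)
    · rcases h with ⟨rfl, rfl⟩ | ⟨rfl, rfl⟩
      · exact Or.inr (Or.inr ⟨rfl, hpw⟩)
      · exact Or.inl (Or.inr ⟨rfl, hpw⟩)
    · rcases h with ⟨h, -⟩ | ⟨h1, h2⟩ | ⟨h1, h2⟩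
      · exact Or.inr (Or.inr ⟨rfl, h⟩)
      · exact absurd h1.symm this
      · exact absurd h2 hne

theorem reflTransGen_star {G : SimpleGraph (Fin n)} (hG : G.IsTree) (z : Fin n) (m : Fin k → Fin n) :
    ∃ hS : (star' z).IsTree,
      ReflTransGen ConicAdj (⟨n, G, hG, m⟩ : MarkedTree k) ⟨n, star' z, hS, m⟩ := by
  classical
  suffices H : ∀ (N : ℕ) (G : SimpleGraph (Fin n)) (hG : G.IsTree),
      {v | v ≠ z ∧ ¬ G.Adj z v}.ncard ≤ N → ∃ hS : (star' z).IsTree,
        ReflTransGen ConicAdj (⟨n, G, hG, m⟩ : MarkedTree k) ⟨n, star' z, hS, m⟩ from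
    H _ G hG le_rfl
  intro N
  induction N with
  | zero =>
    intro G hG hN
    obtain rfl : G = star' z := eq_star_of_forall_adj hG fun v hv => by
      by_contra hc
      have := (Set.ncard_eq_zero (Set.toFinite _)).mp (Nat.le_zero.mp hN)
      exact (Set.eq_empty_iff_forall_notMem.mp this v) ⟨hv, hc⟩
    exact ⟨hG, .refl⟩
  | succ N ih =>
    intro G hG hN
    by_cases hall : ∀ v, v ≠ z → G.Adj z v
    · obtain rfl := eq_star_of_forall_adj hG hall
      exact ⟨hG, .refl⟩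
    push Not at hall
    obtain ⟨v, hv, hv'⟩ := hall
    obtain ⟨q⟩ := hG.connected.preconnected z v
    obtain ⟨d, -, hd1, hd2⟩ := q.exists_boundary_dart {x | x = z ∨ G.Adj z x} (Or.inl rfl)
      (fun h => h.elim hv hv')
    have hwz : d.snd ≠ z := fun h => hd2 (Or.inl h)
    have hnzw : ¬ G.Adj z d.snd := fun h => hd2 (Or.inr h)
    have hzp : G.Adj z d.fst := by
      rcases hd1 with h | h
      · exact absurd (h ▸ d.adj) hnzw
      · exact h
    obtain ⟨G', hG', hkeep, hzw', hadj⟩ := exists_move (k := k) hG hzp d.adj hwz hnzw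
    have hlt : {v | v ≠ z ∧ ¬ G'.Adj z v}.ncard < {v | v ≠ z ∧ ¬ G.Adj z v}.ncard :=
      Set.ncard_lt_ncard ⟨fun x hx => ⟨hx.1, fun h => hx.2 (hkeep _ h)⟩,
        fun hs => (hs (show d.snd ∈ {v | v ≠ z ∧ ¬ G.Adj z v} from ⟨hwz, hnzw⟩)).2 hzw'⟩ (Set.toFinite _)
    obtain ⟨hS, hgen⟩ := ih G' hG' (by omega)
    exact ⟨hS, (ReflTransGen.single (hadj m)).trans hgen⟩

theorem reflTransGen_of_n_eq (T₁ T₂ : MarkedTree k) (h : T₁.n = T₂.n) :
    ReflTransGen ConicAdj T₁ T₂ := by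
  obtain ⟨n, G₁, h₁, m₁⟩ := T₁
  obtain ⟨n', G₂, h₂, m₂⟩ := T₂
  dsimp only at h
  subst h
  have z : Fin n := h₁.connected.nonempty.some
  obtain ⟨hS, g₁⟩ := reflTransGen_star h₁ z m₁
  obtain ⟨_, g₂⟩ := reflTransGen_star h₂ z m₂
  have e : ReflTransGen ConicAdj (⟨n, G₂, h₂, m₂⟩ : MarkedTree k) ⟨n, star' z, hS, fun _ => z⟩ :=
    g₂.trans (reflTransGen_marks hS z m₂)
  have e₁ : ReflTransGen ConicAdj (⟨n, G₁, h₁, m₁⟩ : MarkedTree k) ⟨n, star' z, hS, fun _ => z⟩ :=
    g₁.trans (reflTransGen_marks hS z m₁)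
  refine e₁.trans ?_
  clear e₁ g₁ g₂
  generalize (⟨n, star' z, hS, fun _ => z⟩ : MarkedTree k) = T at e ⊢
  induction e with
  | refl => exact .refl
  | tail _ hbc ih => exact (ReflTransGen.single (conicAdj_symm hbc)).trans ih

end Groth.Agent.Curves2
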