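import Mathlib.RingTheory.Adjoin.Basic
import Mathlib.LinearAlgebra.Finsupp.LinearCombination
import Mathlib.LinearAlgebra.Finsupp.VectorSpace
import Mathlib.Tactic

universe u w

namespace Groth.Agent.Curves2

/-- data to adjoin one simple pole for each index to an algebra with two generators -/
structure PoleData (R : Type u) [CommRing R] (A : Type w) [CommRing A] [Algebra R A] (ι : Type*) where
  (x y q : A)
  ε : ι → A →ₐ[R] R
  δ : ι → A →ₗ[R] A
  cf : ι → ι → R
  gen : Algebra.adjoin R {x, y} = ⊤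
  δ_one : ∀ i, δ i 1 = 0
  δ_mul : ∀ i a b, δ i (a * b) = a * δ i b + ε i b • δ i a
  scal : ∀ i j, i ≠ j → ∀ a, a = x ∨ a = y → ε j (δ i a) = cf i j * (ε j a - ε i a)
  arg : ∀ i j, i ≠ j → ∀ a, a = x ∨ a = y →
    δ j (δ i a) = (a - algebraMap R A (ε i a)) * q + cf i j • δ j a + cf j i • δ i a
  cubU : ∀ i j l, i ≠ j → j ≠ l → i ≠ l →
    δ i q + (cf j l + cf l j) • q = δ l q + (cf i j + cf j i) • q
  cubV : ∀ i j l, i ≠ j → j ≠ l → i ≠ l → cf j l * cf i l = ε l q + cf i j * cf j l + cf j i * cf i l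

namespace PoleData

variable {R : Type u} [CommRing R] {A : Type w} [CommRing A] [Algebra R A] {ι : Type*} (D : PoleData R A ι)

theorem cubV' {i j l : ι} (hij : i ≠ j) (hjl : j ≠ l) (hil : i ≠ l) :
    D.ε i D.q + D.cf j l * D.cf l i + D.cf l j * D.cf j i = D.cf j i * D.cf l i := by
  linear_combination -D.cubV j l i hjl (Ne.symm hil) (Ne.symm hij)

/-- the free module -/
abbrev F (_ : PoleData R A ι) := A × ((ι × ℕ) →₀ R)

/-- a basis vector -/
noncomputable def e (j : ι) (k : ℕ) : D.F := (0, Finsupp.single (j, k) 1)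

/-- `a * t_j ^ k` -/
noncomputable def r (j : ι) : ℕ → (A →ₗ[R] D.F)
  | 0 => LinearMap.inl R A ((ι × ℕ) →₀ R)
  | k + 1 => (r j k).comp (D.δ j) + (D.ε j).toLinearMap.smulRight (D.e j k)

theorem r_succ (j : ι) (k : ℕ) (a : A) :
    D.r j (k + 1) a = D.r j k (D.δ j a) + D.ε j a • D.e j k := rfl

theorem r_zero (j : ι) (a : A) : D.r j 0 a = (a, 0) := rfl

theorem r_one (j : ι) (k : ℕ) : D.r j (k + 1) 1 = D.e j k := by
  rw [r_succ, D.δ_one, map_zero, map_one, zero_add, one_smul]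

/-- the action of `A` -/
noncomputable def ρ (a : A) : D.F →ₗ[R] D.F :=
  LinearMap.coprod ((LinearMap.inl R A ((ι × ℕ) →₀ R)).comp (LinearMap.mulLeft R a))
    (Finsupp.linearCombination R fun p : ι × ℕ => D.r p.1 (p.2 + 1) a)

theorem ρ_inl (a b : A) : D.ρ a (b, 0) = (a * b, 0) := by simp [ρ]

theorem ρ_e (a : A) (j : ι) (k : ℕ) : D.ρ a (D.e j k) = D.r j (k + 1) a := by simp [ρ, e]

theorem ρ_r (a : A) (j : ι) (k : ℕ) (b : A) : D.ρ a (D.r j k b) = D.r j k (a * b) := by
  induction k generalizing b with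
  | zero => simp [r_zero, ρ_inl]
  | succ k ih =>
    rw [r_succ, map_add, map_smul, ih, ρ_e, r_succ, r_succ, D.δ_mul, map_add, map_smul, map_mul (D.ε j), smul_add,
      smul_smul, mul_comm (D.ε j b)]
    abel

theorem ext_F {M : Type*} [AddCommMonoid M] [Module R M] {f g : D.F →ₗ[R] M}
    (h1 : ∀ a, f (a, 0) = g (a, 0)) (h2 : ∀ j k, f (D.e j k) = g (D.e j k)) : f = g := by
  apply LinearMap.prod_ext
  · exact LinearMap.ext h1
  · apply Finsupp.lhom_ext'
    rintro ⟨j, k⟩
    apply LinearMap.ext_ring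
    exact h2 j k

theorem ρ_mul (a b : A) : D.ρ (a * b) = D.ρ a * D.ρ b := by
  refine D.ext_F (fun c => ?_) (fun j k => ?_)
  · simp [ρ_inl, mul_assoc]
  · rw [Module.End.mul_apply, ρ_e, ρ_e, ρ_r]

theorem ρ_one : D.ρ 1 = 1 := by
  refine D.ext_F (fun c => ?_) (fun j k => ?_)
  · simp [ρ_inl]
  · rw [ρ_e, r_one]; rfl

theorem ρ_add (a b : A) : D.ρ (a + b) = D.ρ a + D.ρ b := by
  refine D.ext_F (fun c => ?_) (fun j k => ?_)
  · simp [ρ_inl, add_mul]
  · simp [ρ_e]

theorem ρ_smul (s : R) (a : A) : D.ρ (s • a) = s • D.ρ a := by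
  refine D.ext_F (fun c => ?_) (fun j k => ?_)
  · simp [ρ_inl]
  · simp [ρ_e]

/-- `A` acting as an algebra map -/
noncomputable def ρAlg : A →ₐ[R] Module.End R D.F :=
  AlgHom.ofLinearMap
    { toFun := D.ρ, map_add' := D.ρ_add, map_smul' := D.ρ_smul } D.ρ_one D.ρ_mul

@[simp] theorem ρAlg_apply (a : A) : D.ρAlg a = D.ρ a := rfl

/-- `t_i * t_j ^ k` -/
noncomputable def z (i j : ι) : ℕ → D.F
  | 0 => D.e i 0
  | k + 1 => D.r j k D.q + D.cf i j • D.e j k + D.cf j i • z i j k

theorem z_succ (i j : ι) (k : ℕ) :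
    D.z i j (k + 1) = D.r j k D.q + D.cf i j • D.e j k + D.cf j i • D.z i j k := rfl

theorem induction_gen {p : A → Prop} (hx : p D.x) (hy : p D.y) (h1 : p 1)
    (hsmul : ∀ (s : R) a, p a → p (s • a)) (hadd : ∀ a b, p a → p b → p (a + b))
    (hmul : ∀ a b, p a → p b → p (a * b)) (a : A) : p a := by
  have ha : a ∈ Algebra.adjoin R {D.x, D.y} := by rw [D.gen]; trivial
  induction ha using Algebra.adjoin_induction with
  | mem b hb =>
    rcases hb with rfl | hb
    · exact hx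
    · rw [Set.mem_singleton_iff.mp hb]; exact hy
  | algebraMap s => rw [Algebra.algebraMap_eq_smul_one]; exact hsmul s 1 h1
  | add b c _ _ hb hc => exact hadd b c hb hc
  | mul b c _ _ hb hc => exact hmul b c hb hc

theorem ρ_z {i j : ι} (hij : i ≠ j) (k : ℕ) (a : A) :
    D.ρ a (D.z i j k) = D.r j k (D.δ i a) + D.ε i a • D.z i j k := by
  induction k generalizing a with
  | zero => rw [z, ρ_e, r_succ, r_zero, r_zero]
  | succ k ih =>
    refine D.induction_gen (p := fun a => D.ρ a (D.z i j (k + 1)) =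
      D.r j (k + 1) (D.δ i a) + D.ε i a • D.z i j (k + 1)) ?_ ?_ ?_ ?_ ?_ ?_ a
    rotate_left 2
    · rw [ρ_one, D.δ_one, map_zero, map_one, zero_add, one_smul]; rfl
    · intro s b hb
      rw [ρ_smul, LinearMap.smul_apply, hb, map_smul, map_smul, map_smul, smul_add, smul_smul, smul_eq_mul]
    · intro b c hb hc
      rw [ρ_add, LinearMap.add_apply, hb, hc, map_add, map_add, map_add, add_smul]
      abel
    · intro b c hb hc
      rw [ρ_mul, Module.End.mul_apply, hc, map_add, map_smul, ρ_r, hb, D.δ_mul, map_add, map_smul, map_mul (D.ε i),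
        smul_add, smul_smul, mul_comm (D.ε i c)]
      abel
    all_goals
      rename_i a'
    · have hs := D.scal i j hij D.x (Or.inl rfl)
      have ha := D.arg i j hij D.x (Or.inl rfl)
      rw [z_succ, map_add, map_add, map_smul, map_smul, ρ_r, ρ_e, ih, r_succ, r_succ, hs, ha]
      simp only [sub_mul, map_sub, map_add, map_smul, ← Algebra.smul_def]
      module
    · have hs := D.scal i j hij D.y (Or.inr rfl)
      have ha := D.arg i j hij D.y (Or.inr rfl)
      rw [z_succ, map_add, map_add, map_smul, map_smul, ρ_r, ρ_e, ih, r_succ, r_succ, hs, ha]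
      simp only [sub_mul, map_sub, map_add, map_smul, ← Algebra.smul_def]
      module

variable [DecidableEq ι]

/-- multiplication by `t_i` -/
noncomputable def Z (i : ι) : D.F →ₗ[R] D.F :=
  LinearMap.coprod (D.r i 1)
    (Finsupp.linearCombination R fun p : ι × ℕ =>
      if p.1 = i then D.e i (p.2 + 1) else D.z i p.1 (p.2 + 1))

theorem Z_inl (i : ι) (a : A) : D.Z i (a, 0) = D.r i 1 a := by simp [Z]

theorem Z_e_self (i : ι) (k : ℕ) : D.Z i (D.e i k) = D.e i (k + 1) := by simp [Z, e]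

theorem Z_e_ne {i j : ι} (h : j ≠ i) (k : ℕ) : D.Z i (D.e j k) = D.z i j (k + 1) := by simp [Z, e, h]

theorem Z_r_self (i : ι) (k : ℕ) (a : A) : D.Z i (D.r i k a) = D.r i (k + 1) a := by
  induction k generalizing a with
  | zero => rw [r_zero, Z_inl]
  | succ k ih => rw [r_succ, map_add, map_smul, ih, Z_e_self, r_succ D i (k + 1)]

theorem Z_r_ne {i j : ι} (hij : i ≠ j) (k : ℕ) (a : A) : D.Z i (D.r j k a) = D.ρ a (D.z i j k) := by
  induction k generalizing a with
  | zero => rw [r_zero, Z_inl, z, ρ_e]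
  | succ k ih =>
    rw [r_succ, map_add, map_smul, ih, Z_e_ne _ (Ne.symm hij)]
    refine D.induction_gen (p := fun a => D.ρ (D.δ j a) (D.z i j k) + D.ε j a • D.z i j (k + 1) =
      D.ρ a (D.z i j (k + 1))) ?_ ?_ ?_ ?_ ?_ ?_ a
    rotate_left 2
    · rw [D.δ_one, map_one, one_smul, ρ_one]
      have : D.ρ 0 = 0 := D.ρAlg.map_zero
      rw [this]; simp
    · intro s b hb
      rw [map_smul, ρ_smul, LinearMap.smul_apply, map_smul, smul_eq_mul, ρ_smul, LinearMap.smul_apply, ← hb,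
        smul_add, smul_smul]
    · intro b c hb hc
      rw [map_add, ρ_add, LinearMap.add_apply, map_add, add_smul, ρ_add, LinearMap.add_apply, ← hb, ← hc]
      abel
    · intro b c hb hc
      rw [D.δ_mul, ρ_add, ρ_smul, ρ_mul, LinearMap.add_apply, LinearMap.smul_apply, Module.End.mul_apply,
        map_mul (D.ε j), ρ_mul D b c, Module.End.mul_apply, ← hc, map_add, map_smul, ← hb, smul_add, smul_smul,
        mul_comm (D.ε j b)]
      abel
    · have hs := D.scal j i (Ne.symm hij) D.x (Or.inl rfl)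
      have hs' := D.scal i j hij D.x (Or.inl rfl)
      have ha := D.arg i j hij D.x (Or.inl rfl)
      have ha' := D.arg j i (Ne.symm hij) D.x (Or.inl rfl)
      rw [ρ_z D hij, ρ_z D hij, r_succ, hs, hs', ha, ha', z_succ]
      simp only [sub_mul, map_sub, map_add, map_smul, ← Algebra.smul_def]
      module
    · have hs := D.scal j i (Ne.symm hij) D.y (Or.inr rfl)
      have hs' := D.scal i j hij D.y (Or.inr rfl)
      have ha := D.arg i j hij D.y (Or.inr rfl)
      have ha' := D.arg j i (Ne.symm hij) D.y (Or.inr rfl)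
      rw [ρ_z D hij, ρ_z D hij, r_succ, hs, hs', ha, ha', z_succ]
      simp only [sub_mul, map_sub, map_add, map_smul, ← Algebra.smul_def]
      module

theorem Z_comm_ρ (i : ι) (a : A) : D.Z i * D.ρ a = D.ρ a * D.Z i := by
  refine D.ext_F (fun c => ?_) (fun j k => ?_) <;> rw [Module.End.mul_apply, Module.End.mul_apply]
  · rw [ρ_inl, Z_inl, Z_inl, ρ_r]
  · rw [ρ_e]
    rcases eq_or_ne j i with rfl | h
    · rw [Z_r_self, Z_e_self, ρ_e]
    · rw [Z_r_ne D (Ne.symm h), Z_e_ne D h]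

theorem Z_z_self {i j : ι} (hij : i ≠ j) (k : ℕ) : D.Z j (D.z i j k) = D.z i j (k + 1) := by
  induction k with
  | zero =>
    rw [z, Z_e_ne D hij, z_succ, z_succ, r_zero, r_zero, z, z]
    abel
  | succ k ih =>
    rw [z_succ, map_add, map_add, map_smul, map_smul, Z_r_self, Z_e_self, ih, z_succ D i j (k + 1)]

theorem Z_z {i j l : ι} (hij : i ≠ j) (hjl : j ≠ l) (hil : i ≠ l) (k : ℕ) :
    D.Z i (D.z j l k) = D.r l k D.q + D.cf i j • D.z j l k + D.cf j i • D.z i l k := by
  induction k with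
  | zero => rw [z, Z_e_ne D (Ne.symm hij), z_succ, r_zero, r_zero, z, z]
  | succ k ih =>
    rw [z_succ D j l, map_add, map_add, map_smul, map_smul, Z_r_ne D hil, ρ_z D hil, Z_e_ne D (Ne.symm hil), ih,
      z_succ D i l, r_succ]
    have hU := congrArg (D.r l k) (D.cubU i j l hij hjl hil)
    simp only [map_add, map_smul] at hU
    linear_combination (norm := module) hU + (D.cubV i j l hij hjl hil) • D.e l k
      + (D.cubV' hij hjl hil) • D.z i l k

theorem Z_comm (i j : ι) : D.Z i * D.Z j = D.Z j * D.Z i := by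
  rcases eq_or_ne i j with rfl | hij
  · rfl
  refine D.ext_F (fun c => ?_) (fun l k => ?_) <;> rw [Module.End.mul_apply, Module.End.mul_apply]
  · have hc : ∀ n, ((c, 0) : D.F) = D.ρ c (D.r n 0 1) := by intro n; rw [ρ_r, mul_one, r_zero]
    have hZ : ∀ (p : ι) (v : D.F), D.Z p (D.ρ c v) = D.ρ c (D.Z p v) :=
      fun p v => LinearMap.congr_fun (D.Z_comm_ρ p c) v
    rw [hc i, hZ, hZ, hZ, hZ]
    congr 1
    rw [r_zero, Z_inl, Z_inl, r_one, r_one, Z_e_ne D (Ne.symm hij), Z_e_ne D hij, z_succ, z_succ, z, z,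
      r_zero, r_zero]
    abel
  · by_cases hl : l = j
    · subst hl
      rw [Z_e_self, Z_e_ne D (Ne.symm hij), Z_e_ne D (Ne.symm hij), Z_z_self D hij]
    by_cases hl' : l = i
    · subst hl'
      rw [Z_e_self, Z_e_ne D hij, Z_e_ne D hij, Z_z_self D (Ne.symm hij)]
    rw [Z_e_ne D hl, Z_e_ne D hl', Z_z D hij (Ne.symm hl) (Ne.symm hl'),
      Z_z D (Ne.symm hij) (Ne.symm hl') (Ne.symm hl)]
    abel

theorem relation_x (i : ι) (a : A) :
    D.ρ a (D.Z i (1, 0)) = (D.δ i a, 0) + D.ε i a • D.e i 0 := by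
  rw [Z_inl, ρ_r, mul_one, r_succ, r_zero]

theorem relation_Z {i j : ι} (hij : i ≠ j) :
    D.Z i (D.Z j (1, 0)) = (D.q, 0) + D.cf i j • D.Z j (1, 0) + D.cf j i • D.Z i (1, 0) := by
  rw [Z_inl, Z_inl, r_one, r_one, Z_e_ne D (Ne.symm hij), z_succ, r_zero, z]

end PoleData

end Groth.Agent.Curves2
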