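import Groth.Agent.Curves2.NSNSOps
import Groth.Agent.Curves2.NSNSModule

universe u

namespace Groth.Agent.Curves2

open W4c5m1nsnscurves

variable {R : Type u} [CommRing R] {m : ℕ} {v : UGen m → R}

/-- the constant term of the cubic attached to an index -/
def dval (v : UGen m → R) (i : Fin m) : R :=
  v (.ci i) * (v .a + v (.ci i) + v (.cbi i)) * v (.cbi i) - v (.ci i) * v .cb - v (.cbi i) * v .c - v .a * v .c

theorem dval_eq (hv : IsSol v) (i j : Fin m) (h : i ≠ j) : dval v i = dval v j := by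
  simp only [dval]
  linear_combination (v (.ci i) - v (.ci j)) * (hv.qb i j h) + (v (.cbi i) - v (.cbi j)) * (hv.qc i j h)
    + (-(v (.ci j)) * (v (.cbi i) - v (.cbi j)) - v (.cbi i) * (v (.ci i) - v (.ci j))) * (hv.lin i j h)

/-- the `n = 3` curve underlying `v` -/
abbrev A3 (v : UGen m → R) (i₀ : Fin m) := CurveAlg3 R (v .a) (v .cb - v .c) (v .c) (dval v i₀)

/-- the constant `c_{ij}`, zero on the diagonal -/
def cfun (v : UGen m → R) (i j : Fin m) : R := if h : i ≠ j then v (.cij i j h) else 0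

theorem dval_spec (hv : IsSol v) (i₀ i : Fin m) :
    dval v i₀ = v (.ci i) * (v .a + v (.ci i) + v (.cbi i)) * v (.cbi i) -
      v (.ci i) * ((v .cb - v .c) + v .c) - v (.cbi i) * v .c - v .a * v .c := by
  rw [sub_add_cancel]
  rcases eq_or_ne i₀ i with rfl | h
  · rfl
  · exact dval_eq hv i₀ i h

theorem adjoin_gxy (R : Type u) [CommRing R] (a b c d : R) :
    Algebra.adjoin R {gx R a b c d, gy R a b c d} = ⊤ := by
  rw [eq_top_iff]
  rintro s -
  obtain ⟨p, rfl⟩ := Ideal.Quotient.mk_surjective s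
  induction p using MvPolynomial.induction_on with
  | C r => exact (Algebra.adjoin R {gx R a b c d, gy R a b c d}).algebraMap_mem r
  | add p q hp hq => rw [map_add]; exact add_mem hp hq
  | mul_X p i hp =>
    rw [map_mul]
    refine mul_mem hp (Algebra.subset_adjoin ?_)
    obtain rfl | rfl : i = 0 ∨ i = 1 := by omega
    · exact Or.inl rfl
    · exact Or.inr rfl

theorem exists_poleData (hv : IsSol v) (i₀ : Fin m) :
    ∃ D : PoleData R (A3 v i₀) (Fin m),
      D.x = gx R _ _ _ _ ∧ D.y = gy R _ _ _ _ ∧ D.q = D.x * D.y - algebraMap R _ (v .c) ∧ D.cf = cfun v ∧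
      ∀ i, D.ε i D.x = v (.ci i) ∧ D.ε i D.y = v .a + v (.ci i) + v (.cbi i) ∧
        D.δ i D.x = D.x * D.y + v (.cbi i) • D.x - algebraMap R _ (v .c) ∧
        D.δ i D.y = D.x * D.y +
          algebraMap R _ ((v .cb - v .c) - (v .a + v (.ci i) + v (.cbi i)) * v (.cbi i)) := by
  choose ε δ hεx hεy hδx hδy hδ1 hδmul using fun i => exists_delta R (v .a) (v .cb - v .c) (v .c) (dval v i₀)
    (v (.ci i)) (v (.cbi i)) (dval_spec hv i₀ i)
  generalize hx : gx R (v .a) (v .cb - v .c) (v .c) (dval v i₀) = x at hεx hδx hδy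
  generalize hy : gy R (v .a) (v .cb - v .c) (v .c) (dval v i₀) = y at hεy hδx hδy
  have hsm : ∀ (r : R) (s : CurveAlg3 R (v .a) (v .cb - v .c) (v .c) (dval v i₀)),
      r • s = algebraMap R _ r * s := fun r s => Algebra.smul_def r s
  have hδc : ∀ i r, δ i (algebraMap R _ r) = 0 := by
    intro i r
    rw [Algebra.algebraMap_eq_smul_one, map_smul, hδ1, smul_zero]
  refine ⟨{ x := x, y := y, q := x * y - algebraMap R _ (v .c), ε := ε, δ := δ, cf := cfun v,
            gen := ?_, δ_one := hδ1, δ_mul := hδmul, scal := ?_, arg := ?_, cubU := ?_, cubV := ?_ },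
    rfl, rfl, rfl, rfl, fun i => ⟨hεx i, hεy i, hδx i, hδy i⟩⟩
  · rw [← hx, ← hy]; exact adjoin_gxy R _ _ _ _
  · intro i j hij a ha
    have hl := hv.lin i j hij
    rcases ha with ha | ha <;> subst a
    · rw [hδx, hεx, hεx, map_sub, map_add, map_mul, map_smul, hεx, hεy, smul_eq_mul, AlgHom.commutes,
        Algebra.algebraMap_self_apply]
      simp only [cfun, ne_eq, hij, not_false_eq_true, dite_true]
      linear_combination hv.qc i j hij - v (.ci j) * hl
    · rw [hδy, hεy, hεy, map_add, map_mul, hεx, hεy, AlgHom.commutes, Algebra.algebraMap_self_apply]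
      simp only [cfun, ne_eq, hij, not_false_eq_true, dite_true]
      linear_combination hv.qc i j hij - hv.qb i j hij + (v (.cbi i) - v (.ci j)) * hl
  · intro i j hij a ha
    have hl := congrArg (algebraMap R (A3 v i₀)) (hv.lin i j hij)
    have hb := congrArg (algebraMap R (A3 v i₀)) (hv.qb i j hij)
    have hc := congrArg (algebraMap R (A3 v i₀)) (hv.qc i j hij)
    simp only [map_add, map_sub, map_mul] at hl hb hc
    rcases ha with ha | ha <;> subst a
    · rw [hδx, hεx, map_sub, map_add, map_smul, hδc, sub_zero, hδmul, hεy, hδx j, hδy j]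
      simp only [cfun, ne_eq, hij, Ne.symm hij, not_false_eq_true, dite_true, hsm, Algebra.smul_def, map_add, map_sub, map_mul]
      linear_combination -(x * y - algebraMap R (A3 v i₀) (v .c)) * hl - x * hb
    · rw [hδy, hεy, map_add, hδc, add_zero, mul_comm x y, hδmul, hεx, hδx j, hδy j]
      simp only [cfun, ne_eq, hij, Ne.symm hij, not_false_eq_true, dite_true, hsm, Algebra.smul_def, map_add, map_sub, map_mul]
      linear_combination -(x * y) * hl +
        (algebraMap R (A3 v i₀) (v .a) + algebraMap R _ (v (.ci i)) + algebraMap R _ (v (.cbi i)) +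
            algebraMap R _ (v (.cbi j))) * hb -
        algebraMap R (A3 v i₀) (v (.cbi j)) * hc +
        (algebraMap R (A3 v i₀) (v .c) - algebraMap R _ (v .cb) +
          algebraMap R _ (v (.cbi j)) * (algebraMap R _ (v (.ci j)) - algebraMap R _ (v (.cbi i)))) * hl
  · intro i j l hij hjl hil
    have hl1 := congrArg (algebraMap R (A3 v i₀)) (hv.lin j l hjl)
    have hl2 := congrArg (algebraMap R (A3 v i₀)) (hv.lin i j hij)
    have hd := congrArg (algebraMap R (A3 v i₀)) (dval_eq hv l i (Ne.symm hil))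
    simp only [dval, map_add, map_sub, map_mul] at hl1 hl2 hd
    rw [map_sub (δ i), map_sub (δ l), hδc, hδc, sub_zero, sub_zero, mul_comm x y, hδmul, hδmul, hεx, hεx, hδx, hδx, hδy, hδy]
    simp only [cfun, ne_eq, hij, Ne.symm hij, hjl, Ne.symm hjl, not_false_eq_true, dite_true, hsm, Algebra.smul_def,
      map_add, map_sub, map_mul]
    linear_combination hd + (x * y - algebraMap R (A3 v i₀) (v .c)) * (hl1 - hl2)
  · intro i j l hij hjl hil
    rw [map_sub, map_mul, hεx, hεy, AlgHom.commutes, Algebra.algebraMap_self_apply]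
    simp only [cfun, ne_eq, hij, Ne.symm hij, hjl, hil, not_false_eq_true, dite_true]
    linear_combination -hv.cub i j l hij hjl hil

theorem PoleData.ρ_pow {A : Type*} [CommRing A] [Algebra R A] {ι : Type*} (D : PoleData R A ι) (a b : A) (n : ℕ) :
    (D.ρ a ^ n) (b, 0) = (a ^ n * b, 0) := by
  induction n with
  | zero => simp
  | succ n ih => rw [pow_succ', Module.End.mul_apply, ih, D.ρ_inl, pow_succ', mul_assoc]

theorem PoleData.Z_pow {A : Type*} [CommRing A] [Algebra R A] {ι : Type*} [DecidableEq ι] (D : PoleData R A ι)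
    (i : ι) (n : ℕ) : (D.Z i ^ (n + 1)) (1, 0) = D.e i n := by
  induction n with
  | zero => rw [pow_one, D.Z_inl, D.r_one]
  | succ n ih => rw [pow_succ', Module.End.mul_apply, ih, D.Z_e_self]

/-- index of a normal monomial among the coordinates of the free module -/
def cIdx {m : ℕ} : Option (ℕ ⊕ (CVar m × ℕ)) → Option (ℕ ⊕ (Fin 2 × ℕ)) ⊕ (Fin m × ℕ)
  | none => .inl none
  | some (.inl k) => .inl (some (.inl k))
  | some (.inr (.x2, k)) => .inl (some (.inr (0, k)))
  | some (.inr (.x3, k)) => .inl (some (.inr (1, k)))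
  | some (.inr (.xi i, k)) => .inr (i, k)

theorem cIdx_injective {m : ℕ} : Function.Injective (cIdx (m := m)) := by
  rintro (_ | k | ⟨y, k⟩) (_ | k' | ⟨y', k'⟩) h <;> (try cases y) <;> (try cases y') <;> simp_all [cIdx]

set_option maxHeartbeats 1000000 in
-- large terms
theorem linearIndependent_cmon (hv : IsSol v) (hm : 1 ≤ m) : LinearIndependent R (cmon R m v) := by
  classical
  let i₀ : Fin m := ⟨0, hm⟩
  obtain ⟨D, hx, hy, hq, hcf, hD⟩ := exists_poleData hv i₀
  obtain ⟨Φ, hΦ⟩ := exists_commEval (R := R)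
    (fun y : CVar m => match y with | .x2 => D.ρ D.x | .x3 => D.ρ D.y | .xi i => D.Z i) (by
      intro a b
      rcases a with _ | _ | i <;> rcases b with _ | _ | j <;> simp only
      · rw [← D.ρ_mul, ← D.ρ_mul, mul_comm D.x D.y]
      · exact (D.Z_comm_ρ j D.x).symm
      · rw [← D.ρ_mul, ← D.ρ_mul, mul_comm D.x D.y]
      · exact (D.Z_comm_ρ j D.y).symm
      · exact D.Z_comm_ρ i D.x
      · exact D.Z_comm_ρ i D.y
      · exact D.Z_comm i j)
  let Ψ : MvPolynomial (CVar m) R →ₗ[R] D.F :=
    (LinearMap.applyₗ ((1, 0) : D.F)).comp Φ.toLinearMap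
  have hΨ : ∀ p, Ψ p = Φ p (1, 0) := fun p => rfl
  have hρ0 : ∀ r, D.ρ (algebraMap R (A3 v i₀) r) = algebraMap R (Module.End R D.F) r := fun r => D.ρAlg.commutes r
  have hkill : ∀ p ∈ CRel R m v, Φ p (1, 0) = 0 := by
    intro p hp
    rcases hp with (⟨i, rfl⟩ | ⟨i, rfl⟩) | ⟨⟨⟨i, j⟩, hij⟩, rfl⟩
    · simp only [← MvPolynomial.algebraMap_eq, map_sub, map_add, map_mul, hΦ, AlgHom.commutes,
        LinearMap.sub_apply, LinearMap.add_apply, Module.End.mul_apply, Module.algebraMap_end_apply]
      rw [D.relation_x, (hD i).1, (hD i).2.2.1, D.ρ_inl, D.ρ_inl, D.ρ_inl, D.Z_inl, D.r_one]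
      simp only [PoleData.e, Algebra.algebraMap_eq_smul_one]
      ext <;> simp
    · simp only [← MvPolynomial.algebraMap_eq, map_sub, map_add, map_mul, hΦ, AlgHom.commutes,
        LinearMap.sub_apply, LinearMap.add_apply, Module.End.mul_apply, Module.algebraMap_end_apply]
      rw [D.relation_x, (hD i).2.1, (hD i).2.2.2, D.ρ_inl, D.ρ_inl, D.Z_inl, D.r_one]
      simp only [PoleData.e, Algebra.algebraMap_eq_smul_one]
      ext <;> simp [smul_add, smul_sub, smul_smul] <;> module
    · simp only [← MvPolynomial.algebraMap_eq, map_sub, map_add, map_mul, hΦ, AlgHom.commutes,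
        LinearMap.sub_apply, LinearMap.add_apply, Module.End.mul_apply, Module.algebraMap_end_apply]
      rw [D.relation_Z hij, hq, hcf, D.ρ_inl, D.ρ_inl, D.Z_inl, D.Z_inl, D.r_one, D.r_one]
      simp only [cfun, ne_eq, hij, Ne.symm hij, not_false_eq_true, dite_true, PoleData.e,
        Algebra.algebraMap_eq_smul_one]
      ext <;> simp
  have hle : (Ideal.span (CRel R m v)).restrictScalars R ≤ LinearMap.ker Ψ := by
    intro p hp
    rw [Submodule.restrictScalars_mem] at hp
    rw [LinearMap.mem_ker, hΨ]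
    induction hp using Submodule.span_induction with
    | mem q hq => exact hkill q hq
    | zero => simp
    | add q r _ _ hq hr => rw [map_add, LinearMap.add_apply, hq, hr, add_zero]
    | smul s q _ hq => rw [smul_eq_mul, map_mul Φ, Module.End.mul_apply, hq, map_zero]
  let L : CurveAlg R m v →ₗ[R] D.F :=
    (((Ideal.span (CRel R m v)).restrictScalars R).liftQ Ψ hle).comp
      (Submodule.Quotient.restrictScalarsEquiv R (Ideal.span (CRel R m v))).symm.toLinearMap
  have hLmk : ∀ p, L (Ideal.Quotient.mk _ p) = Φ p (1, 0) := fun p => rfl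
  apply LinearIndependent.of_comp L
  let B : Module.Basis (Option (ℕ ⊕ (Fin 2 × ℕ)) ⊕ (Fin m × ℕ)) R D.F :=
    (basis3 R (v .a) (v .cb - v .c) (v .c) (dval v i₀)).prod (Finsupp.basisSingleOne (ι := Fin m × ℕ) (R := R))
  have hpow : ∀ (a : A3 v i₀) (n : ℕ), (D.ρ a ^ n) (1, 0) = (a ^ n, 0) := by
    intro a n
    rw [D.ρ_pow, mul_one]
  have hZpow : ∀ i n, (D.Z i ^ (n + 1)) (1, 0) = D.e i n := fun i n => D.Z_pow i n
  have hL : ∀ o, L (cmon R m v o) = B (cIdx o) := by
    rintro (_ | k | ⟨y, k⟩)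
    · show Φ 1 (1, 0) = B (.inl none)
      simp [B, basis3, cmon3]
    · show Φ (MvPolynomial.X .x2 ^ (k + 1) * MvPolynomial.X .x3) (1, 0) = B (.inl (some (.inl k)))
      rw [map_mul, map_pow, hΦ, hΦ, Module.End.mul_apply, D.ρ_inl, mul_one]
      simp only [B, Module.Basis.prod_apply, Sum.elim_inl, basis3, Module.Basis.mk_apply, LinearMap.coe_inl,
        Function.comp_apply, cmon3, map_mul, map_pow]
      rw [D.ρ_pow, hx, hy]
      rfl
    · show Φ (MvPolynomial.X y ^ (k + 1)) (1, 0) = B (cIdx (some (.inr (y, k))))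
      rw [map_pow, hΦ]
      cases y
      · rw [hpow]
        simp only [B, cIdx, Module.Basis.prod_apply, Sum.elim_inl, basis3, Module.Basis.mk_apply,
          LinearMap.coe_inl, Function.comp_apply, cmon3, map_pow]
        rw [hx]; rfl
      · rw [hpow]
        simp only [B, cIdx, Module.Basis.prod_apply, Sum.elim_inl, basis3, Module.Basis.mk_apply,
          LinearMap.coe_inl, Function.comp_apply, cmon3, map_pow]
        rw [hy]; rfl
      · rw [hZpow]
        simp [B, cIdx, PoleData.e, Finsupp.coe_basisSingleOne]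
  rw [show L ∘ cmon R m v = B ∘ cIdx from funext hL]
  exact B.linearIndependent.comp _ cIdx_injective

end Groth.Agent.Curves2
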