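import Groth.Agent.Curves2.NSNSRel

universe u w

namespace Groth.Agent.Curves2

open W4c5m1nsnscurves MvPolynomial

variable (R : Type u) [CommRing R] (m : ℕ)

/-- the values on the variables of the map `O(C_n) → O(U_{n+1})` -/
noncomputable def curveVal : CVar m → URing R (m + 1)
  | .x2 => ugen R (m + 1) (.ci (Fin.last m))
  | .x3 => ugen R (m + 1) .a + ugen R (m + 1) (.ci (Fin.last m)) + ugen R (m + 1) (.cbi (Fin.last m))
  | .xi i => ugen R (m + 1) (.cij i.castSucc (Fin.last m) (Fin.castSucc_lt_last i).ne)

theorem uincl_ugen (g : UGen m) : uincl R m (ugen R m g) = ugen R (m + 1) (UGen.castSucc g) := by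
  show Ideal.Quotient.mk _ (rename UGen.castSucc (X g)) = _
  rw [rename_X]; rfl

theorem crel_vanish : ∀ p ∈ CRel (URing R m) m (ugen R m),
    eval₂Hom (uincl R m).toRingHom (curveVal R m) p = 0 := by
  intro p hp
  have hs := isSol_ugen R (m + 1)
  rcases hp with (⟨i, rfl⟩ | ⟨i, rfl⟩) | ⟨⟨⟨i, j⟩, hij⟩, rfl⟩
  · have hne := (Fin.castSucc_lt_last i).ne
    simp [curveVal, uincl_ugen, UGen.castSucc]
    linear_combination (ugen R (m + 1) (.ci (Fin.last m))) * hs.lin _ _ hne
      - hs.qc _ _ hne
  · have hne := (Fin.castSucc_lt_last i).ne
    simp [curveVal, uincl_ugen, UGen.castSucc]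
    linear_combination
      (ugen R (m + 1) (.ci (Fin.last m)) - ugen R (m + 1) (.cbi i.castSucc)) * hs.lin _ _ hne
      - hs.qc _ _ hne + hs.qb _ _ hne
  · have hi := (Fin.castSucc_lt_last i).ne
    have hj := (Fin.castSucc_lt_last j).ne
    have hij' : i.castSucc ≠ j.castSucc := fun e => hij (Fin.castSucc_injective _ e)
    simp [curveVal, uincl_ugen, UGen.castSucc]
    linear_combination -hs.cub _ _ _ hij' hj hi

/-- the map `O(C_n) → O(U_{n+1})` -/
noncomputable def curveTo : CurveAlg (URing R m) m (ugen R m) →+* URing R (m + 1) :=
  Ideal.Quotient.lift _ (eval₂Hom (uincl R m).toRingHom (curveVal R m)) (fun p hp => by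
    have h : Ideal.span (CRel (URing R m) m (ugen R m)) ≤
        RingHom.ker (eval₂Hom (uincl R m).toRingHom (curveVal R m)) := by
      rw [Ideal.span_le]
      exact fun q hq => crel_vanish R m q hq
    exact h hp)

/-- the class of a variable of the curve -/
noncomputable def cx (y : CVar m) : CurveAlg (URing R m) m (ugen R m) :=
  Ideal.Quotient.mk _ (X y)

/-- the class of a constant of the curve -/
noncomputable def cc (g : UGen m) : CurveAlg (URing R m) m (ugen R m) :=
  algebraMap (URing R m) _ (ugen R m g)

theorem curveTo_cx (y : CVar m) : curveTo R m (cx R m y) = curveVal R m y := by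
  show eval₂Hom _ _ (X y) = _
  simp

theorem curveTo_algebraMap (r : URing R m) :
    curveTo R m (algebraMap (URing R m) _ r) = uincl R m r := by
  show eval₂Hom _ _ (C r) = _
  simp

theorem rel2 (i : Fin m) : cx R m .x2 * cx R m (.xi i) =
    cx R m .x2 * cx R m .x3 + cc R m (.ci i) * cx R m (.xi i) + cc R m (.cbi i) * cx R m .x2 - cc R m .c := by
  rw [← sub_eq_zero]
  exact Ideal.Quotient.eq_zero_iff_mem.mpr (Ideal.subset_span (Or.inl (Or.inl ⟨i, rfl⟩)))

theorem rel3 (i : Fin m) : cx R m .x3 * cx R m (.xi i) =
    cx R m .x2 * cx R m .x3 + (cc R m .a + cc R m (.ci i) + cc R m (.cbi i)) * (cx R m (.xi i) - cc R m (.cbi i)) +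
      cc R m .cb - cc R m .c := by
  rw [← sub_eq_zero]
  have h : Ideal.Quotient.mk (Ideal.span (CRel (URing R m) m (ugen R m))) _ = 0 :=
    Ideal.Quotient.eq_zero_iff_mem.mpr (Ideal.subset_span (Or.inl (Or.inr ⟨i, rfl⟩)))
  simp only [map_sub, map_add, map_mul] at h
  exact h

theorem rel_ij (i j : Fin m) (h : i ≠ j) : cx R m (.xi i) * cx R m (.xi j) =
    cx R m .x2 * cx R m .x3 + cc R m (.cij i j h) * cx R m (.xi j) +
      cc R m (.cij j i h.symm) * cx R m (.xi i) - cc R m .c := by
  rw [← sub_eq_zero]
  exact Ideal.Quotient.eq_zero_iff_mem.mpr (Ideal.subset_span (Or.inr ⟨⟨(i, j), h⟩, rfl⟩))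

theorem isSol_cc : IsSol (cc R m) := by
  have hs := isSol_ugen R m
  refine ⟨fun i j h => ?_, fun i j h => ?_, fun i j h => ?_, fun i j l a b c => ?_⟩ <;>
    simp only [cc, ← map_add, ← map_sub, ← map_mul]
  · rw [hs.lin i j h]
  · rw [hs.qc i j h]
  · rw [hs.qb i j h]
  · rw [hs.cub i j l a b c]

/-- the values on the generators of the inverse map -/
noncomputable def succVal : UGen (m + 1) → CurveAlg (URing R m) m (ugen R m)
  | .a => cc R m .a
  | .c => cc R m .c
  | .cb => cc R m .cb
  | .ci i => Fin.lastCases (cx R m .x2) (fun i => cc R m (.ci i)) i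
  | .cbi i => Fin.lastCases (cx R m .x3 - cx R m .x2 - cc R m .a) (fun i => cc R m (.cbi i)) i
  | .cij i j _ => Fin.lastCases
      (Fin.lastCases 0 (fun j => cc R m (.ci j) + cc R m (.cbi j) + cx R m .x3 - cx R m (.xi j)) j)
      (fun i => Fin.lastCases (cx R m (.xi i))
        (fun j => if h : i = j then 0 else cc R m (.cij i j h)) j) i

theorem isSol_succVal : IsSol (succVal R m) := by
  have hs := isSol_cc R m
  have lin : ∀ (i j : Fin (m + 1)) (h : i ≠ j), succVal R m (.cij i j h) + succVal R m (.cij j i h.symm) =
      succVal R m .a + succVal R m (.ci i) + succVal R m (.cbi i) + succVal R m (.ci j) + succVal R m (.cbi j) := by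
    intro i j h
    induction i using Fin.lastCases with
    | last =>
      induction j using Fin.lastCases with
      | last => exact absurd rfl h
      | cast j => simp [succVal]; ring
    | cast i =>
      induction j using Fin.lastCases with
      | last => simp [succVal]; ring
      | cast j =>
        have hij : i ≠ j := fun e => h (congrArg Fin.castSucc e)
        simpa [succVal, hij, hij.symm] using hs.lin i j hij
  have qc : ∀ (i j : Fin (m + 1)) (h : i ≠ j), succVal R m (.cij j i h.symm) * succVal R m (.ci j) +
      succVal R m (.cij i j h) * succVal R m (.ci i) -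
      succVal R m (.ci i) * succVal R m (.ci j) = succVal R m .c := by
    intro i j h
    induction i using Fin.lastCases with
    | last =>
      induction j using Fin.lastCases with
      | last => exact absurd rfl h
      | cast j => simp [succVal]; linear_combination -rel2 R m j
    | cast i =>
      induction j using Fin.lastCases with
      | last => simp [succVal]; linear_combination -rel2 R m i
      | cast j =>
        have hij : i ≠ j := fun e => h (congrArg Fin.castSucc e)
        simpa [succVal, hij, hij.symm] using hs.qc i j hij
  have qb : ∀ (i j : Fin (m + 1)) (h : i ≠ j), succVal R m (.cij j i h.symm) * succVal R m (.cbi i) +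
      succVal R m (.cij i j h) * succVal R m (.cbi j) -
      succVal R m (.cbi i) * succVal R m (.cbi j) = succVal R m .cb := by
    intro i j h
    induction i using Fin.lastCases with
    | last =>
      induction j using Fin.lastCases with
      | last => exact absurd rfl h
      | cast j => simp [succVal]; linear_combination rel3 R m j - rel2 R m j
    | cast i =>
      induction j using Fin.lastCases with
      | last => simp [succVal]; linear_combination rel3 R m i - rel2 R m i
      | cast j =>
        have hij : i ≠ j := fun e => h (congrArg Fin.castSucc e)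
        simpa [succVal, hij, hij.symm] using hs.qb i j hij
  refine ⟨lin, qc, qb, ?_⟩
  have cubLast : ∀ (i j : Fin m) (h : i ≠ j) h1 h2 h3,
      succVal R m (.cij i.castSucc j.castSucc h1) * succVal R m (.cij j.castSucc (Fin.last m) h2) +
        succVal R m (.cij j.castSucc i.castSucc h1.symm) * succVal R m (.cij i.castSucc (Fin.last m) h3) -
        succVal R m (.cij i.castSucc (Fin.last m) h3) * succVal R m (.cij j.castSucc (Fin.last m) h2) +
        (succVal R m .a + succVal R m (.ci (Fin.last m)) + succVal R m (.cbi (Fin.last m))) *
          succVal R m (.ci (Fin.last m)) = succVal R m .c := by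
    intro i j h h1 h2 h3
    simp [succVal, h, h.symm]
    linear_combination -rel_ij R m i j h
  intro i j l hij hjl hil
  induction l using Fin.lastCases with
  | last =>
    induction i using Fin.lastCases with
    | last => exact absurd rfl hil
    | cast i =>
      induction j using Fin.lastCases with
      | last => exact absurd rfl hjl
      | cast j => exact cubLast i j (fun e => hij (congrArg Fin.castSucc e)) hij hjl hil
  | cast l =>
    induction j using Fin.lastCases with
    | last =>
      induction i using Fin.lastCases with
      | last => exact absurd rfl hij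
      | cast i =>
        exact cub_swap (lin _ _ hjl.symm) (lin _ _ hil) (lin _ _ hij)
          (qc _ _ hil) (qc _ _ hij) (qb _ _ hil) (qb _ _ hij)
          (cubLast i l (fun e => hil (congrArg Fin.castSucc e)) hil hjl.symm hij)
    | cast j =>
      induction i using Fin.lastCases with
      | last =>
        have h := cub_swap (lin _ _ hil.symm) (lin _ _ hjl) (lin _ _ hij.symm)
          (qc _ _ hjl) (qc _ _ hij.symm) (qb _ _ hjl) (qb _ _ hij.symm)
          (cubLast j l (fun e => hjl (congrArg Fin.castSucc e)) hjl hil.symm hij.symm)
        linear_combination h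
      | cast i =>
        have a : i ≠ j := fun e => hij (congrArg Fin.castSucc e)
        have b : j ≠ l := fun e => hjl (congrArg Fin.castSucc e)
        have c : i ≠ l := fun e => hil (congrArg Fin.castSucc e)
        simpa [succVal, a, a.symm, b, c] using hs.cub i j l a b c

/-- the map `O(U_{n+1}) → O(C_n)` -/
noncomputable def curveInv : URing R (m + 1) →+* CurveAlg (URing R m) m (ugen R m) :=
  (liftU (R := R) (succVal R m) (isSol_succVal R m)).toRingHom

theorem curveInv_ugen (g : UGen (m + 1)) : curveInv R m (ugen R (m + 1) g) = succVal R m g :=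
  liftU_ugen _ _ g

theorem curveInv_algebraMap (r : R) :
    curveInv R m (algebraMap R _ r) = algebraMap R _ r :=
  (liftU (R := R) (succVal R m) (isSol_succVal R m)).commutes r

theorem succVal_castSucc (g : UGen m) : succVal R m (UGen.castSucc g) = cc R m g := by
  cases g <;> simp [succVal, UGen.castSucc]
  next i j h => simp [h]

theorem curveInv_uincl (r : URing R m) :
    curveInv R m (uincl R m r) = algebraMap (URing R m) _ r := by
  have h : (liftU (R := R) (succVal R m) (isSol_succVal R m)).comp (uincl R m) =
      IsScalarTower.toAlgHom R (URing R m) (CurveAlg (URing R m) m (ugen R m)) := by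
    refine algHom_ext_U fun g => ?_
    rw [AlgHom.comp_apply, uincl_ugen, liftU_ugen, succVal_castSucc]
    rfl
  exact AlgHom.congr_fun h r

theorem curveTo_cc (g : UGen m) : curveTo R m (cc R m g) = ugen R (m + 1) (UGen.castSucc g) := by
  rw [cc, curveTo_algebraMap, uincl_ugen]

theorem curveTo_curveInv_ugen (g : UGen (m + 1)) :
    curveTo R m (curveInv R m (ugen R (m + 1) g)) = ugen R (m + 1) g := by
  rw [curveInv_ugen]
  have hs := isSol_ugen R (m + 1)
  cases g with
  | a => simp [succVal, curveTo_cc, UGen.castSucc]
  | c => simp [succVal, curveTo_cc, UGen.castSucc]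
  | cb => simp [succVal, curveTo_cc, UGen.castSucc]
  | ci i => induction i using Fin.lastCases <;> simp [succVal, curveTo_cc, curveTo_cx, curveVal, UGen.castSucc]
  | cbi i =>
    induction i using Fin.lastCases with
    | last => simp [succVal, curveTo_cc, curveTo_cx, curveVal, UGen.castSucc]; ring
    | cast i => simp [succVal, curveTo_cc, curveTo_cx, curveVal, UGen.castSucc]
  | cij i j h =>
    induction i using Fin.lastCases with
    | last =>
      induction j using Fin.lastCases with
      | last => exact absurd rfl h
      | cast j =>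
        simp [succVal, curveTo_cc, curveTo_cx, curveVal, UGen.castSucc]
        linear_combination -hs.lin _ _ h
    | cast i =>
      induction j using Fin.lastCases with
      | last => simp [succVal, curveTo_cx, curveVal]
      | cast j =>
        have hij : i ≠ j := fun e => h (congrArg Fin.castSucc e)
        simp [succVal, hij, curveTo_cc, UGen.castSucc]

theorem curveTo_comp_curveInv : (curveTo R m).comp (curveInv R m) = RingHom.id _ := by
  refine Ideal.Quotient.ringHom_ext (MvPolynomial.ringHom_ext (fun r => ?_) (fun g => curveTo_curveInv_ugen R m g))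
  show curveTo R m (curveInv R m (algebraMap R (URing R (m + 1)) r)) = algebraMap R (URing R (m + 1)) r
  rw [curveInv_algebraMap, IsScalarTower.algebraMap_apply R (URing R m), curveTo_algebraMap, AlgHom.commutes]

theorem curveInv_comp_curveTo : (curveInv R m).comp (curveTo R m) = RingHom.id _ := by
  refine Ideal.Quotient.ringHom_ext (MvPolynomial.ringHom_ext (fun r => ?_) (fun y => ?_))
  · show curveInv R m (curveTo R m (algebraMap (URing R m) _ r)) = algebraMap (URing R m) _ r
    rw [curveTo_algebraMap, curveInv_uincl]
  · show curveInv R m (curveTo R m (cx R m y)) = cx R m y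
    rw [curveTo_cx]
    cases y <;> simp [curveVal, curveInv_ugen, succVal]
    ring

/-- `O(C_n) ≅ O(U_{n+1})` -/
noncomputable def curveEquiv : CurveAlg (URing R m) m (ugen R m) ≃+* URing R (m + 1) :=
  RingEquiv.ofRingHom (curveTo R m) (curveInv R m) (curveTo_comp_curveInv R m) (curveInv_comp_curveTo R m)

end Groth.Agent.Curves2
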