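import Groth.Agent.Curves2.NSNSSpan
import Groth.Agent.Curves2.NSNSSucc
import Mathlib.RingTheory.MvPolynomial.WeightedHomogeneous
import Mathlib.RingTheory.AlgebraTower
import Mathlib.RingTheory.MvPolynomial.Basic
import Mathlib.RingTheory.PowerSeries.WellKnown

namespace Groth.Agent.Curves2

open W4c5m1nsnscurves MvPolynomial

/-- the fibres of `w` are finite, counted by the series `S` -/
def Counted {α : Type*} (w : α → ℕ) (S : PowerSeries ℤ) : Prop :=
  ∀ d, Finite {a // w a = d} ∧ (Nat.card {a // w a = d} : ℤ) = PowerSeries.coeff d S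

theorem Counted.of_equiv {α β : Type*} {w : α → ℕ} {w' : β → ℕ} {S : PowerSeries ℤ} (h : Counted w S)
    (e : α ≃ β) (he : ∀ a, w' (e a) = w a) : Counted w' S := by
  intro d
  have e' : {a // w a = d} ≃ {b // w' b = d} := e.subtypeEquiv fun a => by rw [he]
  obtain ⟨h1, h2⟩ := h d
  exact ⟨Finite.of_equiv _ e', by rw [← Nat.card_congr e', h2]⟩

theorem Counted.prod {α β : Type*} {w : α → ℕ} {w' : β → ℕ} {S T : PowerSeries ℤ} (h : Counted w S)
    (h' : Counted w' T) : Counted (fun p : α × β => w p.1 + w' p.2) (S * T) := by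
  intro d
  classical
  let e : {p : α × β // w p.1 + w' p.2 = d} ≃
      (Σ x : (Finset.antidiagonal d : Finset (ℕ × ℕ)), {a // w a = x.1.1} × {b // w' b = x.1.2}) :=
    { toFun := fun p => ⟨⟨(w p.1.1, w' p.1.2), Finset.mem_antidiagonal.mpr p.2⟩, ⟨p.1.1, rfl⟩, ⟨p.1.2, rfl⟩⟩
      invFun := fun x => ⟨(x.2.1.1, x.2.2.1), by
        rw [x.2.1.2, x.2.2.2]; exact Finset.mem_antidiagonal.mp x.1.2⟩
      left_inv := fun p => rfl
      right_inv := by
        rintro ⟨⟨⟨i, j⟩, hx⟩, ⟨a, ha⟩, ⟨b, hb⟩⟩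
        simp only at ha hb
        subst ha hb
        rfl }
  have : ∀ i, Finite {a // w a = i} := fun i => (h i).1
  have : ∀ i, Finite {b // w' b = i} := fun i => (h' i).1
  refine ⟨Finite.of_equiv _ e.symm, ?_⟩
  rw [Nat.card_congr e, Nat.card_sigma, PowerSeries.coeff_mul, Nat.cast_sum,
    ← Finset.sum_coe_sort (Finset.antidiagonal d)]
  refine Finset.sum_congr rfl fun x _ => ?_
  rw [Nat.card_prod, Nat.cast_mul, (h _).2, (h' _).2]

theorem smul_curveAlg {R : Type*} [CommRing R] {k : ℕ} (v : UGen k → R) (r : R) (s : CurveAlg R k v) :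
    r • s = algebraMap R _ r * s := Algebra.smul_def r s

/-- the geometric series -/
noncomputable def geom : PowerSeries ℤ := PowerSeries.mk fun _ => (1 : ℤ)

theorem counted_id : Counted (id : ℕ → ℕ) geom := by
  intro d
  have e : {a : ℕ // id a = d} ≃ PUnit.{1} :=
    { toFun := fun _ => PUnit.unit, invFun := fun _ => ⟨d, rfl⟩, left_inv := fun a => Subtype.ext a.2.symm,
      right_inv := fun _ => rfl }
  exact ⟨Finite.of_equiv _ e.symm, by rw [Nat.card_congr e]; simp [geom]⟩

theorem counted_fin (n : ℕ) : Counted (fun f : Fin n → ℕ => ∑ i, f i) (geom ^ n) := by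
  induction n with
  | zero =>
    intro d
    rcases d with _ | d
    · have e : {f : Fin 0 → ℕ // ∑ i, f i = 0} ≃ PUnit.{1} :=
        { toFun := fun _ => PUnit.unit, invFun := fun _ => ⟨Fin.elim0, by simp⟩,
          left_inv := fun a => Subtype.ext (Subsingleton.elim _ _), right_inv := fun _ => rfl }
      exact ⟨Finite.of_equiv _ e.symm, by rw [Nat.card_congr e]; simp⟩
    · have : IsEmpty {f : Fin 0 → ℕ // ∑ i, f i = d + 1} := ⟨fun f => by simpa using f.2⟩
      exact ⟨Finite.of_subsingleton, by simp⟩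
  | succ n ih =>
    rw [pow_succ']
    refine (counted_id.prod ih).of_equiv (Fin.consEquiv fun _ => ℕ) fun p => ?_
    simp [Fin.consEquiv, Fin.sum_univ_succ]

/-- weight of a basis monomial of the curve -/
def wMon {m : ℕ} : Option (ℕ ⊕ (CVar m × ℕ)) → ℕ
  | none => 0
  | some (.inl k) => k + 2
  | some (.inr (_, k)) => k + 1

/-- the variables of the curve -/
def cvarEquiv (m : ℕ) : CVar m ≃ Option (Option (Fin m)) where
  toFun
    | .x2 => none
    | .x3 => some none
    | .xi i => some (some i)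
  invFun
    | none => .x2
    | some none => .x3
    | some (some i) => .xi i
  left_inv := by rintro (_ | _ | i) <;> rfl
  right_inv := by rintro (_ | _ | i) <;> rfl

theorem finite_cvar (m : ℕ) : Finite (CVar m) := Finite.of_equiv _ (cvarEquiv m).symm

theorem card_cvar (m : ℕ) : Nat.card (CVar m) = m + 2 := by
  rw [Nat.card_congr (cvarEquiv m)]; simp

theorem counted_wMon (m : ℕ) : Counted (wMon (m := m))
    (geom * (1 + PowerSeries.C ((m : ℤ) + 1) * PowerSeries.X + PowerSeries.X ^ 2)) := by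
  have := finite_cvar m
  intro d
  have hcoef : PowerSeries.coeff d (geom * (1 + PowerSeries.C ((m : ℤ) + 1) * PowerSeries.X + PowerSeries.X ^ 2)) =
      if d = 0 then 1 else if d = 1 then (m : ℤ) + 2 else (m : ℤ) + 3 := by
    rw [mul_add, mul_add, mul_one, ← mul_assoc, map_add, map_add, PowerSeries.coeff_mul_X_pow']
    rcases d with _ | _ | d
    · simp [geom]
    · rw [PowerSeries.coeff_succ_mul_X, PowerSeries.coeff_mul_C]; simp [geom]; ring
    · rw [PowerSeries.coeff_succ_mul_X, PowerSeries.coeff_mul_C]; simp [geom]; ring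
  rw [hcoef]
  rcases d with _ | _ | d
  · have e : {o : Option (ℕ ⊕ (CVar m × ℕ)) // wMon o = 0} ≃ PUnit.{1} :=
      { toFun := fun _ => PUnit.unit, invFun := fun _ => ⟨none, rfl⟩,
        left_inv := by rintro ⟨_ | k | ⟨y, k⟩, h⟩ <;> simp [wMon] at h ⊢
        right_inv := fun _ => rfl }
    exact ⟨Finite.of_equiv _ e.symm, by rw [Nat.card_congr e]; simp⟩
  · have e : {o : Option (ℕ ⊕ (CVar m × ℕ)) // wMon o = 1} ≃ CVar m :=
      (Equiv.ofBijective (fun y => (⟨some (.inr (y, 0)), rfl⟩ : {o : Option (ℕ ⊕ (CVar m × ℕ)) // wMon o = 1}))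
        ⟨fun a b h => by simpa using congrArg Subtype.val h, by
          rintro ⟨_ | k | ⟨y, k⟩, h⟩ <;> simp [wMon] at h
          subst h; exact ⟨y, rfl⟩⟩).symm
    exact ⟨Finite.of_equiv _ e.symm, by rw [Nat.card_congr e, card_cvar]; simp⟩
  · have e : {o : Option (ℕ ⊕ (CVar m × ℕ)) // wMon o = d + 1 + 1} ≃ Option (CVar m) :=
      (Equiv.ofBijective (fun y : Option (CVar m) => (match y with
          | none => ⟨some (.inl d), rfl⟩
          | some y => ⟨some (.inr (y, d + 1)), rfl⟩ : {o : Option (ℕ ⊕ (CVar m × ℕ)) // wMon o = d + 1 + 1}))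
        ⟨fun a b h => by
          have := congrArg Subtype.val h
          rcases a with _ | a <;> rcases b with _ | b <;> simp at this ⊢
          exact this, by
          rintro ⟨_ | k | ⟨y, k⟩, h⟩ <;> simp [wMon] at h
          · obtain rfl : k = d := by omega
            exact ⟨none, rfl⟩
          · obtain rfl : k = d + 1 := by omega
            exact ⟨some y, rfl⟩⟩).symm
    refine ⟨Finite.of_equiv _ e.symm, ?_⟩
    rw [Nat.card_congr e, Finite.card_option, card_cvar]
    simp; ring

variable {m : ℕ}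

/-- product of homogeneous classes -/
theorem mul_mem_upiece {d e : ℕ} {x y : URing ℤ m} (hx : x ∈ upiece ℤ m d) (hy : y ∈ upiece ℤ m e) :
    x * y ∈ upiece ℤ m (d + e) := by
  obtain ⟨s, hs, rfl⟩ := (GrQuot.mem_quot_iff _ _ _ _).mp hx
  obtain ⟨t, ht, rfl⟩ := (GrQuot.mem_quot_iff _ _ _ _).mp hy
  exact (GrQuot.mem_quot_iff _ _ _ _).mpr ⟨s * t, IsWeightedHomogeneous.mul hs ht, map_mul _ _ _⟩

theorem one_mem_upiece : (1 : URing ℤ m) ∈ upiece ℤ m 0 :=
  (GrQuot.mem_quot_iff _ _ _ _).mpr ⟨1, isWeightedHomogeneous_one _ _, map_one _⟩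

theorem ugen_mem_upiece (g : UGen m) : ugen ℤ m g ∈ upiece ℤ m (uwt g) :=
  (GrQuot.mem_quot_iff _ _ _ _).mpr ⟨X g, isWeightedHomogeneous_X _ _ g, rfl⟩

theorem pow_mem_upiece {x : URing ℤ m} (hx : x ∈ upiece ℤ m 1) (n : ℕ) : x ^ n ∈ upiece ℤ m n := by
  induction n with
  | zero => simpa using one_mem_upiece
  | succ n ih => rw [pow_succ]; exact mul_mem_upiece ih hx

theorem isSol_scaled : IsSol (fun g : UGen m => Polynomial.C (ugen ℤ m g) * Polynomial.X ^ uwt g) := by
  have hs := isSol_ugen ℤ m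
  refine ⟨fun i j h => ?_, fun i j h => ?_, fun i j h => ?_, fun i j l a b c => ?_⟩ <;>
    simp only [uwt, pow_one]
  · have := congrArg Polynomial.C (hs.lin i j h)
    simp only [map_add] at this
    linear_combination Polynomial.X * this
  · have := congrArg Polynomial.C (hs.qc i j h)
    simp only [map_add, map_sub, map_mul] at this
    linear_combination Polynomial.X ^ 2 * this
  · have := congrArg Polynomial.C (hs.qb i j h)
    simp only [map_add, map_sub, map_mul] at this
    linear_combination Polynomial.X ^ 2 * this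
  · have := congrArg Polynomial.C (hs.cub i j l a b c)
    simp only [map_add, map_sub, map_mul] at this
    linear_combination Polynomial.X ^ 2 * this

theorem prod_scaled {σ A : Type*} [CommRing A] (wt : σ → ℕ) (f : σ → A) (s : σ →₀ ℕ) :
    (s.prod fun g n => (Polynomial.C (f g) * Polynomial.X ^ wt g) ^ n) =
      Polynomial.C (s.prod fun g n => f g ^ n) * Polynomial.X ^ (Finsupp.weight wt s) := by
  simp only [Finsupp.prod, mul_pow, ← map_pow, Finset.prod_mul_distrib, ← pow_mul, Finset.prod_pow_eq_pow_sum,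
    map_prod, Finsupp.weight_apply, Finsupp.sum, smul_eq_mul]
  congr 2
  exact Finset.sum_congr rfl fun g _ => mul_comm _ _

theorem scale_of_mem {d : ℕ} {x : URing ℤ m} (hx : x ∈ upiece ℤ m d) :
    liftU (R := ℤ) _ (isSol_scaled (m := m)) x = Polynomial.C x * Polynomial.X ^ d := by
  obtain ⟨p, hp, rfl⟩ := (GrQuot.mem_quot_iff _ _ _ _).mp hx
  rw [p.as_sum, map_sum, map_sum, map_sum, Finset.sum_mul]
  refine Finset.sum_congr rfl fun s hs => ?_
  have hd : Finsupp.weight uwt s = d := hp (mem_support_iff.mp hs)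
  generalize coeff s p = k
  have h1 : Ideal.Quotient.mk (Ideal.span (URel ℤ m)) (monomial s k) = aeval (ugen ℤ m) (monomial s k) :=
    DFunLike.congr_fun (aeval_unique (Ideal.Quotient.mkₐ ℤ (Ideal.span (URel ℤ m)))) (monomial s k)
  rw [h1, aeval_monomial]
  have h2 : liftU (R := ℤ) _ (isSol_scaled (m := m)) (algebraMap ℤ _ k * s.prod fun g n => ugen ℤ m g ^ n) =
      algebraMap ℤ _ k * Polynomial.C (s.prod fun g n => ugen ℤ m g ^ n) * Polynomial.X ^ d := by
    rw [map_mul, AlgHom.commutes, map_finsuppProd, mul_assoc, ← hd, ← prod_scaled]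
    simp only [map_pow, liftU_ugen]
  rw [h2, map_mul, ← Polynomial.algebraMap_apply]

theorem uincl_mem_upiece {d : ℕ} {x : URing ℤ m} (hx : x ∈ upiece ℤ m d) :
    uincl ℤ m x ∈ upiece ℤ (m + 1) d := by
  obtain ⟨p, hp, rfl⟩ := (GrQuot.mem_quot_iff _ _ _ _).mp hx
  rw [p.as_sum, map_sum, map_sum]
  refine Submodule.sum_mem _ fun s hs => ?_
  have hd : Finsupp.weight uwt s = d := hp (mem_support_iff.mp hs)
  refine (GrQuot.mem_quot_iff _ _ _ _).mpr ⟨monomial (s.mapDomain UGen.castSucc) (coeff s p), ?_, ?_⟩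
  · refine isWeightedHomogeneous_monomial _ _ _ ?_
    rw [Finsupp.weight_apply, Finsupp.sum_mapDomain_index (by simp) (by intros; simp [add_mul])]
    rw [← hd, Finsupp.weight_apply]
    refine Finsupp.sum_congr fun g _ => ?_
    cases g <;> rfl
  · rw [← rename_monomial]; rfl

theorem curveVal_mem_upiece (y : CVar m) : curveVal ℤ m y ∈ upiece ℤ (m + 1) 1 := by
  have hg : ∀ g : UGen (m + 1), uwt g = 1 → ugen ℤ (m + 1) g ∈ upiece ℤ (m + 1) 1 :=
    fun g h => by have := ugen_mem_upiece g; rwa [h] at this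
  cases y with
  | x2 => exact hg _ rfl
  | x3 => exact add_mem (add_mem (hg _ rfl) (hg _ rfl)) (hg _ rfl)
  | xi i => exact hg _ rfl

theorem curveTo_cmon_mem (o : Option (ℕ ⊕ (CVar m × ℕ))) :
    curveTo ℤ m (cmon (URing ℤ m) m (ugen ℤ m) o) ∈ upiece ℤ (m + 1) (wMon o) := by
  have hvar : ∀ y, curveTo ℤ m (Ideal.Quotient.mk _ (X y)) ∈ upiece ℤ (m + 1) 1 := fun y => by
    rw [show curveTo ℤ m (Ideal.Quotient.mk _ (X y)) = curveVal ℤ m y from curveTo_cx ℤ m y]
    exact curveVal_mem_upiece y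
  rcases o with _ | k | ⟨y, k⟩
  · show curveTo ℤ m 1 ∈ upiece ℤ (m + 1) 0
    rw [map_one]; exact one_mem_upiece
  · show curveTo ℤ m (Ideal.Quotient.mk _ _) ∈ upiece ℤ (m + 1) (k + 1 + 1)
    rw [map_mul (Ideal.Quotient.mk _), map_pow (Ideal.Quotient.mk _), map_mul, map_pow]
    exact mul_mem_upiece (pow_mem_upiece (hvar _) _) (hvar _)
  · show curveTo ℤ m (Ideal.Quotient.mk _ _) ∈ upiece ℤ (m + 1) (k + 1)
    rw [map_pow (Ideal.Quotient.mk _), map_pow]
    exact pow_mem_upiece (hvar _) _

/-- a homogeneous basis with the expected count -/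
theorem exists_basis : ∀ m, 2 ≤ m → ∃ (ι : Type) (b : Module.Basis ι ℤ (URing ℤ m)) (w : ι → ℕ),
    (∀ i, b i ∈ upiece ℤ m (w i)) ∧ Counted w (uhilb m) := by
  intro m hm
  induction m, hm using Nat.le_induction with
  | base =>
    let φ : MvPolynomial (Fin 6) ℤ →ₐ[ℤ] URing ℤ 2 := aeval
      ![ugen ℤ 2 .a, ugen ℤ 2 (.ci 0), ugen ℤ 2 (.cbi 0), ugen ℤ 2 (.ci 1), ugen ℤ 2 (.cbi 1),
        ugen ℤ 2 (.cij 0 1 Fin.zero_ne_one)]
    let v : UGen 2 → MvPolynomial (Fin 6) ℤ := fun g => match g with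
      | .a => X 0
      | .ci i => ![X 1, X 3] i
      | .cbi i => ![X 2, X 4] i
      | .cij i _ _ => ![X 5, X 0 + X 1 + X 2 + X 3 + X 4 - X 5] i
      | .c => (X 0 + X 1 + X 2 + X 3 + X 4 - X 5) * X 3 + X 5 * X 1 - X 1 * X 3
      | .cb => (X 0 + X 1 + X 2 + X 3 + X 4 - X 5) * X 2 + X 5 * X 4 - X 2 * X 4
    have hv : IsSol v := by
      refine ⟨fun i j h => ?_, fun i j h => ?_, fun i j h => ?_, fun i j l hij hjl hil => ?_⟩
      · fin_cases i <;> fin_cases j <;> first | (exact absurd rfl h) | (simp [v]; done) | (simp [v]; ring)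
      · fin_cases i <;> fin_cases j <;> first | (exact absurd rfl h) | (simp [v]; done) | (simp [v]; ring)
      · fin_cases i <;> fin_cases j <;> first | (exact absurd rfl h) | (simp [v]; done) | (simp [v]; ring)
      · exfalso; omega
    have h1 : (liftU (R := ℤ) v hv).comp φ = AlgHom.id ℤ _ := by
      refine MvPolynomial.algHom_ext fun i => ?_
      fin_cases i <;> simp [φ, v]
    have hs := isSol_ugen ℤ 2
    have h2 : φ.comp (liftU (R := ℤ) v hv) = AlgHom.id ℤ _ := by
      refine algHom_ext_U fun g => ?_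
      rw [AlgHom.comp_apply, liftU_ugen, AlgHom.id_apply]
      have hlin := hs.lin 0 1 Fin.zero_ne_one
      cases g with
      | a => simp [φ, v]
      | ci i => fin_cases i <;> simp [φ, v]
      | cbi i => fin_cases i <;> simp [φ, v]
      | c =>
        simp [φ, v]
        linear_combination hs.qc 0 1 Fin.zero_ne_one - ugen ℤ 2 (.ci 1) * hlin
      | cb =>
        simp [φ, v]
        linear_combination hs.qb 0 1 Fin.zero_ne_one - ugen ℤ 2 (.cbi 0) * hlin
      | cij i j h =>
        fin_cases i <;> fin_cases j <;> first | (exact absurd rfl h) | skip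
        · simp [φ, v]
        · simp [φ, v]
          linear_combination -hlin
    refine ⟨Fin 6 → ℕ, ((basisMonomials (Fin 6) ℤ).reindex Finsupp.equivFunOnFinite).map
      (AlgEquiv.ofAlgHom φ (liftU (R := ℤ) v hv) h2 h1).toLinearEquiv, fun f => ∑ i, f i, fun f => ?_, ?_⟩
    · have hd : (monomial (Finsupp.equivFunOnFinite.symm f) (1 : ℤ) : MvPolynomial (Fin 6) ℤ) =
          ∏ i, X i ^ f i := by
        rw [monomial_eq, map_one, one_mul, Finsupp.prod_fintype _ _ (fun i => pow_zero _)]
        rfl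
      rw [Module.Basis.map_apply, Module.Basis.reindex_apply, coe_basisMonomials]
      show φ (monomial (Finsupp.equivFunOnFinite.symm f) 1) ∈ _
      rw [hd, map_prod]
      show _ ∈ upiece ℤ 2 (∑ i, f i)
      induction (Finset.univ : Finset (Fin 6)) using Finset.induction_on with
      | empty => simpa using one_mem_upiece
      | insert i s hi ih =>
        rw [Finset.prod_insert hi, Finset.sum_insert hi]
        refine mul_mem_upiece ?_ ih
        rw [map_pow]
        refine pow_mem_upiece ?_ _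
        have hg : ∀ g : UGen 2, uwt g = 1 → ugen ℤ 2 g ∈ upiece ℤ 2 1 := fun g h => by have := ugen_mem_upiece g; rwa [h] at this
        fin_cases i <;> simp [φ] <;> exact hg _ rfl
    · have : uhilb 2 = geom ^ 6 := by simp [uhilb, geom]
      rw [this]
      exact counted_fin 6
  | succ m hm ih =>
    obtain ⟨ι, b, w, hb, hcount⟩ := ih
    let B := Module.Basis.mk (linearIndependent_cmon (isSol_ugen ℤ m) (by omega))
      (span_cmon (ugen ℤ m) (by omega)).ge
    let E : CurveAlg (URing ℤ m) m (ugen ℤ m) ≃ₗ[ℤ] URing ℤ (m + 1) :=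
      (curveEquiv ℤ m).toAddEquiv.toIntLinearEquiv
    refine ⟨ι × Option (ℕ ⊕ (CVar m × ℕ)), (b.smulTower B).map E, fun p => w p.1 + wMon p.2, ?_, ?_⟩
    · rintro ⟨i, o⟩
      rw [Module.Basis.map_apply, Module.Basis.smulTower_apply, Module.Basis.mk_apply]
      show curveTo ℤ m (b i • cmon (URing ℤ m) m (ugen ℤ m) o) ∈ _
      have e : b i • cmon (URing ℤ m) m (ugen ℤ m) o =
          algebraMap (URing ℤ m) _ (b i) * cmon (URing ℤ m) m (ugen ℤ m) o := smul_curveAlg _ _ _
      rw [e, map_mul, curveTo_algebraMap]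
      exact mul_mem_upiece (uincl_mem_upiece (hb i)) (curveTo_cmon_mem o)
    · have hh : uhilb (m + 1) = uhilb m *
          (geom * (1 + PowerSeries.C ((m : ℤ) + 1) * PowerSeries.X + PowerSeries.X ^ 2)) := by
        rw [uhilb, uhilb, Finset.prod_Icc_succ_top (by omega), show m + 1 + 4 = (m + 4) + 1 by omega, pow_succ]
        simp only [Nat.cast_add, Nat.cast_one, geom]
        ring
      rw [hh]
      exact hcount.prod (counted_wMon m)

theorem main (m : ℕ) (hm : 2 ≤ m) :
    Module.Free ℤ (URing ℤ m) ∧ DirectSum.IsInternal (upiece ℤ m) ∧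
      ∀ d : ℕ, (Module.finrank ℤ (upiece ℤ m d) : ℤ) = PowerSeries.coeff d (uhilb m) := by
  classical
  obtain ⟨ι, b, w, hb, hcount⟩ := exists_basis m hm
  have hle : ∀ d, upiece ℤ m d ≤ Submodule.span ℤ (b '' {i | w i = d}) := by
    intro d x hx
    let θ := liftU (R := ℤ) _ (isSol_scaled (m := m))
    have h : θ x = Polynomial.C x * Polynomial.X ^ d := scale_of_mem hx
    rw [← b.linearCombination_repr x, Finsupp.linearCombination_apply, Finsupp.sum, map_sum] at h
    have h' := congrArg (fun p => Polynomial.coeff p d) h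
    simp only [map_zsmul, θ, scale_of_mem (hb _), Polynomial.finsetSum_coeff,
      Polynomial.coeff_smul, Polynomial.coeff_C_mul_X_pow] at h'
    have hx' : (∑ i ∈ (b.repr x).support, (b.repr x) i • b i) = x := by
      conv_rhs => rw [← b.linearCombination_repr x, Finsupp.linearCombination_apply]
      rfl
    rw [if_pos trivial, hx'] at h'
    rw [← h']
    refine Submodule.sum_mem _ fun i _ => ?_
    split_ifs with hi
    · exact Submodule.smul_mem _ _ (Submodule.subset_span ⟨i, hi.symm, rfl⟩)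
    · simp
  have heq : ∀ d, upiece ℤ m d = Submodule.span ℤ (b '' {i | w i = d}) := fun d =>
    le_antisymm (hle d) (Submodule.span_le.mpr (by rintro _ ⟨i, rfl, rfl⟩; exact hb i))
  refine ⟨Module.Free.of_basis b, DirectSum.isInternal_submodule_of_iSupIndep_of_iSup_eq_top ?_ ?_, fun d => ?_⟩
  · intro d
    refine Disjoint.mono (hle d) ?_ (b.linearIndependent.disjoint_span_image
      (t := {i | w i ≠ d}) (Set.disjoint_left.mpr fun i h h' => h' h))
    refine iSup_le fun e => iSup_le fun he => (hle e).trans (Submodule.span_mono ?_)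
    exact Set.image_mono fun i (hi : w i = e) => hi.trans_ne he
  · rw [eq_top_iff, ← b.span_eq, Submodule.span_le]
    rintro _ ⟨i, rfl⟩
    exact Submodule.mem_iSup_of_mem (w i) (hb i)
  · have hf := (hcount d).1
    let fI : Fintype ↥{i | w i = d} := @Fintype.ofFinite _ hf
    let fJ : Fintype {i // w i = d} := fI
    have hli : LinearIndependent ℤ (fun i : {i // w i = d} => b i) :=
      b.linearIndependent.comp _ Subtype.val_injective
    rw [heq d, ← (hcount d).2, Set.image_eq_range, Nat.card_eq_fintype_card]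
    exact congrArg Nat.cast (finrank_span_eq_card hli)

end Groth.Agent.Curves2
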