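import Groth.Agent.Curves2.NSNSThree
import Mathlib.Data.Matrix.Mul
import Mathlib.Tactic

universe u

namespace Groth.Agent.Curves2

open W4c5m1nsnscurves

set_option linter.deprecated false in
/-- evaluation at commuting elements -/
theorem exists_commEval {R σ E : Type*} [CommRing R] [Ring E] [Algebra R E] (v : σ → E)
    (h : ∀ i j, v i * v j = v j * v i) :
    ∃ F : MvPolynomial σ R →ₐ[R] E, ∀ i, F (MvPolynomial.X i) = v i := by
  have hS : ∀ x ∈ Set.range v, ∀ y ∈ Set.range v, x * y = y * x := by
    rintro _ ⟨i, rfl⟩ _ ⟨j, rfl⟩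
    exact h i j
  let : CommRing (Algebra.adjoin R (Set.range v)) := { Algebra.adjoinCommSemiringOfComm R hS, (Algebra.adjoin R (Set.range v)).toRing with }
  exact ⟨(Algebra.adjoin R (Set.range v)).val.comp
      (MvPolynomial.aeval fun i => (⟨v i, Algebra.subset_adjoin ⟨i, rfl⟩⟩ : Algebra.adjoin R (Set.range v))),
    fun i => by simp⟩

/-- the two triangular matrices commute and satisfy the cubic -/
theorem mat_cubic {A : Type*} [CommRing A] (x y a b c d p q : A)
    (hr : x * y ^ 2 - x ^ 2 * y = a * x * y + b * x + c * y + d)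
    (hd : d = p * (a + p + q) * q - p * (b + c) - q * c - a * c) :
    !![x, x * y + q * x - c; 0, p] * !![y, x * y + (b - (a + p + q) * q); 0, a + p + q] =
      !![y, x * y + (b - (a + p + q) * q); 0, a + p + q] * !![x, x * y + q * x - c; 0, p] ∧
    (!![x, x * y + q * x - c; 0, p] *
        (!![y, x * y + (b - (a + p + q) * q); 0, a + p + q] * !![y, x * y + (b - (a + p + q) * q); 0, a + p + q]) -
      !![x, x * y + q * x - c; 0, p] * !![x, x * y + q * x - c; 0, p] *
        !![y, x * y + (b - (a + p + q) * q); 0, a + p + q] -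
      (!![a, 0; 0, a] * !![x, x * y + q * x - c; 0, p] * !![y, x * y + (b - (a + p + q) * q); 0, a + p + q] +
        !![b, 0; 0, b] * !![x, x * y + q * x - c; 0, p] +
        !![c, 0; 0, c] * !![y, x * y + (b - (a + p + q) * q); 0, a + p + q] + !![d, 0; 0, d]) = 0) := by
  constructor
  · ext i j
    fin_cases i <;> fin_cases j <;> simp [Matrix.mul_apply, Fin.sum_univ_two]
    · ring
    · linear_combination -hr - hd
    · ring
  · ext i j
    fin_cases i <;> fin_cases j <;> simp [Matrix.mul_apply, Fin.sum_univ_two]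
    · linear_combination hr
    · linear_combination x * hr + x * hd
    · linear_combination -hd

theorem exists_delta (R : Type u) [CommRing R] (a b c d p q : R)
    (hd : d = p * (a + p + q) * q - p * (b + c) - q * c - a * c) :
    ∃ (ε : CurveAlg3 R a b c d →ₐ[R] R) (δ : CurveAlg3 R a b c d →ₗ[R] CurveAlg3 R a b c d),
      ε (gx R a b c d) = p ∧ ε (gy R a b c d) = a + p + q ∧
      δ (gx R a b c d) = gx R a b c d * gy R a b c d + q • gx R a b c d - algebraMap R _ c ∧
      δ (gy R a b c d) = gx R a b c d * gy R a b c d + algebraMap R _ (b - (a + p + q) * q) ∧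
      δ 1 = 0 ∧ ∀ s t, δ (s * t) = s * δ t + ε t • δ s := by
  classical
  have hr := three_rel R a b c d
  generalize hx : gx R a b c d = x at hr
  generalize hy : gy R a b c d = y at hr
  let Mx : Matrix (Fin 2) (Fin 2) (CurveAlg3 R a b c d) :=
    !![x, x * y + algebraMap R _ q * x - algebraMap R _ c; 0, algebraMap R _ p]
  let My : Matrix (Fin 2) (Fin 2) (CurveAlg3 R a b c d) :=
    !![y, x * y + algebraMap R _ (b - (a + p + q) * q); 0, algebraMap R _ (a + p + q)]
  have hd' := congrArg (algebraMap R (CurveAlg3 R a b c d)) hd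
  simp only [map_add, map_sub, map_mul] at hd'
  obtain ⟨hcomm, hcub⟩ := mat_cubic x y _ _ _ _ _ _ hr hd'
  have hscal : ∀ r : R, algebraMap R (Matrix (Fin 2) (Fin 2) (CurveAlg3 R a b c d)) r =
      !![algebraMap R _ r, 0; 0, algebraMap R _ r] := by
    intro r
    ext i j
    fin_cases i <;> fin_cases j <;> simp [Matrix.algebraMap_matrix_apply]
  simp only [← map_add, ← map_sub, ← map_mul] at hcomm
  obtain ⟨F, hF⟩ := exists_commEval (R := R) ![Mx, My] (by
    intro i j
    fin_cases i <;> fin_cases j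
    · rfl
    · exact hcomm
    · exact hcomm.symm
    · rfl)
  have hf : F (MvPolynomial.X 0 * MvPolynomial.X 1 ^ 2 - MvPolynomial.X 0 ^ 2 * MvPolynomial.X 1 -
      (MvPolynomial.C a * MvPolynomial.X 0 * MvPolynomial.X 1 + MvPolynomial.C b * MvPolynomial.X 0 +
        MvPolynomial.C c * MvPolynomial.X 1 + MvPolynomial.C d)) = 0 := by
    simp only [← MvPolynomial.algebraMap_eq, pow_two, map_sub, map_add, map_mul, hF, AlgHom.commutes, hscal,
      Matrix.cons_val_zero, Matrix.cons_val_one, Mx, My]
    exact hcub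
  let G : CurveAlg3 R a b c d →ₐ[R] Matrix (Fin 2) (Fin 2) (CurveAlg3 R a b c d) :=
    Ideal.Quotient.liftₐ _ F (fun s hs => by
      obtain ⟨g, rfl⟩ := Ideal.mem_span_singleton'.mp hs
      rw [map_mul, hf, mul_zero])
  let e : MvPolynomial (Fin 2) R →ₐ[R] R := MvPolynomial.aeval ![p, a + p + q]
  let ε : CurveAlg3 R a b c d →ₐ[R] R := Ideal.Quotient.liftₐ _ e (fun s hs => by
    obtain ⟨g, rfl⟩ := Ideal.mem_span_singleton'.mp hs
    rw [map_mul]
    simp [e, hd]
    ring_nf
    )
  have hGx : G x = Mx := by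
    rw [← hx]; exact hF 0
  have hGy : G y = My := by
    rw [← hy]; exact hF 1
  have hεx : ε x = p := by
    rw [← hx]; show e (MvPolynomial.X 0) = p; simp [e]
  have hεy : ε y = a + p + q := by
    rw [← hy]; show e (MvPolynomial.X 1) = a + p + q; simp [e]
  have hshape : ∀ s, G s 1 0 = 0 ∧ G s 0 0 = s ∧ G s 1 1 = algebraMap R _ (ε s) := by
    intro s
    obtain ⟨s, rfl⟩ := Ideal.Quotient.mk_surjective s
    induction s using MvPolynomial.induction_on with
    | C r =>
      show G (algebraMap R _ r) 1 0 = 0 ∧ G (algebraMap R _ r) 0 0 = algebraMap R _ r ∧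
        G (algebraMap R _ r) 1 1 = algebraMap R _ (ε (algebraMap R _ r))
      rw [G.commutes, ε.commutes]
      simp [Matrix.algebraMap_matrix_apply]
    | add s t hs ht => simp only [map_add, Matrix.add_apply, hs, ht]; simp
    | mul_X s j hs =>
      obtain ⟨h1, h0, h11⟩ := hs
      simp only [map_mul]
      obtain rfl | rfl : j = 0 ∨ j = 1 := by omega
      · rw [show Ideal.Quotient.mk _ (MvPolynomial.X (R := R) (0 : Fin 2)) = x from hx, hGx, hεx]
        simp [Mx, Matrix.mul_apply, Fin.sum_univ_two, h1, h0, h11]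
      · rw [show Ideal.Quotient.mk _ (MvPolynomial.X (R := R) (1 : Fin 2)) = y from hy, hGy, hεy]
        simp [My, Matrix.mul_apply, Fin.sum_univ_two, h1, h0, h11]
  refine ⟨ε,
    { toFun := fun s => G s 0 1
      map_add' := fun s t => by simp [Matrix.add_apply]
      map_smul' := fun r s => by simp [Matrix.smul_apply] }, hεx, hεy, ?_, ?_, ?_, fun s t => ?_⟩
  · show G x 0 1 = _
    rw [hGx]; simp [Mx]
    exact (Algebra.smul_def q x).symm
  · show G y 0 1 = _
    rw [hGy]; simp [My]
  · show G 1 0 1 = 0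
    simp
  · show G (s * t) 0 1 = s * G t 0 1 + ε t • G s 0 1
    rw [map_mul, Matrix.mul_apply, Fin.sum_univ_two, (hshape s).2.1, (hshape t).2.2,
      mul_comm (G s 0 1)]
    exact congrArg _ (Algebra.smul_def _ _).symm

end Groth.Agent.Curves2
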