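import Groth.Prelude.Def_W4c5m1nsnscurvesC
import Groth.Prelude.Def_W4c5m1nsnscurvesI
import Mathlib.Tactic

universe u w

namespace Groth.Agent.Curves2

open W4c5m1nsnscurves MvPolynomial

variable {A : Type w} [CommRing A] {m : ℕ}

/-- the relations of `U_n` for an assignment in a ring -/
structure IsSol (v : UGen m → A) : Prop where
  lin : ∀ i j (h : i ≠ j), v (.cij i j h) + v (.cij j i h.symm) =
    v .a + v (.ci i) + v (.cbi i) + v (.ci j) + v (.cbi j)
  qc : ∀ i j (h : i ≠ j), v (.cij j i h.symm) * v (.ci j) + v (.cij i j h) * v (.ci i) -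
    v (.ci i) * v (.ci j) = v .c
  qb : ∀ i j (h : i ≠ j), v (.cij j i h.symm) * v (.cbi i) + v (.cij i j h) * v (.cbi j) -
    v (.cbi i) * v (.cbi j) = v .cb
  cub : ∀ i j l (hij : i ≠ j) (hjl : j ≠ l) (hil : i ≠ l),
    v (.cij i j hij) * v (.cij j l hjl) + v (.cij j i hij.symm) * v (.cij i l hil) -
      v (.cij i l hil) * v (.cij j l hjl) + (v .a + v (.ci l) + v (.cbi l)) * v (.ci l) = v .c

theorem isSol_iff {R : Type u} [CommRing R] (f : MvPolynomial (UGen m) R →+* A) :
    (∀ p ∈ URel R m, f p = 0) ↔ IsSol (fun g => f (X g)) := by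
  constructor
  · intro h
    refine ⟨fun i j hij => ?_, fun i j hij => ?_, fun i j hij => ?_, fun i j l hij hjl hil => ?_⟩
    · have := h _ (Or.inl (Or.inl (Or.inl ⟨⟨(i, j), hij⟩, rfl⟩)))
      simpa [sub_eq_zero] using this
    · have := h _ (Or.inl (Or.inl (Or.inr ⟨⟨(i, j), hij⟩, rfl⟩)))
      simpa [sub_eq_zero] using this
    · have := h _ (Or.inl (Or.inr ⟨⟨(i, j), hij⟩, rfl⟩))
      simpa [sub_eq_zero] using this
    · have := h _ (Or.inr ⟨⟨(i, j, l), hij, hjl, hil⟩, rfl⟩)
      simpa [sub_eq_zero] using this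
  · intro h p hp
    rcases hp with ((⟨⟨⟨i, j⟩, hq⟩, rfl⟩ | ⟨⟨⟨i, j⟩, hq⟩, rfl⟩) | ⟨⟨⟨i, j⟩, hq⟩, rfl⟩) |
      ⟨⟨⟨i, j, l⟩, hij, hjl, hil⟩, rfl⟩
    · simpa [sub_eq_zero] using h.lin i j hq
    · simpa [sub_eq_zero] using h.qc i j hq
    · simpa [sub_eq_zero] using h.qb i j hq
    · simpa [sub_eq_zero] using h.cub i j l hij hjl hil

theorem isSol_ugen (R : Type u) [CommRing R] (m : ℕ) : IsSol (ugen R m) :=
  (isSol_iff (R := R) (Ideal.Quotient.mk (Ideal.span (URel R m)))).mp
    fun _ hp => Ideal.Quotient.eq_zero_iff_mem.mpr (Ideal.subset_span hp)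

/-- the ring map out of `URing R m` of a solution -/
noncomputable def liftU {R : Type u} [CommRing R] [Algebra R A] (v : UGen m → A) (hv : IsSol v) :
    URing R m →ₐ[R] A :=
  Ideal.Quotient.liftₐ (Ideal.span (URel R m)) (aeval v) (fun p hp => by
    have h : Ideal.span (URel R m) ≤ RingHom.ker (aeval v : MvPolynomial (UGen m) R →ₐ[R] A).toRingHom := by
      rw [Ideal.span_le]
      intro q hq
      refine (isSol_iff (aeval v : MvPolynomial (UGen m) R →ₐ[R] A).toRingHom).mpr ?_ q hq
      simpa using hv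
    exact h hp)

@[simp]
theorem liftU_ugen {R : Type u} [CommRing R] [Algebra R A] (v : UGen m → A) (hv : IsSol v) (g : UGen m) :
    liftU (R := R) v hv (ugen R m g) = v g := by
  show aeval v (X g) = v g
  simp

/-- two algebra maps out of `URing R m` agree if they agree on generators -/
theorem algHom_ext_U {R : Type u} [CommRing R] [Algebra R A] {f f' : URing R m →ₐ[R] A}
    (h : ∀ g, f (ugen R m g) = f' (ugen R m g)) : f = f' :=
  Ideal.Quotient.algHom_ext R (MvPolynomial.algHom_ext h)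

/-- the cubic relation for `(i, l, j)` follows from the one for `(i, j, l)` -/
theorem cub_swap {a c cb ci cbi cj cbj cl cbl cij cji cil cli cjl clj : A}
    (hjl : cjl + clj = a + cj + cbj + cl + cbl)
    (hij : cij + cji = a + ci + cbi + cj + cbj) (hil : cil + cli = a + ci + cbi + cl + cbl)
    (qij : cji * cj + cij * ci - ci * cj = c) (qil : cli * cl + cil * ci - ci * cl = c)
    (bij : cji * cbi + cij * cbj - cbi * cbj = cb) (bil : cli * cbi + cil * cbl - cbi * cbl = cb)
    (h : cij * cjl + cji * cil - cil * cjl + (a + cl + cbl) * cl = c) :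
    cil * clj + cli * cij - cij * clj + (a + cj + cbj) * cj = c := by
  linear_combination h + qij - qil + bil - bij + (cil - cij) * hjl
    + (-cj - cil + cbi) * hij + (cl + cij - cbi) * hil

end Groth.Agent.Curves2
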