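import Groth.Agent.Curves2.NSNSBasis

universe u

namespace Groth.Agent.Curves2

open W4c5m1nsnscurves

variable {R : Type u} [CommRing R] {m : ℕ} (v : UGen m → R)

/-- class of a variable -/
noncomputable def cX (y : CVar m) : CurveAlg R m v := Ideal.Quotient.mk _ (MvPolynomial.X y)

/-- class of a constant -/
noncomputable def cK (g : UGen m) : CurveAlg R m v := algebraMap R _ (v g)

theorem crel2 (i : Fin m) : cX v .x2 * cX v (.xi i) =
    cX v .x2 * cX v .x3 + cK v (.ci i) * cX v (.xi i) + cK v (.cbi i) * cX v .x2 - cK v .c := by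
  rw [← sub_eq_zero]
  exact Ideal.Quotient.eq_zero_iff_mem.mpr (Ideal.subset_span (Or.inl (Or.inl ⟨i, rfl⟩)))

theorem crel3 (i : Fin m) : cX v .x3 * cX v (.xi i) =
    cX v .x2 * cX v .x3 + (cK v .a + cK v (.ci i) + cK v (.cbi i)) * (cX v (.xi i) - cK v (.cbi i)) +
      cK v .cb - cK v .c := by
  rw [← sub_eq_zero]
  have h : Ideal.Quotient.mk (Ideal.span (CRel R m v)) _ = 0 :=
    Ideal.Quotient.eq_zero_iff_mem.mpr (Ideal.subset_span (Or.inl (Or.inr ⟨i, rfl⟩)))
  simp only [map_sub, map_add, map_mul] at h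
  exact h

theorem crel_ij (i j : Fin m) (h : i ≠ j) : cX v (.xi i) * cX v (.xi j) =
    cX v .x2 * cX v .x3 + cK v (.cij i j h) * cX v (.xi j) + cK v (.cij j i h.symm) * cX v (.xi i) - cK v .c := by
  rw [← sub_eq_zero]
  exact Ideal.Quotient.eq_zero_iff_mem.mpr (Ideal.subset_span (Or.inr ⟨⟨(i, j), h⟩, rfl⟩))

theorem cubic (i : Fin m) : cX v .x2 * cX v .x3 ^ 2 - cX v .x2 ^ 2 * cX v .x3 =
    cK v .a * cX v .x2 * cX v .x3 + (cK v .cb - cK v .c) * cX v .x2 + cK v .c * cX v .x3 +
      algebraMap R _ (dval v i) := by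
  simp only [dval, map_sub, map_mul, map_add]
  show _ = _ + _ + _ + (cK v (.ci i) * (cK v .a + cK v (.ci i) + cK v (.cbi i)) * cK v (.cbi i) -
    cK v (.ci i) * cK v .cb - cK v (.cbi i) * cK v .c - cK v .a * cK v .c)
  linear_combination (cX v .x2 - cK v (.ci i)) * crel3 v i -
    (cX v .x3 - (cK v .a + cK v (.ci i) + cK v (.cbi i))) * crel2 v i

theorem span_cmon (hm : 1 ≤ m) : Submodule.span R (Set.range (cmon R m v)) = ⊤ := by
  let S := Submodule.span R (Set.range (cmon R m v))
  let i₀ : Fin m := ⟨0, hm⟩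
  have hsm : ∀ (g : UGen m) (s : CurveAlg R m v), s ∈ S → cK v g * s ∈ S := by
    intro g s hs
    have : cK v g * s = v g • s := (Algebra.smul_def (v g) s).symm
    rw [this]
    exact S.smul_mem _ hs
  have hS3 : ∀ o, cX v .x2 ^ (idx3 o).1 * cX v .x3 ^ (idx3 o).2 ∈ S := by
    rintro (_ | k | ⟨y, k⟩)
    · exact Submodule.subset_span ⟨none, by simp [idx3, cmon]⟩
    · exact Submodule.subset_span ⟨some (.inl k), by simp [idx3, cmon, cX]⟩
    · fin_cases y
      · exact Submodule.subset_span ⟨some (.inr (.x2, k)), by simp [idx3, cmon, cX]⟩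
      · exact Submodule.subset_span ⟨some (.inr (.x3, k)), by simp [idx3, cmon, cX]⟩
  let S3 := Submodule.span R (Set.range fun o => cX v .x2 ^ (idx3 o).1 * cX v .x3 ^ (idx3 o).2)
  have hle : S3 ≤ S := Submodule.span_le.mpr (by rintro _ ⟨o, rfl⟩; exact hS3 o)
  have hf := cubic v i₀
  have hclosed : ∀ o, cX v .x2 * (cX v .x2 ^ (idx3 o).1 * cX v .x3 ^ (idx3 o).2) ∈ S3 ∧
      cX v .x3 * (cX v .x2 ^ (idx3 o).1 * cX v .x3 ^ (idx3 o).2) ∈ S3 := fun o =>
    three_closed R (v .a) (v .cb - v .c) (v .c) (dval v i₀) (cX v .x2) (cX v .x3)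
      (by rw [map_sub]; exact hf) o
  have hmul3 : ∀ s ∈ S3, cX v .x2 * s ∈ S3 ∧ cX v .x3 * s ∈ S3 := by
    intro s hs
    induction hs using Submodule.span_induction with
    | mem s hs => obtain ⟨o, rfl⟩ := hs; exact hclosed o
    | zero => simp
    | add s t _ _ hs ht => rw [mul_add, mul_add]; exact ⟨add_mem hs.1 ht.1, add_mem hs.2 ht.2⟩
    | smul r s _ hs => rw [mul_smul_comm, mul_smul_comm]; exact ⟨S3.smul_mem r hs.1, S3.smul_mem r hs.2⟩
  have hp3 : ∀ p q, cX v .x2 ^ p * cX v .x3 ^ q ∈ S3 := by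
    intro p q
    induction p with
    | zero =>
      induction q with
      | zero => exact Submodule.subset_span ⟨none, by simp [idx3]⟩
      | succ q ih => rw [pow_succ', mul_left_comm]; exact (hmul3 _ ih).2
    | succ p ih => rw [pow_succ', mul_assoc]; exact (hmul3 _ ih).1
  have hpure : ∀ i k, cX v (.xi i) ^ (k + 1) ∈ S := fun i k =>
    Submodule.subset_span ⟨some (.inr (.xi i, k)), by simp [cmon, cX]⟩
  have hL : ∀ i k p q, cX v .x2 ^ p * cX v .x3 ^ q * cX v (.xi i) ^ k ∈ S := by
    intro i k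
    induction k with
    | zero => intro p q; simpa using hle (hp3 p q)
    | succ k ih =>
      intro p
      induction p with
      | zero =>
        intro q
        induction q with
        | zero => simpa using hpure i k
        | succ q ihq =>
          have e : cX v .x2 ^ 0 * cX v .x3 ^ (q + 1) * cX v (.xi i) ^ (k + 1) =
              cX v .x2 ^ 1 * cX v .x3 ^ (q + 1) * cX v (.xi i) ^ k +
              cK v .a * (cX v .x2 ^ 0 * cX v .x3 ^ q * cX v (.xi i) ^ (k + 1)) +
              cK v (.ci i) * (cX v .x2 ^ 0 * cX v .x3 ^ q * cX v (.xi i) ^ (k + 1)) +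
              cK v (.cbi i) * (cX v .x2 ^ 0 * cX v .x3 ^ q * cX v (.xi i) ^ (k + 1)) +
              cK v .cb * (cX v .x2 ^ 0 * cX v .x3 ^ q * cX v (.xi i) ^ k) -
              cK v .c * (cX v .x2 ^ 0 * cX v .x3 ^ q * cX v (.xi i) ^ k) -
              cK v (.cbi i) * (cK v .a * (cX v .x2 ^ 0 * cX v .x3 ^ q * cX v (.xi i) ^ k) +
                cK v (.ci i) * (cX v .x2 ^ 0 * cX v .x3 ^ q * cX v (.xi i) ^ k) +
                cK v (.cbi i) * (cX v .x2 ^ 0 * cX v .x3 ^ q * cX v (.xi i) ^ k)) := by
            linear_combination cX v .x3 ^ q * cX v (.xi i) ^ k * crel3 v i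
          rw [e]
          refine sub_mem (sub_mem (add_mem (add_mem (add_mem (add_mem (ih 1 (q + 1)) ?_) ?_) ?_) ?_) ?_) ?_
          · exact hsm _ _ ihq
          · exact hsm _ _ ihq
          · exact hsm _ _ ihq
          · exact hsm _ _ (ih 0 q)
          · exact hsm _ _ (ih 0 q)
          · exact hsm _ _ (add_mem (add_mem (hsm _ _ (ih 0 q)) (hsm _ _ (ih 0 q))) (hsm _ _ (ih 0 q)))
      | succ p ihp =>
        intro q
        have e : cX v .x2 ^ (p + 1) * cX v .x3 ^ q * cX v (.xi i) ^ (k + 1) =
            cX v .x2 ^ (p + 1) * cX v .x3 ^ (q + 1) * cX v (.xi i) ^ k +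
            cK v (.ci i) * (cX v .x2 ^ p * cX v .x3 ^ q * cX v (.xi i) ^ (k + 1)) +
            cK v (.cbi i) * (cX v .x2 ^ (p + 1) * cX v .x3 ^ q * cX v (.xi i) ^ k) -
            cK v .c * (cX v .x2 ^ p * cX v .x3 ^ q * cX v (.xi i) ^ k) := by
          linear_combination cX v .x2 ^ p * cX v .x3 ^ q * cX v (.xi i) ^ k * crel2 v i
        rw [e]
        exact sub_mem (add_mem (add_mem (ih _ _) (hsm _ _ (ihp q))) (hsm _ _ (ih _ _))) (hsm _ _ (ih _ _))
  have hT : ∀ i j k, cX v (.xi i) * cX v (.xi j) ^ (k + 1) ∈ S := by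
    intro i j
    rcases eq_or_ne i j with rfl | h
    · intro k; rw [← pow_succ']; exact hpure i (k + 1)
    intro k
    induction k with
    | zero =>
      rw [pow_one, crel_ij v i j h]
      refine sub_mem (add_mem (add_mem ?_ (hsm _ _ ?_)) (hsm _ _ ?_)) ?_
      · simpa using hL i 0 1 1
      · simpa using hpure j 0
      · simpa using hpure i 0
      · have := hsm .c _ (hL i 0 0 0); simpa using this
    | succ k ih =>
      have e : cX v (.xi i) * cX v (.xi j) ^ (k + 1 + 1) =
          cX v .x2 ^ 1 * cX v .x3 ^ 1 * cX v (.xi j) ^ (k + 1) + cK v (.cij i j h) * cX v (.xi j) ^ (k + 1 + 1) +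
          cK v (.cij j i h.symm) * (cX v (.xi i) * cX v (.xi j) ^ (k + 1)) - cK v .c * cX v (.xi j) ^ (k + 1) := by
        linear_combination cX v (.xi j) ^ (k + 1) * crel_ij v i j h
      rw [e]
      exact sub_mem (add_mem (add_mem (hL _ _ _ _) (hsm _ _ (hpure j (k + 1)))) (hsm _ _ ih)) (hsm _ _ (hpure j k))
  refine eq_top_of_mul_gen_mem R S (Submodule.subset_span ⟨none, rfl⟩) ?_
  intro y s hs
  show cX v y * s ∈ S
  induction hs using Submodule.span_induction with
  | mem s hs =>
    obtain ⟨o, rfl⟩ := hs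
    rcases o with _ | k | ⟨z, k⟩
    · show cX v y * 1 ∈ S
      rw [mul_one]
      exact Submodule.subset_span ⟨some (.inr (y, 0)), by simp [cmon, cX]⟩
    · have e : cmon R m v (some (.inl k)) = cX v .x2 ^ (k + 1) * cX v .x3 ^ 1 := by simp [cmon, cX]
      rw [e]
      cases y with
      | x2 => rw [← mul_assoc, ← pow_succ']; exact hle (hp3 _ _)
      | x3 => rw [mul_left_comm, ← pow_succ']; exact hle (hp3 _ _)
      | xi i => rw [mul_comm]; simpa using hL i 1 (k + 1) 1
    · have e : cmon R m v (some (.inr (z, k))) = cX v z ^ (k + 1) := by simp [cmon, cX]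
      rw [e]
      cases y with
      | x2 =>
        cases z with
        | x2 => simpa [← pow_succ'] using hle (hp3 (k + 2) 0)
        | x3 => simpa using hle (hp3 1 (k + 1))
        | xi j => simpa using hL j (k + 1) 1 0
      | x3 =>
        cases z with
        | x2 => simpa [mul_comm] using hle (hp3 (k + 1) 1)
        | x3 => simpa [← pow_succ'] using hle (hp3 0 (k + 2))
        | xi j => simpa using hL j (k + 1) 0 1
      | xi i =>
        cases z with
        | x2 => simpa [mul_comm] using hL i 1 (k + 1) 0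
        | x3 => simpa [mul_comm] using hL i 1 0 (k + 1)
        | xi j => exact hT i j k
  | zero => simp
  | add s t _ _ hs ht => rw [mul_add]; exact add_mem hs ht
  | smul r s _ hs => rw [mul_smul_comm]; exact S.smul_mem r hs

theorem coeff_eq_zero {ι M : Type*} [AddCommGroup M] [Module R M] {b : ι → M}
    (hli : LinearIndependent R b) (l : List (R × ι)) (h : (l.map fun p => p.1 • b p.2).sum = 0) (o : ι) :
    (l.map fun p => Finsupp.single p.2 p.1).sum o = 0 := by
  have : Finsupp.linearCombination R b ((l.map fun p => Finsupp.single p.2 p.1).sum) = 0 := by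
    rw [map_list_sum, List.map_map]
    simpa [Function.comp_def] using h
  rw [linearIndependent_iff.mp hli _ this]; rfl

theorem isSol_of_linearIndependent (hli : LinearIndependent R (cmon R m v)) : IsSol v := by
  classical
  let b := cmon R m v
  have hb1 : b none = 1 := rfl
  have hxy : b (some (.inl 0)) = cX v .x2 * cX v .x3 := by simp [b, cmon, cX]
  have hy : ∀ y, b (some (.inr (y, 0))) = cX v y := fun y => by simp [b, cmon, cX]
  have hsm : ∀ (r : R) (s : CurveAlg R m v), r • s = algebraMap R _ r * s := fun r s => Algebra.smul_def r s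
  have first : ∀ i j (h : i ≠ j),
      (v .a + v (.ci i) + v (.cbi i) + v (.ci j) + v (.cbi j) - v (.cij i j h) - v (.cij j i h.symm) = 0) ∧
      (v .cb + v (.cbi i) * v (.cbi j) - v (.cij i j h) * v (.cbi j) - v (.cij j i h.symm) * v (.cbi i) = 0) ∧
      ((v .a + v (.ci j) + v (.cbi j)) * v (.ci j) + v (.ci i) * v (.cij i j h) + v (.cbi i) * v (.ci j) - v .c
        - v (.cij i j h) * v (.ci j) = 0) := by
    intro i j h
    let C : R := -(v .a + v (.ci j) + v (.cbi j)) * v .c - v (.ci i) * v .c - v (.cbi i) * v .c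
      + v (.cij i j h) * v .c + v (.cij j i h.symm) * v .c
    have key : (List.map (fun p : R × Option (ℕ ⊕ (CVar m × ℕ)) => p.1 • b p.2)
        [(v .a + v (.ci i) + v (.cbi i) + v (.ci j) + v (.cbi j) - v (.cij i j h) - v (.cij j i h.symm), some (.inl 0)),
         (v .cb + v (.cbi i) * v (.cbi j) - v (.cij i j h) * v (.cbi j) - v (.cij j i h.symm) * v (.cbi i),
            some (.inr (.x2, 0))),
         ((v .a + v (.ci j) + v (.cbi j)) * v (.ci j) + v (.ci i) * v (.cij i j h) + v (.cbi i) * v (.ci j) - v .c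
            - v (.cij i j h) * v (.ci j), some (.inr (.xi j, 0))),
         (C, none)]).sum = 0 := by
      simp only [List.map_cons, List.map_nil, List.sum_cons, List.sum_nil, add_zero, hb1, hxy, hy, C]
      simp only [hsm, map_add, map_sub, map_mul, map_neg]
      simp only [show ∀ g, algebraMap R (CurveAlg R m v) (v g) = cK v g from fun g => rfl]
      linear_combination (cX v .x2 - cK v (.ci i)) * crel_ij v i j h - cX v (.xi j) * crel2 v i
        + cK v (.cij j i h.symm) * crel2 v i
        + (cK v (.cij i j h) - cK v (.cbi i) - (cK v .a + cK v (.ci j) + cK v (.cbi j))) * crel2 v j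
        - cX v .x2 * crel3 v j
    have hz := fun o => coeff_eq_zero hli _ key o
    refine ⟨?_, ?_, ?_⟩
    · simpa [Finsupp.single_apply] using hz (some (.inl 0))
    · simpa [Finsupp.single_apply] using hz (some (.inr (.x2, 0)))
    · simpa [Finsupp.single_apply] using hz (some (.inr (.xi j, 0)))
  have lin : ∀ i j (h : i ≠ j), v (.cij i j h) + v (.cij j i h.symm) =
      v .a + v (.ci i) + v (.cbi i) + v (.ci j) + v (.cbi j) := fun i j h => by
    linear_combination -(first i j h).1
  refine ⟨lin, fun i j h => ?_, fun i j h => by linear_combination -(first i j h).2.1, ?_⟩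
  · linear_combination (first i j h).2.2 + v (.ci j) * lin i j h
  · intro i j l hij hjl hil
    let W : R := v .c - (v .a + v (.ci l) + v (.cbi l)) * v (.ci l) - v (.cij i j hij) * v (.cij j l hjl) -
      v (.cij j i hij.symm) * v (.cij i l hil) + v (.cij j l hjl) * v (.cij i l hil)
    let U : R := (v .a + v (.ci i) + v (.cbi i)) * v (.ci i) - v .c - v (.cij j i hij.symm) * v (.cij l i hil.symm)
      + v (.cij j l hjl) * v (.cij l i hil.symm) + v (.cij l j hjl.symm) * v (.cij j i hij.symm)
    let V : R := v (.cij l j hjl.symm) * v (.cij i j hij) - v (.cij i j hij) * v (.cij l j hjl.symm)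
    let S : R := v (.cbi i) + v (.ci i) - v (.cbi l) - v (.ci l) - v (.cij i j hij) - v (.cij j i hij.symm)
      + v (.cij j l hjl) + v (.cij l j hjl.symm)
    let K : R := v (.ci i) * (v .cb - v .c - (v .a + v (.ci i) + v (.cbi i)) * v (.cbi i))
      - v (.ci l) * (v .cb - v .c - (v .a + v (.ci l) + v (.cbi l)) * v (.cbi l))
      + (v (.cij i j hij) + v (.cij j i hij.symm) - v (.cij j l hjl) - v (.cij l j hjl.symm)) * v .c
    have key : (List.map (fun p : R × Option (ℕ ⊕ (CVar m × ℕ)) => p.1 • b p.2)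
        [(W, some (.inr (.xi l, 0))), (U, some (.inr (.xi i, 0))), (V, some (.inr (.xi j, 0))),
         (S, some (.inl 0)), (K, none)]).sum = 0 := by
      simp only [List.map_cons, List.map_nil, List.sum_cons, List.sum_nil, add_zero, hb1, hxy, hy, W, U, V, S, K]
      simp only [hsm, map_add, map_sub, map_mul]
      simp only [show ∀ g, algebraMap R (CurveAlg R m v) (v g) = cK v g from fun g => rfl]
      linear_combination cX v (.xi l) * crel_ij v i j hij - cX v (.xi i) * crel_ij v j l hjl
        + cX v .x3 * crel2 v l + cK v (.ci l) * crel3 v l - cX v .x3 * crel2 v i - cK v (.ci i) * crel3 v i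
        + cK v (.cij i j hij) * crel_ij v j l hjl + cK v (.cij j i hij.symm) * crel_ij v i l hil
        - cK v (.cij j l hjl) * crel_ij v i l hil - cK v (.cij l j hjl.symm) * crel_ij v i j hij
    have hz := coeff_eq_zero hli _ key (some (.inr (.xi l, 0)))
    have : W = 0 := by simpa [Finsupp.single_apply, hil, hjl] using hz
    simp only [W] at this
    linear_combination -this

end Groth.Agent.Curves2
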