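import Groth.Agent.Curves2.NSNSRel
import Mathlib.Algebra.Polynomial.Bivariate
import Mathlib.Tactic

universe u

namespace Groth.Agent.Curves2

open W4c5m1nsnscurves

variable (R : Type u) [CommRing R] (a b c d : R)

/-- class of `x_2` -/
noncomputable def gx : CurveAlg3 R a b c d := Ideal.Quotient.mk _ (MvPolynomial.X 0)
/-- class of `x_3` -/
noncomputable def gy : CurveAlg3 R a b c d := Ideal.Quotient.mk _ (MvPolynomial.X 1)

theorem three_rel : gx R a b c d * gy R a b c d ^ 2 - gx R a b c d ^ 2 * gy R a b c d =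
    algebraMap R _ a * gx R a b c d * gy R a b c d + algebraMap R _ b * gx R a b c d +
      algebraMap R _ c * gy R a b c d + algebraMap R _ d := by
  rw [← sub_eq_zero]
  exact Ideal.Quotient.eq_zero_iff_mem.mpr (Ideal.subset_span rfl)

/-- exponent of a normal monomial -/
def idx3 : Option (ℕ ⊕ (Fin 2 × ℕ)) → ℕ × ℕ
  | none => (0, 0)
  | some (.inl k) => (k + 1, 1)
  | some (.inr (y, k)) => if y = 0 then (k + 1, 0) else (0, k + 1)

theorem idx3_injective : Function.Injective idx3 := by
  rintro (_ | k | ⟨y, k⟩) (_ | k' | ⟨y', k'⟩) h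
  all_goals first
    | rfl
    | (fin_cases y <;> fin_cases y' <;> simp_all [idx3])
    | (fin_cases y <;> simp_all [idx3])
    | (fin_cases y' <;> simp_all [idx3])
    | simp_all [idx3]

theorem idx3_normal (o) : (idx3 o).1 = 0 ∨ (idx3 o).2 ≤ 1 := by
  rcases o with _ | k | ⟨y, k⟩
  · simp [idx3]
  · simp [idx3]
  · fin_cases y <;> simp [idx3]

/-- normal monomial -/
noncomputable def mon3 (o : Option (ℕ ⊕ (Fin 2 × ℕ))) : MvPolynomial (Fin 2) R :=
  MvPolynomial.X 0 ^ (idx3 o).1 * MvPolynomial.X 1 ^ (idx3 o).2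

theorem cmon3_eq (o) : cmon3 R a b c d o = Ideal.Quotient.mk _ (mon3 R o) := by
  rcases o with _ | k | ⟨y, k⟩
  · simp [cmon3, mon3, idx3]
  · simp [cmon3, mon3, idx3]
  · fin_cases y <;> simp [cmon3, mon3, idx3]

open Polynomial in
theorem linearIndependent_cmon3 : LinearIndependent R (cmon3 R a b c d) := by
  classical
  let Φ : MvPolynomial (Fin 2) R →ₐ[R] R[X][X] := MvPolynomial.aeval ![Polynomial.C Polynomial.X, Polynomial.X]
  rw [linearIndependent_iff]
  intro l hl
  have hcoeff : ∀ i j, ((Φ (Finsupp.linearCombination R (mon3 R) l)).coeff j).coeff i =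
      ∑ o ∈ l.support, if idx3 o = (i, j) then l o else 0 := by
    intro i j
    simp only [Finsupp.linearCombination_apply, Finsupp.sum, map_sum, map_smul, finsetSum_coeff, coeff_smul]
    refine Finset.sum_congr rfl fun o _ => ?_
    simp only [Φ, mon3, map_mul, map_pow, MvPolynomial.aeval_X]
    simp only [Matrix.cons_val_zero, Matrix.cons_val_one, ← map_pow, coeff_C_mul, coeff_X_pow]
    obtain ⟨p, q⟩ := idx3 o
    simp only [mul_ite, mul_one, mul_zero, Prod.mk.injEq]
    by_cases hq : j = q
    · subst hq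
      rw [if_pos rfl, coeff_X_pow]
      by_cases hp : i = p
      · simp [hp]
      · simp [hp, Ne.symm hp]
    · simp [hq, Ne.symm hq]
  have hnormal : ∀ i j, ((Φ (Finsupp.linearCombination R (mon3 R) l)).coeff (j + 2)).coeff (i + 1) = 0 := by
    intro i j
    rw [hcoeff]
    refine Finset.sum_eq_zero fun o _ => if_neg fun h => ?_
    have := idx3_normal o
    rw [h] at this
    simp at this
  have hmem : Finsupp.linearCombination R (mon3 R) l ∈ Ideal.span
      ({MvPolynomial.X 0 * MvPolynomial.X 1 ^ 2 - MvPolynomial.X 0 ^ 2 * MvPolynomial.X 1 -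
        (MvPolynomial.C a * MvPolynomial.X 0 * MvPolynomial.X 1 + MvPolynomial.C b * MvPolynomial.X 0 +
          MvPolynomial.C c * MvPolynomial.X 1 + MvPolynomial.C d)} : Set (MvPolynomial (Fin 2) R)) := by
    rw [← Ideal.Quotient.eq_zero_iff_mem, ← hl]
    simp only [Finsupp.linearCombination_apply, Finsupp.sum, map_sum, cmon3_eq]
    rfl
  obtain ⟨g, hg⟩ := Ideal.mem_span_singleton'.mp hmem
  have hG : Φ g = 0 := by
    by_contra hne
    apply leadingCoeff_ne_zero.mpr hne
    ext i
    rw [coeff_zero]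
    have h := hnormal i (Φ g).natDegree
    rw [← hg] at h
    have e : Φ g * Φ (MvPolynomial.X 0 * MvPolynomial.X 1 ^ 2 - MvPolynomial.X 0 ^ 2 * MvPolynomial.X 1 -
        (MvPolynomial.C a * MvPolynomial.X 0 * MvPolynomial.X 1 + MvPolynomial.C b * MvPolynomial.X 0 +
          MvPolynomial.C c * MvPolynomial.X 1 + MvPolynomial.C d)) =
        Φ g * (C X * X ^ 2 + C (-(X ^ 2 + C a * X + C c)) * X + C (-(C b * X + C d))) := by
      congr 1
      simp [Φ, Polynomial.algebraMap_eq]
      ring
    rw [map_mul, e, mul_add, mul_add] at h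
    simp only [coeff_add] at h
    rw [← mul_assoc, ← mul_assoc, coeff_mul_X_pow,
      show (Φ g).natDegree + 2 = ((Φ g).natDegree + 1) + 1 from rfl] at h
    simp only [coeff_mul_X, coeff_mul_C,
      coeff_eq_zero_of_natDegree_lt (show (Φ g).natDegree < (Φ g).natDegree + 1 by omega),
      coeff_eq_zero_of_natDegree_lt (show (Φ g).natDegree < (Φ g).natDegree + 1 + 1 by omega),
      zero_mul, coeff_zero, add_zero] at h
    exact h
  ext o
  have h := hcoeff (idx3 o).1 (idx3 o).2
  rw [← hg, map_mul, hG, zero_mul, coeff_zero, coeff_zero] at h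
  rw [Finsupp.zero_apply, h, Finset.sum_eq_single o]
  · simp
  · intro o' _ hne
    exact if_neg fun e => hne (idx3_injective e)
  · intro ho
    simpa using ho

/-- a submodule stable under the generators and containing one is everything -/
theorem eq_top_of_mul_gen_mem {σ : Type*} {I : Ideal (MvPolynomial σ R)}
    (S : Submodule R (MvPolynomial σ R ⧸ I)) (h1 : (1 : MvPolynomial σ R ⧸ I) ∈ S)
    (h : ∀ i, ∀ s ∈ S, Ideal.Quotient.mk I (MvPolynomial.X i) * s ∈ S) : S = ⊤ := by
  rw [eq_top_iff]
  rintro x -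
  obtain ⟨p, rfl⟩ := Ideal.Quotient.mk_surjective x
  induction p using MvPolynomial.induction_on with
  | C r =>
    have : Ideal.Quotient.mk I (MvPolynomial.C r) = r • (1 : MvPolynomial σ R ⧸ I) := by
      rw [← Algebra.algebraMap_eq_smul_one]; rfl
    rw [this]; exact S.smul_mem r h1
  | add p q hp hq => rw [map_add]; exact add_mem hp hq
  | mul_X p i hp => rw [map_mul, mul_comm]; exact h i _ hp

/-- reduction in any algebra with elements satisfying the cubic relation -/
theorem three_closed {A : Type*} [CommRing A] [Algebra R A] (x y : A)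
    (hf : x * y ^ 2 - x ^ 2 * y = algebraMap R A a * x * y + algebraMap R A b * x + algebraMap R A c * y + algebraMap R A d)
    (o : Option (ℕ ⊕ (Fin 2 × ℕ))) :
    let S := Submodule.span R (Set.range fun o => x ^ (idx3 o).1 * y ^ (idx3 o).2)
    x * (x ^ (idx3 o).1 * y ^ (idx3 o).2) ∈ S ∧ y * (x ^ (idx3 o).1 * y ^ (idx3 o).2) ∈ S := by
  intro S
  have hx : ∀ k, x ^ k ∈ S := by
    rintro (_ | k)
    · exact Submodule.subset_span ⟨none, by simp [idx3]⟩
    · exact Submodule.subset_span ⟨some (.inr (0, k)), by simp [idx3]⟩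
  have hy : ∀ k, y ^ k ∈ S := by
    rintro (_ | k)
    · exact Submodule.subset_span ⟨none, by simp [idx3]⟩
    · exact Submodule.subset_span ⟨some (.inr (1, k)), by simp [idx3]⟩
  have hxy : ∀ k, x ^ k * y ∈ S := by
    rintro (_ | k)
    · simpa using hy 1
    · exact Submodule.subset_span ⟨some (.inl k), by simp [idx3]⟩
  have hy2 : ∀ k, y * (x ^ k * y) ∈ S := by
    rintro (_ | k)
    · simpa [pow_two] using hy 2
    · have e : y * (x ^ (k + 1) * y) = x ^ (k + 2) * y + a • (x ^ (k + 1) * y) + b • x ^ (k + 1) +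
          c • (x ^ k * y) + d • x ^ k := by
        simp only [Algebra.smul_def]
        linear_combination (x ^ k) * hf
      rw [e]
      exact add_mem (add_mem (add_mem (add_mem (hxy _) (S.smul_mem _ (hxy _))) (S.smul_mem _ (hx _)))
        (S.smul_mem _ (hxy _))) (S.smul_mem _ (hx _))
  have hall : ∀ o', y * (x ^ (idx3 o').1 * y ^ (idx3 o').2) ∈ S := by
    intro o'
    rcases o' with _ | k | ⟨v, k⟩
    · simpa [idx3] using hy 1
    · simpa [idx3] using hy2 (k + 1)
    · fin_cases v
      · simpa [idx3, mul_comm] using hxy (k + 1)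
      · simpa [idx3, pow_succ, mul_comm] using hy (k + 2)
  have hmul : ∀ s ∈ S, y * s ∈ S := by
    intro s hs
    induction hs using Submodule.span_induction with
    | mem s hs => obtain ⟨o', rfl⟩ := hs; exact hall o'
    | zero => simp
    | add s t _ _ hs ht => rw [mul_add]; exact add_mem hs ht
    | smul r s _ hs => rw [mul_smul_comm]; exact S.smul_mem r hs
  have hxyk : ∀ k, x * y ^ k ∈ S := by
    intro k
    induction k with
    | zero => simpa using hx 1
    | succ k ih => rw [pow_succ', mul_left_comm]; exact hmul _ ih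
  refine ⟨?_, hall o⟩
  rcases o with _ | k | ⟨v, k⟩
  · simpa [idx3] using hx 1
  · simpa [idx3, pow_succ, mul_comm, mul_assoc, mul_left_comm] using hxy (k + 2)
  · fin_cases v
    · simpa [idx3, pow_succ, mul_comm, mul_assoc] using hx (k + 2)
    · simpa [idx3] using hxyk (k + 1)

theorem span_cmon3 : Submodule.span R (Set.range (cmon3 R a b c d)) = ⊤ := by
  have hr : cmon3 R a b c d = fun o => gx R a b c d ^ (idx3 o).1 * gy R a b c d ^ (idx3 o).2 := by
    funext o; rw [cmon3_eq, mon3, map_mul, map_pow, map_pow]; rfl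
  apply eq_top_of_mul_gen_mem
  · exact Submodule.subset_span ⟨none, rfl⟩
  · intro i s hs
    induction hs using Submodule.span_induction with
    | mem s hs =>
      obtain ⟨o, rfl⟩ := hs
      rw [hr]
      have h := three_closed R a b c d _ _ (three_rel R a b c d) o
      fin_cases i
      · exact h.1
      · exact h.2
    | zero => simp
    | add s t _ _ hs ht => rw [mul_add]; exact add_mem hs ht
    | smul r s _ hs => rw [mul_smul_comm]; exact Submodule.smul_mem _ r hs

/-- the normal-form basis -/
noncomputable def basis3 : Module.Basis (Option (ℕ ⊕ (Fin 2 × ℕ))) R (CurveAlg3 R a b c d) :=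
  Module.Basis.mk (linearIndependent_cmon3 R a b c d) (span_cmon3 R a b c d).ge

end Groth.Agent.Curves2
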