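import Groth.Agent.VB30.Tensor
import Groth.Agent.VB30.Setup
import Groth.Agent.VB30.Slope
import Groth.Agent.FlatMor67.SpreadBasis

/-! Filtrations by negative line bundles of submodules of free modules without sections. -/

set_option autoImplicit false
set_option linter.style.haveILetI false
set_option linter.unusedSectionVars false
set_option backward.isDefEq.respectTransparency.types false
set_option maxHeartbeats 1000000

noncomputable section

universe u

open CategoryTheory CategoryTheory.Limits AlgebraicGeometry TopologicalSpace Opposite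
open Groth.Agent.QC70 Groth.Agent.Props58.LocFree

namespace Groth.Agent.Curves2.NegFilt

open VB30

variable {k : Type u} [Field k] {X : Scheme.{u}} [X.Over (Spec (CommRingCat.of k))] [IsIntegral X]

/-- The germ of the constant section one. -/
def one (x : X) : (Coh.structureModule X).presheaf.stalk x :=
  germM (Coh.structureModule X) ⊤ x trivial (toUnit 1)

theorem eq_zero_of_smul_one_eq_zero {x : X} {r : X.presheaf.stalk x} (h : r • one x = 0) : r = 0 := by
  obtain ⟨W, hxW, a, rfl⟩ := TopCat.Presheaf.exists_germ_eq X.presheaf r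
  rw [one, ← germM_res (le_top : W ≤ ⊤) hxW, ← germM_smul] at h
  obtain ⟨W', hW, hxW', h0⟩ := germM_eq_zero h
  have h1 : X.presheaf.map (homOfLE hW).op (a * X.presheaf.map (homOfLE (le_top : W ≤ ⊤)).op 1) = 0 := h0
  rw [map_one, mul_one] at h1
  rw [← X.presheaf.germ_res_apply (homOfLE hW) x hxW' a, h1, map_zero]

variable {n : ℕ}

/-- The stalk coordinates on a free module. -/
def coord (x : X) : (FlatMod.freeMod X n).presheaf.stalk x ≃ₗ[X.presheaf.stalk x]
    (Fin n → X.presheaf.stalk x) :=
  ((FlatMor67.SpreadBasis.stalkBasis_unitVec X n).stalkEquiv x trivial).symm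

theorem comb_coord (x : X) (z : (FlatMod.freeMod X n).presheaf.stalk x) :
    ∑ i, coord x z i • germM (FlatMod.freeMod X n) ⊤ x trivial (unitVec X n i) = z := by
  have h := LinearEquiv.apply_symm_apply
    ((FlatMor67.SpreadBasis.stalkBasis_unitVec X n).stalkEquiv x trivial) z
  exact (Fintype.linearCombination_apply _ _ _).symm.trans h

theorem stalk_unitVec {M : X.Modules} (φ : ∀ _ : Fin n, Coh.structureModule X ⟶ M) (x : X) (i : Fin n) :
    stalkMapM (Sigma.desc φ : FlatMod.freeMod X n ⟶ M) x
      (germM (FlatMod.freeMod X n) ⊤ x trivial (unitVec X n i)) = stalkMapM (φ i) x (one x) := by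
  rw [one, stalkMapM_germ, stalkMapM_germ, unitVec]
  refine congrArg (germM M ⊤ x _) ?_
  rw [show φ i = Sigma.ι (fun _ : Fin n => Coh.structureModule X) i ≫ Sigma.desc φ from
    (Sigma.ι_desc φ i).symm]
  rfl

/-- The functional with constant coefficients `c`. -/
def lam (c : Fin n → k) : FlatMod.freeMod X n ⟶ Coh.structureModule X :=
  Sigma.desc fun i => scal (Coh.structureModule X) (c i)

theorem stalk_lam (c : Fin n → k) (x : X) (z : (FlatMod.freeMod X n).presheaf.stalk x) :
    stalkMapM (lam c : FlatMod.freeMod X n ⟶ _) x z =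
      (∑ i, coord x z i * Curv2.stalkMap k X x (c i)) • one x := by
  conv_lhs => rw [← comb_coord x z]
  rw [show stalkMapM (lam c : FlatMod.freeMod X n ⟶ _) x = stalkLinear (lam c) x from rfl, map_sum,
    Finset.sum_smul]
  refine Finset.sum_congr rfl fun i _ => ?_
  rw [map_smul, mul_smul]
  refine congrArg (coord x z i • ·) ?_
  exact (stalk_unitVec _ x i).trans (stalk_scal _ _ _ _)

/-- Dropping one coordinate. -/
def drop (j : Fin (n + 1)) : FlatMod.freeMod X (n + 1) ⟶ FlatMod.freeMod X n :=
  Sigma.desc (Fin.insertNth (α := fun _ => Coh.structureModule X ⟶ FlatMod.freeMod X n) j 0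
    fun i => Sigma.ι (fun _ : Fin n => Coh.structureModule X) i)

theorem stalk_drop (j : Fin (n + 1)) (x : X) (z : (FlatMod.freeMod X (n + 1)).presheaf.stalk x) :
    stalkMapM (drop j : FlatMod.freeMod X (n + 1) ⟶ _) x z =
      ∑ i, coord x z (j.succAbove i) • germM (FlatMod.freeMod X n) ⊤ x trivial (unitVec X n i) := by
  conv_lhs => rw [← comb_coord x z]
  rw [show stalkMapM (drop j : FlatMod.freeMod X (n + 1) ⟶ _) x = stalkLinear (drop j) x from rfl, map_sum,
    Fin.sum_univ_succAbove _ j]
  have hz : stalkLinear (drop j) x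
      (coord x z j • germM (FlatMod.freeMod X (n + 1)) ⊤ x trivial (unitVec X (n + 1) j)) = 0 := by
    rw [map_smul]
    refine (congrArg (coord x z j • ·) ((stalk_unitVec _ x j).trans ?_)).trans (smul_zero _)
    rw [Fin.insertNth_apply_same]
    exact stalkMapM_zero x _
  rw [hz, zero_add]
  refine Finset.sum_congr rfl fun i _ => ?_
  rw [map_smul]
  refine congrArg (coord x z (j.succAbove i) • ·) ((stalk_unitVec _ x _).trans ?_)
  rw [Fin.insertNth_apply_succAbove, one, stalkMapM_germ]
  rfl

/-- A constant relation lets us drop a coordinate. -/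
theorem mono_drop {N : X.Modules} (ι : N ⟶ FlatMod.freeMod X (n + 1)) [Mono ι] (c : Fin (n + 1) → k)
    (j : Fin (n + 1)) (hj : c j ≠ 0) (h : ι ≫ lam c = 0) : Mono (ι ≫ drop j) := by
  refine mono_of_injective_stalkMapM _ fun x => (injective_iff_map_eq_zero (stalkLinear (ι ≫ drop j) x)).2
    fun e he => injective_stalkMapM_of_mono ι x ((Eq.trans ?_ (map_zero (stalkLinear ι x)).symm))
  set z := stalkMapM ι x e with hz
  have h1 : ∀ i, coord x z (j.succAbove i) = 0 := by
    have h2 : stalkMapM (drop j : FlatMod.freeMod X (n + 1) ⟶ _) x z = 0 :=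
      (stalkMapM_comp ι (drop j) x e).symm.trans he
    rw [stalk_drop] at h2
    have h3 := ((FlatMor67.SpreadBasis.stalkBasis_unitVec X n) x trivial).1
      (a₁ := fun i => coord x z (j.succAbove i)) (a₂ := 0)
      (h2.trans (by simp [germComb]))
    exact fun i => congrFun h3 i
  have h2 : coord x z j * Curv2.stalkMap k X x (c j) = 0 := by
    refine eq_zero_of_smul_one_eq_zero ?_
    have h3 : stalkMapM (lam c : FlatMod.freeMod X (n + 1) ⟶ _) x z = 0 := by
      rw [hz, ← stalkMapM_comp, h, stalkMapM_zero]
    rw [stalk_lam, Fin.sum_univ_succAbove _ j] at h3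
    simpa [h1] using h3
  have h3 : coord x z j = 0 :=
    ((((isUnit_iff_ne_zero.2 hj).map (Curv2.stalkMap k X x))).mul_left_eq_zero).1 h2
  rw [← comb_coord x z]
  refine Finset.sum_eq_zero fun i _ => ?_
  rcases eq_or_ne i j with rfl | hne
  · rw [h3, zero_smul]
  · obtain ⟨i', rfl⟩ := Fin.exists_succAbove_eq hne
    rw [h1, zero_smul]

theorem mem_smul_top {R : Type u} [CommRing R] {I : Ideal R} {v : Fin n → R} (hv : ∀ i, v i ∈ I) :
    v ∈ I • (⊤ : Submodule R (Fin n → R)) := by
  rw [pi_eq_sum_univ' v]
  exact Submodule.sum_mem _ fun i _ => Submodule.smul_mem_smul (hv i) Submodule.mem_top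

/-- An injective map with full residual image at every closed point is onto. -/
theorem isIso_of_span_eq_top (h : VB30.Cur k X) {N : X.Modules} (ι : N ⟶ FlatMod.freeMod X n) [Mono ι]
    (hx : ∀ x : X, IsClosed ({x} : Set X) → LinearMap.range (((coord (n := n) x).toLinearMap ∘ₗ stalkLinear ι x :
        N.presheaf.stalk x →ₗ[X.presheaf.stalk x] (Fin n → X.presheaf.stalk x))) ⊔
      IsLocalRing.maximalIdeal (X.presheaf.stalk x) • (⊤ : Submodule (X.presheaf.stalk x)
        (Fin n → X.presheaf.stalk x)) = ⊤) : IsIso ι := by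
  have hcl : ∀ x : X, IsClosed ({x} : Set X) → Function.Surjective (stalkMapM ι x) := by
    intro x hxc z
    have h2 : LinearMap.range ((coord (n := n) x).toLinearMap ∘ₗ stalkLinear ι x) = ⊤ :=
      top_le_iff.1 (Submodule.le_of_le_smul_of_le_jacobson_bot Module.Finite.fg_top
        (IsLocalRing.jacobson_eq_maximalIdeal ⊥ bot_ne_top).ge (hx x hxc).ge)
    obtain ⟨e, he⟩ := LinearMap.range_eq_top.1 h2 (coord (n := n) x z)
    exact ⟨e, (coord (n := n) x).injective he⟩
  have : Epi ι := epi_of_surjective_stalkMapM ι fun x => by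
    by_cases hxη : x = genericPoint X
    · subst hxη
      have := h.proper
      have := h.isNoetherian
      obtain ⟨P, -, hP⟩ := IsClosed.exists_closed_singleton
        (isClosed_univ (X := X)) Set.univ_nonempty
      intro z
      suffices z ∈ LinearMap.range (gmap ι) from this
      rw [← comb_coord (genericPoint X) z]
      refine Submodule.sum_mem _ fun i _ => Submodule.smul_mem (p := LinearMap.range (gmap ι)) _ ?_
      obtain ⟨e, he⟩ := hcl P hP (germM (FlatMod.freeMod X n) ⊤ P trivial (unitVec X n i))
      refine ⟨toGen N P e, ?_⟩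
      show stalkMapM ι (genericPoint X) _ = _
      rw [← toGen_stalkMapM, he, toGen_germ]
    · exact hcl x (Crv77.isClosed_singleton h.dim.le hxη)
  exact isIso_of_mono_of_epi ι

/-- A functional which is nonzero and not onto. -/
theorem exists_functional [IsAlgClosed k] (h : VB30.Cur k X) {N : X.Modules} (hr : 0 < rk N)
    (h0 : ∀ s : Γ(N, ⊤), s = 0) : ∀ (m : ℕ) (ι : N ⟶ FlatMod.freeMod X m), Mono ι →
    ∃ φ : N ⟶ Coh.structureModule X, φ ≠ 0 ∧ ¬ Epi φ
  | 0, ι, hι => by
    have hz : IsZero N := IsZero.of_mono ι ((IsZero.iff_id_eq_zero _).2 (Sigma.hom_ext _ _ fun i => i.elim0))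
    rw [rk_eq_zero_of_isZero hz] at hr
    omega
  | n + 1, ι, hι => by
    by_cases hc : ∃ c : Fin (n + 1) → k, c ≠ 0 ∧ ι ≫ lam c = 0
    · obtain ⟨c, hc, he⟩ := hc
      obtain ⟨j, hj⟩ := Function.ne_iff.1 hc
      exact exists_functional h hr h0 n _ (mono_drop ι c j hj he)
    push Not at hc
    by_contra hcon
    push Not at hcon
    have hiso : IsIso ι := isIso_of_span_eq_top h ι fun x hx => by
      by_contra hne
      have := h.proper
      let e : k ≃+* X.residueField x :=
        RingEquiv.ofBijective (Curv2.resMap k X x) (Crv77.resMap_bijective k hx)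
      let g : X.presheaf.stalk x →+* k := (e.symm : X.residueField x →+* k).comp (X.residue x).hom
      have hg : ∀ a : k, g (Curv2.stalkMap k X x a) = a := fun a => e.symm_apply_apply a
      let W : Submodule k (Fin (n + 1) → k) := Submodule.span k
        (Set.range fun z : N.presheaf.stalk x => fun i => g (coord x (stalkMapM ι x z) i))
      have hW : W ≠ ⊤ := by
        intro hW
        refine hne (top_le_iff.1 fun v _ => ?_)
        have key : ∀ w ∈ W, (fun i => Curv2.stalkMap k X x (w i)) ∈
            LinearMap.range ((coord (n := n + 1) x).toLinearMap ∘ₗ stalkLinear ι x) ⊔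
              IsLocalRing.maximalIdeal (X.presheaf.stalk x) • ⊤ := by
          intro w hw
          induction hw using Submodule.span_induction with
          | mem w hw =>
            obtain ⟨z, rfl⟩ := hw
            rw [← sub_add_cancel (fun i => Curv2.stalkMap k X x (g (coord x (stalkMapM ι x z) i)))
              (coord x (stalkMapM ι x z))]
            refine Submodule.add_mem _ (Submodule.mem_sup_right ?_) (Submodule.mem_sup_left ⟨z, rfl⟩)
            refine mem_smul_top fun i => ?_
            rw [IsLocalRing.mem_maximalIdeal, mem_nonunits_iff]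
            intro hu
            refine (hu.map g).ne_zero ?_
            rw [Pi.sub_apply, map_sub, hg, sub_self]
          | zero =>
            rw [show (fun i => Curv2.stalkMap k X x ((0 : Fin (n + 1) → k) i)) = 0 from
              funext fun i => map_zero _]
            exact zero_mem _
          | add a b _ _ ha hb =>
            rw [show (fun i => Curv2.stalkMap k X x ((a + b) i)) =
              (fun i => Curv2.stalkMap k X x (a i)) + fun i => Curv2.stalkMap k X x (b i) from
              funext fun i => map_add _ _ _]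
            exact add_mem ha hb
          | smul a b _ hb =>
            rw [show (fun i => Curv2.stalkMap k X x ((a • b) i)) =
              Curv2.stalkMap k X x a • fun i => Curv2.stalkMap k X x (b i) from
              funext fun i => map_mul _ _ _]
            exact Submodule.smul_mem _ _ hb
        rw [← sub_add_cancel v (fun i => Curv2.stalkMap k X x (g (v i)))]
        refine Submodule.add_mem _ (Submodule.mem_sup_right ?_) (key (fun i => g (v i)) (hW ▸ trivial))
        refine mem_smul_top fun i => ?_
        rw [IsLocalRing.mem_maximalIdeal, mem_nonunits_iff]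
        intro hu
        refine (hu.map g).ne_zero ?_
        rw [Pi.sub_apply, map_sub, hg, sub_self]
      obtain ⟨f, hf, hfW⟩ := Submodule.exists_le_ker_of_lt_top W (lt_top_iff_ne_top.2 hW)
      let c : Fin (n + 1) → k := fun i => f (Pi.single i 1)
      have hfc : ∀ w, f w = ∑ i, w i * c i := fun w => by
        conv_lhs => rw [pi_eq_sum_univ' w]
        simp [map_sum, c]
      have hc0 : c ≠ 0 := fun h1 => hf (LinearMap.ext fun w => by rw [hfc, h1]; simp)
      have := hcon (ι ≫ lam c) (hc c hc0)
      obtain ⟨z, hz⟩ := surjective_stalkMapM_of_epi (ι ≫ lam c) x (one x)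
      rw [stalkMapM_comp, stalk_lam] at hz
      set r := ∑ i, coord x (stalkMapM ι x z) i * Curv2.stalkMap k X x (c i)
      have h1 : r - 1 = 0 := eq_zero_of_smul_one_eq_zero (x := x) (by rw [sub_smul, one_smul, hz, sub_self])
      have h2 : g r = 0 := by
        rw [map_sum]
        simp only [map_mul, hg]
        rw [← hfc]
        exact hfW (Submodule.subset_span ⟨z, rfl⟩)
      rw [sub_eq_zero.1 h1, map_one] at h2
      exact one_ne_zero h2
    have hs : unitVec X (n + 1) 0 = ι.app ⊤ ((inv ι).app ⊤ (unitVec X (n + 1) 0)) := by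
      show _ = (inv ι ≫ ι).app ⊤ _
      rw [IsIso.inv_hom_id]; rfl
    rw [h0 ((inv ι).app ⊤ (unitVec X (n + 1) 0)), map_zero] at hs
    have h1 := ((FlatMor67.SpreadBasis.stalkBasis_unitVec X (n + 1)) (genericPoint X) trivial).1
      (a₁ := Pi.single 0 1) (a₂ := 0) (by simp [germComb, hs, germM_zero, Pi.single_apply])
    simpa using congrFun h1 0

theorem app_injective {A B : X.Modules} (φ : A ⟶ B) [Mono φ] (U : X.Opens) :
    Function.Injective (φ.app U) := fun s t e => by
  refine section_ext A s t fun p hp => ?_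
  obtain ⟨W, hW, hpW, h⟩ := germM_eq_zero (M := A) (s := s - t) (hx := hp) (by
    refine injective_stalkMapM_of_mono φ p ?_
    rw [stalkMapM_germ, map_sub, e, sub_self, germM_zero]
    exact (map_zero (stalkLinear φ p)).symm)
  exact ⟨W, hW, hpW, sub_eq_zero.1 (by rw [← map_sub]; exact h)⟩

/-- The filtration. -/
theorem exists_filt [IsAlgClosed k] (h : VB30.Cur k X) : ∀ (r : ℕ) (N : X.Modules),
    FlatMod.IsFinLocFree N → rk N = r → ∀ (m : ℕ) (ι : N ⟶ FlatMod.freeMod X m), Mono ι →
    (∀ s : Γ(N, ⊤), s = 0) →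
    ∃ (M : Fin (r + 1) → X.Modules) (f : (j : Fin r) → (M j.succ ⟶ M j.castSucc)),
      Nonempty (M 0 ≅ N) ∧ IsZero (M (Fin.last r)) ∧
        ∀ j : Fin r, Mono (f j) ∧ PicF.IsInvertible (cokernel (f j)) ∧
          Curv2.deg k X (cokernel (f j)) 1 < 0
  | 0, N, hN, hr, m, ι, hι, h0 =>
    ⟨fun _ => N, fun j => j.elim0, ⟨Iso.refl N⟩, h.isZero_of_rk_eq_zero hN hr, fun j => j.elim0⟩
  | r + 1, N, hN, hr, m, ι, hι, h0 => by
    obtain ⟨φ, hφ0, hφe⟩ := exists_functional h (hr ▸ Nat.succ_pos r) h0 m ι hι
    have hO : FlatMod.IsFinLocFree (Coh.structureModule X) :=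
      (lf_of_isInvertible EGA73.isInvertible_structureModule).1
    have hOr : rk (Coh.structureModule X) = 1 :=
      (lf_of_isInvertible EGA73.isInvertible_structureModule).2
    have hOc := (VB30.isCoh_of_isFinLocFree hO).2
    -- the exact sequence
    obtain ⟨w, hS⟩ := VB30.Cur.shortExact_kerImage φ
    have hI' : FlatMod.IsFinLocFree (Abelian.image φ) :=
      h.isFinLocFree_of_mono (Abelian.image.ι φ)
        (h.isCoh_kernel _ (VB30.isCoh_of_isFinLocFree hO)
          (h.isCoh_cokernel φ (VB30.isCoh_of_isFinLocFree hN) (VB30.isCoh_of_isFinLocFree hO))) hO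
    have hK' : FlatMod.IsFinLocFree (kernel φ) :=
      h.isFinLocFree_of_mono (kernel.ι φ)
        (h.isCoh_kernel φ (VB30.isCoh_of_isFinLocFree hN) (VB30.isCoh_of_isFinLocFree hO)) hN
    have hrS : rk N = rk (kernel φ) + rk (Abelian.image φ) :=
      h.rk_add hS (VB30.isCoh_of_isFinLocFree hN)
    have hI'1 : rk (Abelian.image φ) = 1 := by
      have h1 := rk_le_of_mono (Abelian.image.ι φ)
      have h2 : rk (Abelian.image φ) ≠ 0 := fun e => hφ0 (by
        rw [← Abelian.image.fac φ, (h.isZero_of_rk_eq_zero hI' e).eq_of_tgt (Abelian.factorThruImage φ) 0,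
          zero_comp])
      omega
    have hdeg : dg k (Abelian.image φ) < 0 := by
      have h1 := h.dg_le_of_mono (Abelian.image.ι φ) (VB30.isCoh_of_isFinLocFree hI')
        (VB30.isCoh_of_isFinLocFree hO) (hI'1.trans hOr.symm)
      have hd : dg k (Coh.structureModule X) = 0 := by
        rw [← deg_eq_dg_of_isInvertible EGA73.isInvertible_structureModule, Curv2.deg]
        simp
      refine lt_of_le_of_ne (hd ▸ h1.1) fun e => hφe ?_
      have := h1.2 (e.trans hd.symm)
      rw [← Abelian.image.fac φ]
      infer_instance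
    obtain ⟨M, f, ⟨e⟩, hlast, hf⟩ := exists_filt h r (kernel φ) hK' (by omega) m (kernel.ι φ ≫ ι)
      (mono_comp _ _) fun s => app_injective (kernel.ι φ) ⊤ (by rw [h0 ((kernel.ι φ).app ⊤ s), map_zero])
    let F : (j : Fin (r + 1)) → (Fin.cons (α := fun _ => X.Modules) N M j.succ ⟶
        Fin.cons (α := fun _ => X.Modules) N M j.castSucc) :=
      Fin.cases (motive := fun j => Fin.cons (α := fun _ => X.Modules) N M j.succ ⟶
        Fin.cons (α := fun _ => X.Modules) N M j.castSucc) (e.hom ≫ kernel.ι φ) (fun j => f j)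
    refine ⟨Fin.cons (α := fun _ => X.Modules) N M, F, ⟨Iso.refl N⟩, hlast, fun j => ?_⟩
    induction j using Fin.cases with
    | zero =>
      show Mono (e.hom ≫ kernel.ι φ) ∧ PicF.IsInvertible (cokernel (e.hom ≫ kernel.ι φ)) ∧
        Curv2.deg k X (cokernel (e.hom ≫ kernel.ι φ)) 1 < 0
      have e' : cokernel (e.hom ≫ kernel.ι φ) ≅ Abelian.image φ :=
        cokernel.mapIso _ _ e (Iso.refl N) (by simp) ≪≫
          (cokernelIsCokernel _).coconePointUniqueUpToIso hS.gIsCokernel
      have hinv : PicF.IsInvertible (Abelian.image φ) :=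
        VB30.isInvertible_of_rank_one (hI'1 ▸ isFinLocFreeOfRank_rk hI')
      refine ⟨mono_comp _ _, EGA73.isInvertible_of_iso e'.symm hinv, ?_⟩
      rw [Curv2.deg, Crv77.euler_congr e', ← Curv2.deg, deg_eq_dg_of_isInvertible hinv]
      exact hdeg
    | succ j => exact hf j

end Groth.Agent.Curves2.NegFilt
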