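import Mathlib.AlgebraicGeometry.IdealSheaf.Basic
import Mathlib.AlgebraicGeometry.Morphisms.ClosedImmersion
import Mathlib.RingTheory.MvPolynomial.Basic
import Mathlib.RingTheory.Nilpotent.Lemmas

/-! Gluing functions modulo a nilpotent ideal sheaf, without cohomology. -/

set_option autoImplicit false

universe u

open CategoryTheory AlgebraicGeometry Opposite TopologicalSpace

noncomputable section

namespace Groth.Agent.Curves2

/-- Restriction of sections as a ring homomorphism. -/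
def resHom {X : Scheme.{u}} {U V : X.Opens} (h : V ≤ U) : Γ(X, U) →+* Γ(X, V) :=
  (X.presheaf.map (homOfLE h).op).hom

theorem resHom_resHom {X : Scheme.{u}} {U V W : X.Opens} (h : V ≤ U) (h' : W ≤ V) (a : Γ(X, U)) :
    resHom h' (resHom h a) = resHom (h'.trans h) a := by
  simp only [resHom]
  rw [← ConcreteCategory.comp_apply, ← Functor.map_comp, ← op_comp]
  rfl

theorem map_pow_le {X : Scheme.{u}} (J : X.IdealSheafData) {U V : X.affineOpens} (h : (V : X.Opens) ≤ U)
    (e : ℕ) {a : Γ(X, U)} (ha : a ∈ J.ideal U ^ e) : resHom h a ∈ J.ideal V ^ e := by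
  rw [← J.map_ideal (show V ≤ U from h), ← Ideal.map_pow]
  exact Ideal.mem_map_of_mem _ ha

/-- A power of the equation of a basic open clears denominators inside a power of the ideal. -/
theorem exists_clear {X : Scheme.{u}} (J : X.IdealSheafData) (U V : X.affineOpens) (g : Γ(X, U))
    (hV : (V : X.Opens) = X.basicOpen g) (h : (V : X.Opens) ≤ U) (e : ℕ) {n : Γ(X, V)}
    (hn : n ∈ J.ideal V ^ e) :
    ∃ (N : ℕ) (a : Γ(X, U)), a ∈ J.ideal U ^ e ∧ resHom h a = resHom h g ^ N * n := by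
  let : Algebra Γ(X, U) Γ(X, V) := (resHom h).toAlgebra
  have hl : IsLocalization.Away g Γ(X, V) := U.2.isLocalization_of_eq_basicOpen _ (homOfLE h) hV
  have hm : n ∈ Ideal.map (algebraMap Γ(X, U) Γ(X, V)) (J.ideal U ^ e) := by
    rw [Ideal.map_pow]
    have hJ : Ideal.map (algebraMap Γ(X, U) Γ(X, V)) (J.ideal U) = J.ideal V :=
      J.map_ideal (show V ≤ U from h)
    rw [hJ]
    exact hn
  obtain ⟨⟨⟨a, ha⟩, ⟨s, N, rfl⟩⟩, he⟩ :=
    (IsLocalization.mem_map_algebraMap_iff (Submonoid.powers g) _).1 hm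
  exact ⟨N, a, ha, (he.symm.trans (by rw [map_pow]; exact mul_comm _ _))⟩

/-- A power of the equation of a basic open moves an element into a power of the ideal. -/
theorem exists_pow_mul_mem {X : Scheme.{u}} (J : X.IdealSheafData) (U V : X.affineOpens) (g : Γ(X, U))
    (hV : (V : X.Opens) = X.basicOpen g) (h : (V : X.Opens) ≤ U) (e : ℕ) {x : Γ(X, U)}
    (hx : resHom h x ∈ J.ideal V ^ e) : ∃ N : ℕ, g ^ N * x ∈ J.ideal U ^ e := by
  obtain ⟨N, a, ha, hae⟩ := exists_clear J U V g hV h e hx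
  let : Algebra Γ(X, U) Γ(X, V) := (resHom h).toAlgebra
  have hl : IsLocalization.Away g Γ(X, V) := U.2.isLocalization_of_eq_basicOpen _ (homOfLE h) hV
  have he : algebraMap Γ(X, U) Γ(X, V) a = algebraMap Γ(X, U) Γ(X, V) (g ^ N * x) := by
    rw [map_mul, map_pow]; exact hae
  obtain ⟨⟨_, M, rfl⟩, hM⟩ := (IsLocalization.eq_iff_exists (Submonoid.powers g) _).1 he
  refine ⟨M + N, ?_⟩
  rw [pow_add, mul_assoc, ← hM]
  exact Ideal.mul_mem_left _ _ ha

/-- If `∑ y_l x_l` is a unit, so is `∑ P_l x_l ^ L` for suitable universal polynomials `P_l`. -/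
theorem exists_poly_unit_power (ι : Type*) [Fintype ι] (L : ℕ) :
    ∃ (K : ℕ) (P : ι → MvPolynomial (ι ⊕ ι) ℤ),
      ∑ l, P l * MvPolynomial.X (Sum.inl l) ^ L =
        (∑ l, MvPolynomial.X (Sum.inr l) * MvPolynomial.X (Sum.inl l)) ^ K := by
  let I : Ideal (MvPolynomial (ι ⊕ ι) ℤ) :=
    Ideal.span (Set.range fun l => MvPolynomial.X (Sum.inl l) ^ L)
  obtain ⟨K, hK⟩ : IsNilpotent (∑ l, Ideal.Quotient.mk I
      (MvPolynomial.X (Sum.inr l) * MvPolynomial.X (Sum.inl l))) :=
    isNilpotent_sum fun l _ => ⟨L, by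
      rw [← map_pow, Ideal.Quotient.eq_zero_iff_mem, mul_pow]
      exact I.mul_mem_left _ (Ideal.subset_span ⟨l, rfl⟩)⟩
  rw [← map_sum, ← map_pow, Ideal.Quotient.eq_zero_iff_mem, Ideal.mem_span_range_iff_exists_fun] at hK
  obtain ⟨P, hP⟩ := hK
  exact ⟨K, P, hP⟩

section Step

variable {X : Scheme.{u}} {ι : Type u} [Fintype ι] (J : X.IdealSheafData) (O : ι → X.affineOpens)
  (W : ι → ι → X.affineOpens) (hW : ∀ i l, (W i l : X.Opens) = (O i : X.Opens) ⊓ O l)
  (β c : ∀ i, ι → Γ(X, O i))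
  (hbas : ∀ i l, (W i l : X.Opens) = X.basicOpen (β i l))
  (hl : ∀ i j, (W i j : X.Opens) ≤ O i) (hr : ∀ i j, (W i j : X.Opens) ≤ O j)
  (hβ : ∀ i j l, resHom (hl i j) (β i l) - resHom (hr i j) (β j l) ∈ J.ideal (W i j))
  (hc : ∀ i j l, resHom (hl i j) (c i l) - resHom (hr i j) (c j l) ∈ J.ideal (W i j))
  (hone : ∀ i, ∑ l, c i l * β i l - 1 ∈ J.ideal (O i))

include hW hbas hβ hc hone in
/-- One step of the successive approximation. -/
theorem exists_step (e : ℕ) (s : ∀ i, Γ(X, O i))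
    (hs : ∀ i j, resHom (hl i j) (s i) - resHom (hr i j) (s j) ∈ J.ideal (W i j) ^ e) :
    ∃ m : ∀ i, Γ(X, O i), (∀ i, m i ∈ J.ideal (O i) ^ e) ∧
      ∀ i j, resHom (hl i j) (s i - m i) - resHom (hr i j) (s j - m j) ∈
        J.ideal (W i j) ^ (e + 1) := by
  classical
  choose N₀ a₀ ha₀ hae₀ using fun i l => exists_clear J (O i) (W i l) (β i l) (hbas i l) (hl i l) e (hs i l)
  let N := Finset.univ.sup fun p : ι × ι => N₀ p.1 p.2
  have hN : ∀ i l, N₀ i l ≤ N := fun i l =>
    Finset.le_sup (f := fun p : ι × ι => N₀ p.1 p.2) (Finset.mem_univ (i, l))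
  let a : ∀ i, ι → Γ(X, O i) := fun i l => β i l ^ (N - N₀ i l) * a₀ i l
  have ha : ∀ i l, a i l ∈ J.ideal (O i) ^ e := fun i l => Ideal.mul_mem_left _ _ (ha₀ i l)
  have hae : ∀ i l, resHom (hl i l) (a i l) =
      resHom (hl i l) (β i l) ^ N * (resHom (hl i l) (s i) - resHom (hr i l) (s l)) := fun i l => by
    rw [show a i l = β i l ^ (N - N₀ i l) * a₀ i l from rfl, map_mul, map_pow, hae₀, ← mul_assoc,
      ← pow_add, Nat.sub_add_cancel (hN i l)]
  let d : ∀ i j, ι → Γ(X, W i j) := fun i j l =>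
    resHom (hl i j) (a i l) - resHom (hr i j) (a j l) -
      resHom (hl i j) (β i l) ^ N * (resHom (hl i j) (s i) - resHom (hr i j) (s j))
  have hd : ∀ i j l, d i j l ∈ J.ideal (W i j) ^ e := fun i j l =>
    sub_mem (sub_mem (map_pow_le J (hl i j) e (ha i l)) (map_pow_le J (hr i j) e (ha j l)))
      (Ideal.mul_mem_left _ _ (hs i j))
  have hM : ∀ i j l, ∃ M : ℕ, resHom (hl i j) (β i l) ^ M * d i j l ∈ J.ideal (W i j) ^ (e + 1) := by
    intro i j l
    let V : X.affineOpens := ⟨X.basicOpen (resHom (hl i j) (β i l)), (W i j).2.basicOpen _⟩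
    have hV : (V : X.Opens) ≤ W i j := X.basicOpen_le _
    refine exists_pow_mul_mem J (W i j) V _ rfl hV (e + 1) ?_
    have hVeq : (V : X.Opens) = (W i j : X.Opens) ⊓ X.basicOpen (β i l) :=
      X.basicOpen_res (β i l) (homOfLE (hl i j)).op
    have hil : (V : X.Opens) ≤ W i l := by rw [hVeq, hbas i l]; exact inf_le_right
    have hjl : (V : X.Opens) ≤ W j l := by
      rw [hVeq, ← hbas i l, hW i j, hW i l, hW j l]
      exact le_inf (inf_le_left.trans inf_le_right) (inf_le_right.trans inf_le_right)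
    set si := resHom (hV.trans (hl i j)) (s i)
    set sj := resHom (hV.trans (hr i j)) (s j)
    set sl := resHom (hil.trans (hr i l)) (s l)
    set bi := resHom (hV.trans (hl i j)) (β i l)
    set bj := resHom (hV.trans (hr i j)) (β j l)
    have e1 : resHom (hV.trans (hl i j)) (a i l) = bi ^ N * (si - sl) := by
      rw [← resHom_resHom (hl i l) hil, hae i l, map_mul, map_pow, map_sub]
      simp only [resHom_resHom, bi, si, sl]
    have e2 : resHom (hV.trans (hr i j)) (a j l) = bj ^ N * (sj - sl) := by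
      rw [← resHom_resHom (hl j l) hjl, hae j l, map_mul, map_pow, map_sub]
      simp only [resHom_resHom, bj, sj, sl]
    have e3 : resHom hV (d i j l) = (bi ^ N - bj ^ N) * (sj - sl) := by
      simp only [d, map_sub, map_mul, map_pow, resHom_resHom]
      rw [e1, e2]
      ring
    rw [e3, pow_succ']
    refine Ideal.mul_mem_mul ?_ ?_
    · obtain ⟨q, hq⟩ := sub_dvd_pow_sub_pow bi bj N
      rw [hq]
      refine Ideal.mul_mem_right _ _ ?_
      have := map_pow_le J hV 1 ((pow_one (J.ideal (W i j))).symm ▸ hβ i j l)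
      rw [pow_one, map_sub, resHom_resHom, resHom_resHom] at this
      exact this
    · have := map_pow_le J hjl e (hs j l)
      rw [map_sub, resHom_resHom, resHom_resHom] at this
      exact this
  choose M₀ hM₀ using hM
  let M := Finset.univ.sup fun p : ι × ι × ι => M₀ p.1 p.2.1 p.2.2
  have hMd : ∀ i j l, resHom (hl i j) (β i l) ^ M * d i j l ∈ J.ideal (W i j) ^ (e + 1) := fun i j l => by
    have hle : M₀ i j l ≤ M :=
      Finset.le_sup (f := fun p : ι × ι × ι => M₀ p.1 p.2.1 p.2.2) (Finset.mem_univ (i, j, l))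
    have hp : resHom (hl i j) (β i l) ^ M =
        resHom (hl i j) (β i l) ^ (M - M₀ i j l) * resHom (hl i j) (β i l) ^ M₀ i j l := by
      rw [← pow_add, Nat.sub_add_cancel hle]
    rw [hp, mul_assoc]
    exact Ideal.mul_mem_left _ _ (hM₀ i j l)
  obtain ⟨K, P, hP⟩ := exists_poly_unit_power ι (M + N)
  let ev : ∀ i, MvPolynomial (ι ⊕ ι) ℤ →+* Γ(X, O i) := fun i =>
    MvPolynomial.eval₂Hom (Int.castRingHom _) (Sum.elim (β i) (c i))
  let C : ∀ i, ι → Γ(X, O i) := fun i l => ev i (P l) * β i l ^ M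
  have hCsum : ∀ i, ∑ l, C i l * β i l ^ N - 1 ∈ J.ideal (O i) := fun i => by
    have h2 := congrArg (ev i) hP
    simp only [map_sum, map_mul, map_pow, ev, MvPolynomial.eval₂Hom_X', Sum.elim_inl, Sum.elim_inr] at h2
    have h3 : ∑ l, C i l * β i l ^ N = (∑ l, c i l * β i l) ^ K := by
      rw [← h2]; exact Finset.sum_congr rfl fun l _ => by rw [mul_assoc, ← pow_add]
    rw [h3, ← Ideal.Quotient.eq, map_one, map_pow,
      (Ideal.Quotient.eq.2 (hone i) : _), map_one, one_pow]
  have hCdiff : ∀ i j l, resHom (hl i j) (C i l) - resHom (hr i j) (C j l) ∈ J.ideal (W i j) := by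
    intro i j l
    rw [← Ideal.Quotient.eq]
    have hev : ∀ p, Ideal.Quotient.mk (J.ideal (W i j)) (resHom (hl i j) (ev i p)) =
        Ideal.Quotient.mk (J.ideal (W i j)) (resHom (hr i j) (ev j p)) := by
      intro p
      have : ((Ideal.Quotient.mk (J.ideal (W i j))).comp ((resHom (hl i j)).comp (ev i))) =
          (Ideal.Quotient.mk (J.ideal (W i j))).comp ((resHom (hr i j)).comp (ev j)) := by
        refine MvPolynomial.ringHom_ext (fun r => ?_) (fun v => ?_)
        · simp
        · cases v with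
          | inl l => simpa [ev] using Ideal.Quotient.eq.2 (hβ i j l)
          | inr l => simpa [ev] using Ideal.Quotient.eq.2 (hc i j l)
      exact congrArg (fun φ : MvPolynomial (ι ⊕ ι) ℤ →+* _ => φ p) this
    simp only [C, map_mul, map_pow]
    rw [hev, Ideal.Quotient.eq.2 (hβ i j l)]
  refine ⟨fun i => ∑ l, C i l * a i l,
    fun i => Submodule.sum_mem _ fun l _ => Ideal.mul_mem_left _ _ (ha i l), fun i j => ?_⟩
  let t := resHom (hl i j) (s i) - resHom (hr i j) (s j)
  have hid : resHom (hl i j) (s i - ∑ l, C i l * a i l) - resHom (hr i j) (s j - ∑ l, C j l * a j l) =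
      -(t * resHom (hl i j) (∑ l, C i l * β i l ^ N - 1)) -
        (∑ l, resHom (hl i j) (C i l) * d i j l) -
        ∑ l, (resHom (hl i j) (C i l) - resHom (hr i j) (C j l)) * resHom (hr i j) (a j l) := by
    simp only [map_sub, map_sum, map_mul, map_pow, map_one, d, t, mul_sub, sub_mul, Finset.sum_sub_distrib]
    have h1 : ∀ A : Γ(X, W i j), ∑ l, resHom (hl i j) (C i l) * (resHom (hl i j) (β i l) ^ N * A) =
        (∑ l, resHom (hl i j) (C i l) * resHom (hl i j) (β i l) ^ N) * A := fun A => by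
      rw [Finset.sum_mul]; exact Finset.sum_congr rfl fun l _ => (mul_assoc _ _ _).symm
    rw [h1, h1]
    ring
  rw [hid]
  refine sub_mem (sub_mem (neg_mem ?_) (Submodule.sum_mem _ fun l _ => ?_))
    (Submodule.sum_mem _ fun l _ => ?_)
  · rw [pow_succ]
    refine Ideal.mul_mem_mul (hs i j) ?_
    have := map_pow_le J (hl i j) 1 ((pow_one (J.ideal (O i))).symm ▸ hCsum i)
    rw [pow_one] at this
    exact this
  · simp only [C, map_mul, map_pow]
    rw [mul_assoc]
    exact Ideal.mul_mem_left _ _ (hMd i j l)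
  · rw [pow_succ']
    exact Ideal.mul_mem_mul (hCdiff i j l) (map_pow_le J (hr i j) e (ha j l))

include hW hbas hβ hc hone in
/-- Local sections agreeing modulo a nilpotent ideal sheaf glue, modulo that ideal, to a global one. -/
theorem exists_global_mod (hcover : ⨆ i, (O i : X.Opens) = ⊤)
    (hnil : ∀ i j, IsNilpotent (J.ideal (W i j))) (s : ∀ i, Γ(X, O i))
    (hs : ∀ i j, resHom (hl i j) (s i) - resHom (hr i j) (s j) ∈ J.ideal (W i j)) :
    ∃ f : Γ(X, ⊤), ∀ i, resHom le_top f - s i ∈ J.ideal (O i) := by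
  classical
  choose m hm using hnil
  let n := Finset.univ.sup fun p : ι × ι => m p.1 p.2
  have key : ∀ e : ℕ, ∃ s' : ∀ i, Γ(X, O i), (∀ i, s' i - s i ∈ J.ideal (O i)) ∧
      ∀ i j, resHom (hl i j) (s' i) - resHom (hr i j) (s' j) ∈ J.ideal (W i j) ^ (e + 1) := by
    intro e
    induction e with
    | zero => exact ⟨s, fun i => by simp, by simpa using hs⟩
    | succ e ih =>
      obtain ⟨s', h1, h2⟩ := ih
      obtain ⟨m', hm1, hm2⟩ := exists_step J O W hW β c hbas hl hr hβ hc hone (e + 1) s' h2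
      refine ⟨fun i => s' i - m' i, fun i => ?_, hm2⟩
      rw [show s' i - m' i - s i = (s' i - s i) - m' i by ring]
      exact sub_mem (h1 i) (Ideal.pow_le_self (Nat.succ_ne_zero e) (hm1 i))
  obtain ⟨s', h1, h2⟩ := key n
  have hzero : ∀ i j, resHom (hl i j) (s' i) = resHom (hr i j) (s' j) := fun i j => by
    have hle : m i j ≤ n + 1 :=
      (Finset.le_sup (f := fun p : ι × ι => m p.1 p.2) (Finset.mem_univ (i, j))).trans (Nat.le_succ _)
    have h3 := Ideal.pow_le_pow_right hle (h2 i j)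
    rw [hm i j] at h3
    exact sub_eq_zero.1 h3
  have hcompat : TopCat.Presheaf.IsCompatible X.sheaf.1 (fun i => (O i : X.Opens)) s' := by
    intro i j
    have := congrArg (resHom (le_of_eq (hW i j).symm)) (hzero i j)
    simp only [resHom_resHom] at this
    exact this
  obtain ⟨f, hf, -⟩ := X.sheaf.existsUnique_gluing' (fun i => (O i : X.Opens)) ⊤
    (fun i => homOfLE le_top) hcover.ge s' hcompat
  refine ⟨f, fun i => ?_⟩
  rw [show resHom le_top f = s' i from hf i]
  exact h1 i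

end Step

end Groth.Agent.Curves2
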