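import Groth.Agent.Curves2.NodeReduced
import Groth.Agent.Curves2.SmoothNormal
import Groth.Agent.Curves2.CurveToolkit
import Groth.Agent.Crv77.DeltaEuler
import Groth.Agent.Crv77.Sections
import Groth.Agent.Node12.Point
import Groth.Agent.Delta12.Curve
import Groth.Agent.AlgGrp79.AffinizationFibre
import Groth.Agent.NormY57.Scheme
import Groth.Agent.TopDim50.Basic
import Groth.Agent.LimTop61.SteinFinite
import Groth.Agent.CdP50.Proj
import Groth.Agent.Ega11.LatticeNodes

/-! The genus formula for the normalisation of a nodal curve. -/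

set_option autoImplicit false
set_option backward.isDefEq.respectTransparency.types false
universe u

open CategoryTheory CategoryTheory.Limits AlgebraicGeometry TopologicalSpace IsLocalRing

namespace Groth.Agent.Curves2

attribute [local instance] Curv2.resAlgebra Curv2.stalkAlgebra

variable (k : Type u) [Field k] [IsAlgClosed k] {X : Scheme.{u}} [X.Over (Spec (CommRingCat.of k))]

theorem isOrdDoublePt_of_isNode [LocallyOfFiniteType (X ↘ Spec (CommRingCat.of k))] {x : X}
    (hx : Curv2.IsNode k X x) :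
    letI := Curv2.stalkAlgebra k X x
    Curv2.IsOrdDoublePt k (X.presheaf.stalk x) := by
  obtain ⟨hcl, hsep, hQ⟩ := (Node12.isNode_iff x).1 hx
  have hsq : IsPullback (𝟙 X) (X ↘ Spec (CommRingCat.of k)) (X ↘ Spec (CommRingCat.of k))
      (Spec.map (CommRingCat.ofHom (algebraMap k k))) := by
    rw [show Spec.map (CommRingCat.ofHom (algebraMap k k)) = 𝟙 _ from Spec.map_id _]
    exact IsPullback.of_id_fst
  haveI : Algebra.IsSeparable k (ResidueField (X.presheaf.stalk ((𝟙 X : X ⟶ X) x))) := hsep
  exact Node12.isOrdDoublePt_of hsq x hQ hcl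

theorem deltaInv_eq_one_of_isNode [LocallyOfFiniteType (X ↘ Spec (CommRingCat.of k))]
    [AlgebraicGeometry.IsReduced X]
    (hequi : ∀ Z ∈ irreducibleComponents (X : Type u), topologicalKrullDim Z = 1) {x : X}
    (hx : Curv2.IsNode k X x) : Curv2.deltaInv (X.presheaf.stalk x) = 1 := by
  obtain ⟨hN, hdim, hres⟩ := Delta12.curve_stalk_facts k X hequi x hx.1
  letI := Curv2.stalkAlgebra k X x
  obtain ⟨e, he⟩ := isOrdDoublePt_of_isNode k hx
  have hspan : Ideal.span {(MvPowerSeries.X 0 * MvPowerSeries.X 1 : MvPowerSeries (Fin 2) k)} =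
      Ideal.span (Delta12.mixed k 2) := by
    refine le_antisymm (Ideal.span_le.2 ?_) (Ideal.span_le.2 ?_)
    · rintro _ rfl
      exact Ideal.subset_span ⟨0, 1, by decide, rfl⟩
    · rintro _ ⟨i, j, hij, rfl⟩
      fin_cases i <;> fin_cases j
      · exact absurd rfl hij
      · exact Ideal.subset_span rfl
      · exact (mul_comm (MvPowerSeries.X (1 : Fin 2) : MvPowerSeries (Fin 2) k) (MvPowerSeries.X 0)) ▸
          Ideal.subset_span rfl
      · exact absurd rfl hij
  have h := (Delta12.invariants_of_iso (X.presheaf.stalk x) k hN hdim hres 2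
    (e.trans (Ideal.quotEquivOfEq hspan)) (fun c => by
      rw [RingEquiv.trans_apply, he c, Ideal.quotEquivOfEq_mk])).2
  exact (WithTop.add_right_inj ENat.one_ne_top).1 (h.trans (by norm_num : ((2 : ℕ) : ℕ∞) = 1 + 1))

omit [IsAlgClosed k] in
theorem deltaInv_eq_zero_of_normal (A : Type u) [CommRing A] [IsDomain A] [IsIntegrallyClosed A] :
    Curv2.deltaInv A = 0 := by
  rw [Curv2.deltaInv, Module.length_eq_zero_iff, Submodule.Quotient.subsingleton_iff]
  refine LinearMap.range_eq_top.2 fun z => ?_
  obtain ⟨a, ha⟩ := (IsIntegrallyClosed.isIntegral_iff (R := A) (K := FractionRing A)).1 z.2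
  exact ⟨a, Subtype.ext ha⟩

/-- The number of connected components is the dimension of the space of global functions. -/
theorem finrank_h0_eq_card_connectedComponents [IsProper (X ↘ Spec (CommRingCat.of k))]
    [AlgebraicGeometry.IsReduced X] :
    Module.finrank k (Coh.HH X (Coh.structureModule X) 0) = Nat.card (_root_.ConnectedComponents X) := by
  classical
  set f := X ↘ Spec (CommRingCat.of k)
  have : CompactSpace X := QuasiCompact.compactSpace_of_compactSpace f
  let str : k →+* Γ(X, ⊤) := Coh.toGlobal f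
  letI : Algebra k Γ(X, ⊤) := str.toAlgebra
  have : Module.Finite k Γ(X, ⊤) := RingHom.finite_algebraMap.1
    (LimTop61.finite_appTop_of_isProper (CommRingCat.of k) f)
  let e : Coh.HH X (Coh.structureModule X) 0 ≃ₗ[k] Γ(X, ⊤) :=
    { Crv77.sec (Coh.structureModule X) with
      map_smul' := fun a z => (Crv77.sec_smul (X := X) (A := k) (Coh.structureModule X) a z) }
  rw [e.finrank_eq]
  have : IsArtinianRing Γ(X, ⊤) := IsArtinianRing.of_finite k _
  let ε : Γ(X, ⊤) ≃ₗ[k] ∀ I : MaximalSpectrum Γ(X, ⊤), Γ(X, ⊤) ⧸ I.asIdeal :=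
    ((IsArtinianRing.equivPi Γ(X, ⊤)).restrictScalars k).toLinearEquiv
  have : Fintype (MaximalSpectrum Γ(X, ⊤)) := Fintype.ofFinite _
  have hone : ∀ I : MaximalSpectrum Γ(X, ⊤), Module.finrank k (Γ(X, ⊤) ⧸ I.asIdeal) = 1 := fun I => by
    have : I.asIdeal.IsMaximal := I.isMaximal
    letI := Ideal.Quotient.field I.asIdeal
    have hbij : Function.Bijective (algebraMap k (Γ(X, ⊤) ⧸ I.asIdeal)) :=
      IsAlgClosed.algebraMap_bijective_of_isIntegral
    exact (LinearEquiv.ofBijective (Algebra.linearMap k (Γ(X, ⊤) ⧸ I.asIdeal)) hbij).finrank_eq.symm.trans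
      (Module.finrank_self k)
  rw [ε.finrank_eq, Module.finrank_pi_fintype, Finset.sum_congr rfl (fun I _ => hone I), Finset.sum_const,
    Finset.card_univ, smul_eq_mul, mul_one, ← Nat.card_eq_fintype_card]
  have hdiscrete : DiscreteTopology (PrimeSpectrum Γ(X, ⊤)) := inferInstance
  have hsurj : Function.Surjective X.toSpecΓ := fun p => by
    have hd := X.toSpecΓ.denseRange
    obtain ⟨x, hx⟩ := hd.exists_mem_open (isOpen_discrete {p}) ⟨p, rfl⟩
    exact ⟨x, hx⟩
  have hfib := AlgGrp79.preimage_toSpecΓ_eq_connectedComponent f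
  refine (Nat.card_congr (IsArtinianRing.primeSpectrumEquivMaximalSpectrum).symm).trans (Nat.card_congr ?_)
  refine (Equiv.ofBijective (Quotient.lift (s := connectedComponentSetoid X) (fun x => X.toSpecΓ x) ?_) ⟨?_, ?_⟩).symm
  · intro a b hab
    have : b ∈ connectedComponent a := hab.symm ▸ mem_connectedComponent
    rw [← hfib a] at this
    exact this.symm
  · rintro ⟨a⟩ ⟨b⟩ hab
    refine Quotient.sound (show connectedComponent a = connectedComponent b from ?_)
    have : b ∈ connectedComponent a := by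
      rw [← hfib a]; exact hab.symm
    exact connectedComponent_eq this
  · intro p
    obtain ⟨x, hx⟩ := hsurj p
    exact ⟨Quotient.mk _ x, hx⟩

open scoped Classical in
/-- The genus formula of the normalisation of a nodal curve. -/
theorem genus_add_components_eq (C : Scheme.{u}) [C.Over (Spec (CommRingCat.of k))]
    [IsProper (C ↘ Spec (CommRingCat.of k))]
    (hdim : ∀ Z ∈ irreducibleComponents (C : Type u), topologicalKrullDim Z = 1) (hC : Curv2.AtWorstNodal k C)
    (C' : Scheme.{u}) (π : C' ⟶ C) [IsFinite π] (hC' : Pi1.IsNormalScheme C')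
    (U : C.Opens) (hU : Dense (U : Set C)) (hU' : Dense ((π ⁻¹ᵁ U : C'.Opens) : Set C')) (hπU : IsIso (π ∣_ U)) :
    letI : C'.Over (Spec (CommRingCat.of k)) := ⟨π ≫ (C ↘ Spec (CommRingCat.of k))⟩
    (Curv2.genus k C : ℤ) + Nat.card (_root_.ConnectedComponents C') =
      (Curv2.genus k C' : ℤ) + Nat.card {x : C // Curv2.IsNode k C x} + Nat.card (_root_.ConnectedComponents C) := by
  letI : C'.Over (Spec (CommRingCat.of k)) := ⟨π ≫ (C ↘ Spec (CommRingCat.of k))⟩
  have : AlgebraicGeometry.IsReduced C := isReduced_of_atWorstNodal k C hC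
  have : AlgebraicGeometry.IsReduced C' := NormY57.isReduced_of_isNormalScheme hC'
  have : IsProper (C' ↘ Spec (CommRingCat.of k)) := inferInstanceAs (IsProper (π ≫ (C ↘ Spec (CommRingCat.of k))))
  have hdim1 : topologicalKrullDim C ≤ 1 := by
    rw [TopDim50.dim_eq_iSup_irreducibleComponents]
    exact iSup₂_le fun Z hZ => (hdim Z hZ).le
  have hdim1' : topologicalKrullDim C' ≤ 1 := (CdP50.dim_le_of_finite π).trans hdim1
  have h := Crv77.euler_eq_add_delta k hdim1 π rfl hC' U hU hU' hπU
  have hδ : ∀ x : C, (if IsClosed ({x} : Set C) then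
      ((Module.finrank k (C.residueField x) : ℤ) * ((Curv2.deltaInv (C.presheaf.stalk x)).toNat : ℤ)) else 0) =
      ({x : C | Curv2.IsNode k C x}.indicator (fun _ => (1 : ℤ)) x) := by
    intro x
    by_cases hn : Curv2.IsNode k C x
    · rw [if_pos hn.1, Set.indicator_of_mem (show x ∈ {x : C | Curv2.IsNode k C x} from hn), deltaInv_eq_one_of_isNode k hdim hn,
        Crv77.finrank_residueField_eq_one k hn.1]
      norm_num
    · rw [Set.indicator_of_notMem (show x ∉ {x : C | Curv2.IsNode k C x} from hn)]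
      split_ifs with hc
      · obtain ⟨W, hxW, hW⟩ := (hC x hc).resolve_right hn
        obtain ⟨hd, hi⟩ := isIntegrallyClosed_stalk_of_smooth (W.ι ≫ C ↘ Spec (CommRingCat.of k)) ⟨x, hxW⟩
        let e : C.presheaf.stalk x ≃+* W.toScheme.presheaf.stalk ⟨x, hxW⟩ :=
          (W.stalkIso ⟨x, hxW⟩).commRingCatIsoToRingEquiv.symm
        have : IsDomain (C.presheaf.stalk x) := MulEquiv.isDomain _ e.toMulEquiv
        have : IsIntegrallyClosed (C.presheaf.stalk x) := IsIntegrallyClosed.of_equiv e.symm
        rw [deltaInv_eq_zero_of_normal]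
        simp
      · rfl
  have hfin : {x : C | Curv2.IsNode k C x}.Finite := by
    have : CompactSpace C := QuasiCompact.compactSpace_of_compactSpace (C ↘ Spec (CommRingCat.of k))
    have : IsNoetherian C :=
      { toIsLocallyNoetherian := LocallyOfFiniteType.isLocallyNoetherian (C ↘ Spec (CommRingCat.of k)) }
    exact (Groth.Agent.Ega11.LatticeNodes.finite_nodes hdim1).1
  have hcard : (Nat.card {x : C // Curv2.IsNode k C x} : ℤ) =
      ∑ᶠ x : C, ({x : C | Curv2.IsNode k C x}.indicator (fun _ => (1 : ℤ)) x) := by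
    rw [← finsum_mem_def, finsum_mem_eq_finite_toFinset_sum _ hfin, Finset.sum_const, nsmul_one,
      show Nat.card {x : C // Curv2.IsNode k C x} = {x : C | Curv2.IsNode k C x}.ncard from rfl,
      Set.ncard_eq_toFinset_card _ hfin]
  rw [finsum_congr hδ, ← hcard, (Crv77.curveCoh_of_proper k C' hdim1').euler_eq Crv77.isCoh_structureModule,
    (Crv77.curveCoh_of_proper k C hdim1).euler_eq Crv77.isCoh_structureModule] at h
  simp only [Crv77.h] at h
  rw [finrank_h0_eq_card_connectedComponents k, finrank_h0_eq_card_connectedComponents k] at h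
  simp only [Curv2.genus]
  linarith

end Groth.Agent.Curves2
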