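import Mathlib.RingTheory.Filtration
import Mathlib.RingTheory.Ideal.MinimalPrime.Noetherian
import Mathlib.RingTheory.Ideal.MinimalPrime.Localization
import Mathlib.RingTheory.IntegralClosure.IntegrallyClosed
import Mathlib.RingTheory.Localization.FractionRing
import Mathlib.RingTheory.Localization.Integral
import Mathlib.RingTheory.Localization.AtPrime.Basic
import Mathlib.RingTheory.Nilpotent.Lemmas

/-!
# A normality criterion

A Noetherian local ring with a nonzerodivisor `π` such that `A ⧸ π` is reduced and `A[1/π]` is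
normal is a normal domain.
-/

set_option autoImplicit false

universe u

namespace Groth.Agent.Curves2

open IsLocalRing

variable {A : Type u} [CommRing A] {π : A}

theorem mem_span_of_pow_mem (hred : _root_.IsReduced (A ⧸ Ideal.span {π})) {a : A} {m : ℕ}
    (h : a ^ m ∈ Ideal.span {π}) : a ∈ Ideal.span {π} := by
  rw [← Ideal.Quotient.eq_zero_iff_mem] at h ⊢
  rw [map_pow] at h
  exact IsReduced.eq_zero _ ⟨m, h⟩

theorem isReduced_of_quotient [IsLocalRing A] [IsNoetherianRing A] (hπ : π ∈ maximalIdeal A)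
    (hnzd : π ∈ nonZeroDivisors A) (hred : _root_.IsReduced (A ⧸ Ideal.span {π})) :
    _root_.IsReduced A := by
  refine ⟨fun a ha => ?_⟩
  have h : ∀ (n : ℕ) (b : A), IsNilpotent b → b ∈ Ideal.span {π ^ n} := by
    intro n
    induction n with
    | zero => intro b _; rw [pow_zero, Ideal.span_singleton_one]; trivial
    | succ n ih =>
      intro b hb
      obtain ⟨m, hm⟩ := hb
      obtain ⟨c, rfl⟩ := Ideal.mem_span_singleton'.mp
        (mem_span_of_pow_mem hred (m := m) (hm ▸ zero_mem _))
      have hc : IsNilpotent c := by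
        refine ⟨m, ?_⟩
        rw [mul_pow] at hm
        exact (mul_right_mem_nonZeroDivisors_eq_zero_iff (pow_mem hnzd m)).mp hm
      obtain ⟨d, rfl⟩ := Ideal.mem_span_singleton'.mp (ih c hc)
      exact Ideal.mem_span_singleton'.mpr ⟨d, by rw [pow_succ]; ring⟩
  have h2 := Ideal.iInf_pow_eq_bot_of_isLocalRing (maximalIdeal A)
    (maximalIdeal.isMaximal A).ne_top
  rw [← Ideal.mem_bot, ← h2, Ideal.mem_iInf]
  intro n
  exact ((Ideal.span_singleton_le_iff_mem _).mpr (Ideal.pow_mem_pow hπ n)) (h n a ha)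

theorem eq_zero_or_eq_pow [IsLocalRing A] (hnzd : π ∈ nonZeroDivisors A)
    (hred : _root_.IsReduced (A ⧸ Ideal.span {π})) :
    ∀ (n : ℕ) (a : A), a * a = π ^ n * a → a = 0 ∨ a = π ^ n := by
  intro n
  induction n with
  | zero =>
    intro a ha
    rw [pow_zero, one_mul] at ha
    rw [pow_zero]
    have h0 : a * (a - 1) = 0 := by rw [mul_sub, mul_one, ha, sub_self]
    rcases IsLocalRing.isUnit_or_isUnit_one_sub_self a with h | h
    · exact Or.inr (sub_eq_zero.mp (h.mul_right_eq_zero.mp h0))
    · left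
      rw [← neg_sub 1 a, mul_neg, neg_eq_zero] at h0
      exact h.mul_left_eq_zero.mp h0
  | succ n ih =>
    intro a ha
    have hmem : a ^ 2 ∈ Ideal.span {π} :=
      Ideal.mem_span_singleton'.mpr ⟨π ^ n * a, by rw [pow_two, ha, pow_succ]; ring⟩
    obtain ⟨c, rfl⟩ := Ideal.mem_span_singleton'.mp (mem_span_of_pow_mem hred hmem)
    have hc : c * c = π ^ n * c := by
      refine sub_eq_zero.mp ((mul_right_mem_nonZeroDivisors_eq_zero_iff
        (mul_mem hnzd hnzd)).mp ?_)
      have e : π ^ (n + 1) * (c * π) = π ^ n * c * (π * π) := by rw [pow_succ]; ring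
      rw [e] at ha
      rw [sub_mul, ← ha]
      ring
    rcases ih c hc with h | h
    · exact Or.inl (by rw [h, zero_mul])
    · exact Or.inr (by rw [h, pow_succ])

theorem isDomain_of_quotient [IsLocalRing A] [IsNoetherianRing A] (hπ : π ∈ maximalIdeal A)
    (hnzd : π ∈ nonZeroDivisors A) (hred : _root_.IsReduced (A ⧸ Ideal.span {π}))
    (hgen : ∀ (P : Ideal A) [P.IsPrime], π ∉ P → IsDomain (Localization.AtPrime P)) :
    IsDomain A := by
  classical
  have := isReduced_of_quotient hπ hnzd hred
  have hfin : (minimalPrimes A).Finite := minimalPrimes.finite_of_isNoetherianRing A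
  have hπn : ∀ P ∈ minimalPrimes A, π ∉ P := fun P hP h =>
    Set.disjoint_left.mp (Ideal.disjoint_nonZeroDivisors_of_mem_minimalPrimes hP) h hnzd
  obtain ⟨P₁, hP₁⟩ : (minimalPrimes A).Nonempty :=
    Set.nonempty_coe_sort.mp (Ideal.nonempty_minimalPrimes bot_ne_top)
  have huniq : ∀ P₂ ∈ minimalPrimes A, P₂ = P₁ := by
    intro P₂ hP₂
    by_contra hne
    let Q : Ideal A := sInf (minimalPrimes A \ {P₁})
    have hzero : ∀ z ∈ P₁, z ∈ Q → z = 0 := by
      intro z h1 h2
      have : z ∈ nilradical A := by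
        rw [nilradical, ← Ideal.sInf_minimalPrimes, Ideal.mem_sInf]
        intro P hP
        by_cases h : P = P₁
        · exact h ▸ h1
        · exact Ideal.mem_sInf.mp h2 ⟨hP, h⟩
      rwa [nilradical_eq_zero, Ideal.zero_eq_bot, Ideal.mem_bot] at this
    have hmem : π ∈ (P₁ ⊔ Q).radical := by
      rw [Ideal.radical_eq_sInf, Ideal.mem_sInf]
      rintro P ⟨hle, hP⟩
      by_contra hπP
      have := hgen P hπP
      obtain ⟨hle1, hle2⟩ := sup_le_iff.mp hle
      obtain ⟨P', ⟨hP', hP'ne⟩, hP'le⟩ : ∃ P' ∈ minimalPrimes A \ {P₁}, P' ≤ P := by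
        have hfin' : (minimalPrimes A \ {P₁}).Finite := hfin.subset Set.sdiff_subset
        have h3 : hfin'.toFinset.inf id ≤ P := by
          refine le_trans (le_of_eq ?_) hle2
          rw [Finset.inf_id_eq_sInf, hfin'.coe_toFinset]
        obtain ⟨P', hP', hle'⟩ := hP.inf_le'.mp h3
        exact ⟨P', hfin'.mem_toFinset.mp hP', hle'⟩
      have h2 : ∀ R ∈ minimalPrimes A, R ≤ P →
          R = RingHom.ker (algebraMap A (Localization.AtPrime P)) := by
        intro R hR hRP
        have hJR : RingHom.ker (algebraMap A (Localization.AtPrime P)) ≤ R := by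
          intro w hw
          obtain ⟨⟨m, hm⟩, hmw⟩ := (IsLocalization.map_eq_zero_iff P.primeCompl
            (Localization.AtPrime P) w).mp hw
          exact (hR.1.1.mem_or_mem (hmw ▸ R.zero_mem : m * w ∈ R)).resolve_left fun h => hm (hRP h)
        exact le_antisymm (hR.2 ⟨RingHom.ker_isPrime _, bot_le⟩ hJR) hJR
      exact hP'ne ((h2 P' hP' hP'le).trans (h2 P₁ hP₁ hle1).symm)
    obtain ⟨n, hn⟩ := hmem
    obtain ⟨a, ha, b, hb, hab⟩ := Submodule.mem_sup.mp hn
    have hab0 : a * b = 0 :=
      hzero _ (Ideal.mul_mem_right _ _ ha) (Ideal.mul_mem_left _ _ hb)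
    rcases eq_zero_or_eq_pow hnzd hred n a (by rw [← hab, add_mul, mul_comm b a, hab0, add_zero])
      with h | h
    · rw [h, zero_add] at hab
      exact hπn P₂ hP₂ (hP₂.1.1.mem_of_pow_mem n
        (hab ▸ Ideal.mem_sInf.mp hb ⟨hP₂, hne⟩))
    · exact hπn P₁ hP₁ (hP₁.1.1.mem_of_pow_mem n (h ▸ ha))
  have hbot : P₁ = ⊥ := by
    refine eq_bot_iff.mpr fun z hz => ?_
    have : z ∈ nilradical A := by
      rw [nilradical, ← Ideal.sInf_minimalPrimes, Ideal.mem_sInf]
      intro P hP
      exact huniq P hP ▸ hz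
    rwa [nilradical_eq_zero, Ideal.zero_eq_bot] at this
  have : (⊥ : Ideal A).IsPrime := hbot ▸ hP₁.1.1
  exact IsDomain.of_bot_isPrime A

/-- The normality criterion. -/
theorem normal_of_quotient [IsLocalRing A] [IsNoetherianRing A] (hπ : π ∈ maximalIdeal A)
    (hnzd : π ∈ nonZeroDivisors A) (hred : _root_.IsReduced (A ⧸ Ideal.span {π}))
    (hgen : ∀ (P : Ideal A) [P.IsPrime], π ∉ P →
      IsDomain (Localization.AtPrime P) ∧ IsIntegrallyClosed (Localization.AtPrime P)) :
    IsDomain A ∧ IsIntegrallyClosed A := by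
  have := isDomain_of_quotient hπ hnzd hred fun P _ h => (hgen P h).1
  refine ⟨this, ?_⟩
  let K := FractionRing A
  rw [isIntegrallyClosed_iff K]
  intro x hx
  have hπ0 : π ≠ 0 := nonZeroDivisors.ne_zero hnzd
  have descend : ∀ (n : ℕ) (y : K), IsIntegral A y →
      (∃ a, algebraMap A K a = algebraMap A K (π ^ n) * y) → ∃ a, algebraMap A K a = y := by
    intro n
    induction n with
    | zero =>
      rintro y - ⟨a, ha⟩
      exact ⟨a, by rw [ha, pow_zero, map_one, one_mul]⟩
    | succ n ih =>
      rintro y hy ⟨a, ha⟩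
      refine ih y hy ?_
      have hz : IsIntegral A (algebraMap A K (π ^ n) * y) := isIntegral_algebraMap.mul hy
      obtain ⟨p, hpmon, hp⟩ := hz
      have hπK : algebraMap A K π ≠ 0 := fun h =>
        hπ0 ((injective_iff_map_eq_zero _).mp (IsFractionRing.injective A K) _ h)
      have key : algebraMap A K (p.scaleRoots π |>.eval a) = 0 := by
        rw [← Polynomial.eval₂_at_apply, ha, pow_succ, map_mul, mul_right_comm,
          mul_comm _ (algebraMap A K π)]
        exact Polynomial.scaleRoots_eval₂_eq_zero _ hp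
      have key' := (injective_iff_map_eq_zero _).mp (IsFractionRing.injective A K) _ key
      have hmem : a ^ p.natDegree ∈ Ideal.span {π} := by
        rw [Polynomial.eval_eq_sum_range, Polynomial.natDegree_scaleRoots,
          Finset.sum_range_succ] at key'
        rw [Polynomial.coeff_scaleRoots, hpmon.coeff_natDegree, Nat.sub_self, pow_zero, mul_one,
          one_mul] at key'
        rw [eq_neg_of_add_eq_zero_right key']
        refine neg_mem (Ideal.sum_mem _ fun i hi => ?_)
        rw [Polynomial.coeff_scaleRoots]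
        refine Ideal.mul_mem_right _ _ (Ideal.mul_mem_left _ _ ?_)
        exact Ideal.pow_mem_of_mem _ (Ideal.mem_span_singleton_self π) _
          (Nat.sub_pos_of_lt (Finset.mem_range.mp hi))
      obtain ⟨c, rfl⟩ := Ideal.mem_span_singleton'.mp (mem_span_of_pow_mem hred hmem)
      refine ⟨c, mul_right_cancel₀ hπK ?_⟩
      rw [← map_mul, ha, pow_succ, map_mul]
      ring
  let D : Ideal A :=
    { carrier := {d | ∃ a, algebraMap A K a = algebraMap A K d * x}
      add_mem' := by
        rintro d e ⟨a, ha⟩ ⟨b, hb⟩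
        exact ⟨a + b, by rw [map_add, map_add, add_mul, ha, hb]⟩
      zero_mem' := ⟨0, by rw [map_zero, zero_mul]⟩
      smul_mem' := by
        rintro c d ⟨a, ha⟩
        exact ⟨c * a, by rw [smul_eq_mul, map_mul, map_mul, ha, mul_assoc]⟩ }
  have hD : π ∈ D.radical := by
    rw [Ideal.radical_eq_sInf, Ideal.mem_sInf]
    rintro P ⟨hle, hP⟩
    by_contra hπP
    obtain ⟨h1, h2⟩ := hgen P hπP
    let : Algebra (Localization.AtPrime P) K :=
      (IsLocalization.lift (M := P.primeCompl) (S := Localization.AtPrime P)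
        (g := algebraMap A K) fun s => IsUnit.mk0 _ fun h => s.2 (by
          rw [(injective_iff_map_eq_zero _).mp (IsFractionRing.injective A K) _ h]
          exact P.zero_mem)).toAlgebra
    have : IsScalarTower A (Localization.AtPrime P) K :=
      IsScalarTower.of_algebraMap_eq fun a => (IsLocalization.lift_eq _ a).symm
    have : IsFractionRing (Localization.AtPrime P) K :=
      IsFractionRing.isFractionRing_of_isDomain_of_isLocalization P.primeCompl _ _
    obtain ⟨z, hz⟩ := IsIntegrallyClosed.isIntegral_iff.mp (hx.tower_top (A := Localization.AtPrime P))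
    obtain ⟨a, s, rfl⟩ := IsLocalization.exists_mk'_eq P.primeCompl z
    refine s.2 (hle ⟨a, ?_⟩)
    rw [← hz, IsScalarTower.algebraMap_apply A (Localization.AtPrime P) K a,
      IsScalarTower.algebraMap_apply A (Localization.AtPrime P) K s, ← map_mul,
      IsLocalization.mk'_spec']
  obtain ⟨n, hn⟩ := hD
  exact descend n x hx hn

end Groth.Agent.Curves2
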