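import Groth.Prelude.Def_Pi1
import Groth.Agent.Curves2.NormalCriterion
import Groth.Agent.CAlg1.SerreNormal
import Groth.Agent.CAlg1.FlatFibre
import Groth.Agent.Cyc90.Gen
import Groth.Agent.FlatMor68.GenStalk
import Mathlib.AlgebraicGeometry.Morphisms.Flat
import Mathlib.RingTheory.Flat.TorsionFree

/-!
# Normality ascends along flat morphisms with reduced fibres and normal generic fibre
-/

set_option autoImplicit false

universe u

open CategoryTheory AlgebraicGeometry IsLocalRing Groth.Agent.Cyc90

namespace Groth.Agent.Curves2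

theorem normal_atPrime_of_stalk {X : Scheme.{u}} {x : X} (P : Ideal (X.presheaf.stalk x)) [P.IsPrime]
    (hy : IsDomain (X.presheaf.stalk (X.fromSpecStalk x ⟨P, inferInstance⟩)) ∧
      IsIntegrallyClosed (X.presheaf.stalk (X.fromSpecStalk x ⟨P, inferInstance⟩))) :
    IsDomain (Localization.AtPrime P) ∧ IsIntegrallyClosed (Localization.AtPrime P) := by
  let h := fromSpecStalk_specializes (X := X) (x := x) ⟨P, inferInstance⟩
  let := (X.presheaf.stalkSpecializes h).hom.toAlgebra
  have := isLocalization_genPrime h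
  have hg : (genPrime h).asIdeal = P :=
    congrArg PrimeSpectrum.asIdeal (genPrime_fromSpecStalk (X := X) (x := x) ⟨P, inferInstance⟩)
  have : IsLocalization.AtPrime (X.presheaf.stalk (X.fromSpecStalk x ⟨P, inferInstance⟩)) P := by
    convert this using 2 <;> first | exact hg.symm | rw [hg]
  let e := IsLocalization.algEquiv P.primeCompl
    (X.presheaf.stalk (X.fromSpecStalk x ⟨P, inferInstance⟩)) (Localization.AtPrime P)
  have := hy.1
  have := hy.2
  have : IsDomain (Localization.AtPrime P) := Function.Injective.isDomain e.symm e.symm.injective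
  exact ⟨this, IsIntegrallyClosed.of_equiv e.toRingEquiv⟩

theorem ringEquiv_atPrime_stalk {X : Scheme.{u}} {x : X} (P : Ideal (X.presheaf.stalk x))
    [P.IsPrime] :
    Nonempty (X.presheaf.stalk (X.fromSpecStalk x ⟨P, inferInstance⟩) ≃+* Localization.AtPrime P) := by
  let h := fromSpecStalk_specializes (X := X) (x := x) ⟨P, inferInstance⟩
  let := (X.presheaf.stalkSpecializes h).hom.toAlgebra
  have := isLocalization_genPrime h
  have hg : (genPrime h).asIdeal = P :=
    congrArg PrimeSpectrum.asIdeal (genPrime_fromSpecStalk (X := X) (x := x) ⟨P, inferInstance⟩)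
  have : IsLocalization.AtPrime (X.presheaf.stalk (X.fromSpecStalk x ⟨P, inferInstance⟩)) P := by
    convert this using 2 <;> first | exact hg.symm | rw [hg]
  exact ⟨(IsLocalization.algEquiv P.primeCompl
    (X.presheaf.stalk (X.fromSpecStalk x ⟨P, inferInstance⟩)) (Localization.AtPrime P)).toRingEquiv⟩

theorem two_le_of_not_le_one : ∀ {d : WithBot ℕ∞}, ¬ d ≤ 1 → 2 ≤ d
  | ⊥, h => absurd bot_le h
  | (d : ℕ∞), h => by
    refine WithBot.coe_le_coe.mpr ?_
    have h1 : (1 : ℕ∞) < d := not_le.mp fun h' => h (WithBot.coe_le_coe.mpr h')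
    exact le_trans (le_of_eq (by norm_num)) (Order.add_one_le_of_lt h1)

variable {X S : Scheme.{u}} [IsIntegral S] (f : X ⟶ S)

/-- A prime of a stalk over zero gives a point over the generic point. -/
theorem eq_genericPoint_of_comap_eq_bot (y : X) (P : Ideal (X.presheaf.stalk y)) [P.IsPrime]
    (hP : P.comap (f.stalkMap y).hom = ⊥) :
    f (X.fromSpecStalk y ⟨P, inferInstance⟩) = genericPoint S := by
  have h1 : f (X.fromSpecStalk y ⟨P, inferInstance⟩) = S.fromSpecStalk (f y)
      (PrimeSpectrum.comap (f.stalkMap y).hom ⟨P, inferInstance⟩) :=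
    (congrArg (fun F : Spec (X.presheaf.stalk y) ⟶ S => F.base ⟨P, inferInstance⟩)
      (Scheme.SpecMap_stalkMap_fromSpecStalk f (x := y))).symm
  rw [h1]
  set q := PrimeSpectrum.comap (f.stalkMap y).hom ⟨P, inferInstance⟩ with hq
  have h2 := (genPrime_le_iff (fromSpecStalk_specializes q)
    (genericPoint_specializes (f y))).mp (by
      rw [genPrime_fromSpecStalk]
      refine le_trans (le_of_eq ?_) bot_le
      exact hP)
  exact (Specializes.antisymm h2 (genericPoint_specializes _)).eq

theorem genericPoint_of_stalk_isField {s : S} (h : IsField (S.presheaf.stalk s)) :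
    s = genericPoint S := by
  have h2 := (genPrime_le_iff (specializes_refl s) (genericPoint_specializes s)).mp (by
    rw [genPrime_refl]
    refine le_trans (le_of_eq ?_) bot_le
    exact IsLocalRing.isField_iff_maximalIdeal_eq.mp h)
  exact (Specializes.antisymm h2 (genericPoint_specializes _)).eq

variable [IsLocallyNoetherian S] [Flat f] [LocallyOfFiniteType f]

theorem normal_stalk_of_base_dim_le_one (hS : Pi1.IsNormalScheme S)
    (hred : ∀ s, IsReduced (f.fiber s))
    (hgen : ∀ y : X, f y = genericPoint S →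
      IsDomain (X.presheaf.stalk y) ∧ IsIntegrallyClosed (X.presheaf.stalk y))
    (y : X) (hd : ringKrullDim (S.presheaf.stalk (f y)) ≤ 1) :
    IsDomain (X.presheaf.stalk y) ∧ IsIntegrallyClosed (X.presheaf.stalk y) := by
  by_cases hy : f y = genericPoint S
  · exact hgen y hy
  have : IsLocallyNoetherian X := LocallyOfFiniteType.isLocallyNoetherian f
  obtain ⟨_, _⟩ := hS (f y)
  have hf : ¬ IsField (S.presheaf.stalk (f y)) := fun h => hy (genericPoint_of_stalk_isField h)
  have hex : ∃! Q : Ideal (S.presheaf.stalk (f y)), Q ≠ ⊥ ∧ Q.IsPrime := by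
    refine ⟨maximalIdeal _, ⟨fun hb => hf (IsLocalRing.isField_iff_maximalIdeal_eq.mpr hb),
      (maximalIdeal.isMaximal _).isPrime⟩, fun Q ⟨hQ, hQp⟩ => ?_⟩
    have : Ring.KrullDimLE 1 (S.presheaf.stalk (f y)) := Ring.krullDimLE_iff.mpr hd
    exact IsLocalRing.eq_maximalIdeal (Ring.krullDimLE_one_iff_of_noZeroDivisors.mp this Q hQ hQp)
  have h3 : IsIntegrallyClosed (S.presheaf.stalk (f y)) ∧
      ∃! Q : Ideal (S.presheaf.stalk (f y)), Q ≠ ⊥ ∧ Q.IsPrime := ⟨inferInstance, hex⟩
  have : IsDiscreteValuationRing (S.presheaf.stalk (f y)) :=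
    ((IsDiscreteValuationRing.TFAE (S.presheaf.stalk (f y)) hf).out 0 3).mpr h3
  obtain ⟨ϖ, hϖ⟩ := IsDiscreteValuationRing.exists_irreducible (S.presheaf.stalk (f y))
  have hϖm : ϖ ∈ maximalIdeal (S.presheaf.stalk (f y)) := (mem_maximalIdeal _).mpr hϖ.not_isUnit
  have hnzd : f.stalkMap y ϖ ∈ nonZeroDivisors (X.presheaf.stalk y) := by
    have hfl := Flat.stalkMap f y
    algebraize [(f.stalkMap y).hom]
    have h1 := Module.Flat.isSMulRegular_of_nonZeroDivisors (M := X.presheaf.stalk y)
      (mem_nonZeroDivisors_of_ne_zero hϖ.ne_zero)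
    rw [mem_nonZeroDivisors_iff_right]
    intro z hz
    refine h1 (show ϖ • z = ϖ • 0 from ?_)
    rw [smul_zero, Algebra.smul_def, mul_comm]
    exact hz
  have hq : _root_.IsReduced (X.presheaf.stalk y ⧸ Ideal.span {f.stalkMap y ϖ}) := by
    have := hred (f y)
    have h1 := FlatMor68.GenStalk.isReduced_stalk_quot_of_fiber f (f y) y rfl
    rw [hϖ.maximalIdeal_eq, Ideal.map_span, Set.image_singleton] at h1
    exact h1
  refine normal_of_quotient (π := f.stalkMap y ϖ) (map_nonunit (f.stalkMap y).hom ϖ hϖm) hnzd hq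
    fun P _ hP => normal_atPrime_of_stalk P (hgen _ (eq_genericPoint_of_comap_eq_bot f y P ?_))
  by_contra hne
  have hPp : (P.comap (f.stalkMap y).hom).IsPrime := Ideal.comap_isPrime _ _
  have hmax := (hex.unique ⟨hne, hPp⟩ ⟨fun hb => hf (IsLocalRing.isField_iff_maximalIdeal_eq.mpr hb),
      (maximalIdeal.isMaximal _).isPrime⟩)
  exact hP (show ϖ ∈ P.comap (f.stalkMap y).hom from hmax ▸ hϖm)

/-- Normality ascends along a flat morphism with reduced fibres and normal generic fibre. -/
theorem isNormalScheme_of_flat_of_fibres (hS : Pi1.IsNormalScheme S)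
    (hred : ∀ s, IsReduced (f.fiber s))
    (hgen : ∀ y : X, f y = genericPoint S →
      IsDomain (X.presheaf.stalk y) ∧ IsIntegrallyClosed (X.presheaf.stalk y)) :
    Pi1.IsNormalScheme X := by
  intro x
  have : IsLocallyNoetherian X := LocallyOfFiniteType.isLocallyNoetherian f
  obtain ⟨_, _⟩ := hS (f x)
  have hfl := Flat.stalkMap f x
  algebraize [(f.stalkMap x).hom]
  have hzero : ∀ (P : Ideal (X.presheaf.stalk x)) [P.IsPrime],
      P.comap (f.stalkMap x).hom = ⊥ → _root_.IsReduced (Localization.AtPrime P) := fun P _ hP => by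
    have := (normal_atPrime_of_stalk P (hgen _ (eq_genericPoint_of_comap_eq_bot f x P hP))).1
    infer_instance
  have : _root_.IsReduced (X.presheaf.stalk x) := by
    refine ⟨fun b hb => ?_⟩
    let J : Ideal (X.presheaf.stalk x) := (⊥ : Ideal (X.presheaf.stalk x)).colon {b}
    let T : Submonoid (X.presheaf.stalk x) :=
      (nonZeroDivisors (S.presheaf.stalk (f x))).map (algebraMap _ (X.presheaf.stalk x))
    by_cases hJ : Disjoint (J : Set (X.presheaf.stalk x)) (T : Set (X.presheaf.stalk x))
    · exfalso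
      obtain ⟨P, hP, hJP, hdisj⟩ := Ideal.exists_le_prime_disjoint J T hJ
      have hbot : P.comap (f.stalkMap x).hom = ⊥ := by
        refine eq_bot_iff.mpr fun a ha => ?_
        by_contra ha0
        exact Set.disjoint_left.mp hdisj ha
          ⟨a, mem_nonZeroDivisors_of_ne_zero ha0, rfl⟩
      have := hzero P hbot
      have h0 : algebraMap (X.presheaf.stalk x) (Localization.AtPrime P) b = 0 :=
        IsReduced.eq_zero _ (hb.map _)
      obtain ⟨⟨m, hm⟩, hmb⟩ := (IsLocalization.map_eq_zero_iff P.primeCompl _ b).mp h0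
      exact hm (hJP (Submodule.mem_colon_singleton.mpr (by simpa using hmb)))
    · obtain ⟨_, htJ, a, ha, rfl⟩ := Set.not_disjoint_iff.mp hJ
      have h1 := Module.Flat.isSMulRegular_of_nonZeroDivisors (M := X.presheaf.stalk x) ha
      refine h1 (show a • b = a • 0 from ?_)
      rw [smul_zero, Algebra.smul_def]
      have h2 := Submodule.mem_colon_singleton.mp htJ
      rwa [Submodule.mem_bot, smul_eq_mul] at h2
  refine CAlg1.isDomain_and_isIntegrallyClosed_local _ (fun P _ hP => ?_) (fun P _ hP => ?_)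
  · obtain ⟨e⟩ := ringEquiv_atPrime_stalk P
    set y := X.fromSpecStalk x ⟨P, inferInstance⟩
    have hd : ringKrullDim (S.presheaf.stalk (f y)) ≤ 1 := by
      by_contra hlt
      obtain ⟨_, _⟩ := hS (f y)
      have hfl' := Flat.stalkMap f y
      algebraize [(f.stalkMap y).hom]
      have : IsLocalHom (algebraMap (S.presheaf.stalk (f y)) (X.presheaf.stalk y)) :=
        ⟨fun a ha => isUnit_of_map_unit (f.stalkMap y).hom a ha⟩
      have h1 := CAlg1.two_le_depth_of_isIntegrallyClosed (S.presheaf.stalk (f y))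
        (two_le_of_not_le_one hlt)
      have h2 := CAlg1.depth_of_flat_local (S.presheaf.stalk (f y)) (X.presheaf.stalk y)
      have h3 : (2 : ℕ∞) ≤ LocCoh.depth (X.presheaf.stalk y) (X.presheaf.stalk y) :=
        h2 ▸ h1.trans le_self_add
      have h4 := EGA4Alg4.depth_le_supportDim (A := X.presheaf.stalk y) (M := X.presheaf.stalk y)
      rw [Module.supportDim_self_eq_ringKrullDim, ringKrullDim_eq_of_ringEquiv e,
        IsLocalization.AtPrime.ringKrullDim_eq_height P, WithBot.coe_le_coe] at h4
      exact absurd ((h3.trans h4).trans hP) (by decide)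
    obtain ⟨_, _⟩ := normal_atPrime_of_stalk P
      (normal_stalk_of_base_dim_le_one f hS hred hgen y hd)
    refine CAlg1.regular_of_isIntegrallyClosed_dim_le_one _ ?_
    rw [IsLocalization.AtPrime.ringKrullDim_eq_height P]
    exact_mod_cast hP
  · obtain ⟨e⟩ := ringEquiv_atPrime_stalk P
    set y := X.fromSpecStalk x ⟨P, inferInstance⟩
    have : IsNoetherianRing (Localization.AtPrime P) :=
      IsLocalization.isNoetherianRing P.primeCompl _ inferInstance
    rw [← CAlg1.depth_eq_of_ringEquiv e]
    by_cases hd : ringKrullDim (S.presheaf.stalk (f y)) ≤ 1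
    · obtain ⟨_, _⟩ := normal_stalk_of_base_dim_le_one f hS hred hgen y hd
      refine CAlg1.two_le_depth_of_isIntegrallyClosed _ ?_
      rw [ringKrullDim_eq_of_ringEquiv e, IsLocalization.AtPrime.ringKrullDim_eq_height P]
      exact WithBot.coe_le_coe.mpr hP
    · obtain ⟨_, _⟩ := hS (f y)
      have hfl' := Flat.stalkMap f y
      algebraize [(f.stalkMap y).hom]
      have : IsLocalHom (algebraMap (S.presheaf.stalk (f y)) (X.presheaf.stalk y)) :=
        ⟨fun a ha => isUnit_of_map_unit (f.stalkMap y).hom a ha⟩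
      rw [CAlg1.depth_of_flat_local (S.presheaf.stalk (f y)) (X.presheaf.stalk y)]
      refine le_trans (CAlg1.two_le_depth_of_isIntegrallyClosed _ ?_) le_self_add
      exact two_le_of_not_le_one hd

end Groth.Agent.Curves2
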