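import Groth.Agent.Curves2.NormalAscent
import Groth.Agent.Curves2.SmoothNormal
import Groth.Agent.FlatMor68.FibreStalk

/-!
# Stalks over the generic point of a base with smooth generic fibre
-/

set_option autoImplicit false

universe u

open CategoryTheory AlgebraicGeometry

namespace Groth.Agent.Curves2

/-- The stalks of a scheme over the generic point are normal when the generic fibre is smooth. -/
theorem normal_stalk_over_generic {C S : Scheme.{u}} [IsIntegral S] (f : C ⟶ S)
    (hsm : Smooth (f.fiberToSpecResidueField (genericPoint ↥S))) (y : C) (hy : f y = genericPoint S) :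
    IsDomain (C.presheaf.stalk y) ∧ IsIntegrallyClosed (C.presheaf.stalk y) := by
  let e := FlatMor68.FibreStalk.fibreStalkEquivAt f y
  have hbot : (IsLocalRing.maximalIdeal (S.presheaf.stalk (f y))).map (f.stalkMap y).hom = ⊥ := by
    have hmax := FlatMor68.GenStalk.maximalIdeal_stalk_eq_bot_of_maximal (f y)
      (fun z hz => by
        refine (Specializes.antisymm hz ?_).eq
        rw [hy]; exact genericPoint_specializes z)
    rw [hmax, Ideal.map_bot]
  let e' : C.presheaf.stalk y ≃+* _ := ((RingEquiv.quotientBot _).symm.trans
    (Ideal.quotEquivOfEq hbot.symm)).trans e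
  have key : ∀ (s : S) (_ : s = genericPoint S) (w : f.fiber s),
      IsDomain ((f.fiber s).presheaf.stalk w) ∧ IsIntegrallyClosed ((f.fiber s).presheaf.stalk w) := by
    rintro s rfl w
    exact @isIntegrallyClosed_stalk_of_smooth (S.residueField (genericPoint S)) _
      (f.fiber (genericPoint S)) (f.fiberToSpecResidueField (genericPoint S)) hsm w
  obtain ⟨h1, h2⟩ := key (f y) hy (f.asFiber y)
  have : IsDomain (C.presheaf.stalk y) := Function.Injective.isDomain e' e'.injective
  exact ⟨this, IsIntegrallyClosed.of_equiv e'.symm⟩

end Groth.Agent.Curves2
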