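import Groth.Agent.Curves2.CurveToolkit
import Groth.Agent.Crv77.InvMod
import Groth.Agent.Crv77.MaxSeries
import Groth.Agent.EGA73.Tensor

/-!
# Twisting by points on a smooth proper curve over an algebraically closed field
-/

set_option autoImplicit false

universe u

open CategoryTheory CategoryTheory.Limits AlgebraicGeometry

namespace Groth.Agent.Curves2

variable {k : Type u} [Field k] {X : Scheme.{u}} [X.Over (Spec (CommRingCat.of k))]

theorem exists_ne_of_dim_eq_one (hdim : topologicalKrullDim X = 1) (P : X) : ∃ y : X, y ≠ P := by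
  by_contra hall
  push Not at hall
  have : Subsingleton X := ⟨fun a b => (hall a).trans (hall b).symm⟩
  have : topologicalKrullDim X ≤ 0 := topologicalKrullDim_zero_of_discreteTopology X
  rw [hdim] at this
  exact absurd this (by norm_num)

include k in
theorem isInvertible_ptIdeal_of_smooth [IsIntegral X] [Smooth (X ↘ Spec (CommRingCat.of k))]
    (hdim : topologicalKrullDim X = 1) {P : X} (hP : IsClosed ({P} : Set X)) :
    PicF.IsInvertible (ClSub.idealMod (Crv77.ptIdeal hP)) := by
  have : IsLocallyNoetherian X :=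
    LocallyOfFiniteType.isLocallyNoetherian (X ↘ Spec (CommRingCat.of k))
  have := (isIntegrallyClosed_stalk_of_smooth (X ↘ Spec (CommRingCat.of k)) P).2
  exact isInvertible_ptIdeal hdim.le hP (exists_ne_of_dim_eq_one hdim P)

/-- `O(P)`: an inverse of the ideal of a closed point. -/
theorem exists_ptInverse [IsIntegral X] [IsProper (X ↘ Spec (CommRingCat.of k))]
    [Smooth (X ↘ Spec (CommRingCat.of k))]
    (hdim : topologicalKrullDim X = 1) {P : X} (hP : IsClosed ({P} : Set X)) :
    ∃ M : X.Modules, PicF.IsInvertible M ∧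
      Nonempty (CohB1.tensorMod (ClSub.idealMod (Crv77.ptIdeal hP)) M ≅ Coh.structureModule X) := by
  have : IsNoetherian X := Crv77.isNoetherian_of_proper k X
  exact Crv77.exists_inverse (isInvertible_ptIdeal_of_smooth (k := k) hdim hP)

/-- `I_P ⊗ (L ⊗ M) ≅ L` for `M` inverse to `I_P`. -/
theorem nonempty_untwist {I L M : X.Modules}
    (e : Nonempty (CohB1.tensorMod I M ≅ Coh.structureModule X)) :
    Nonempty (CohB1.tensorMod I (CohB1.tensorMod L M) ≅ L) := by
  obtain ⟨e⟩ := e
  exact ⟨EGA73.tensIso (Iso.refl I) (EGA73.tensComm L M) ≪≫ (EGA73.tensAssoc' I M L).symm ≪≫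
    EGA73.tensIso e (Iso.refl L) ≪≫ EGA73.tensUnitLeft L⟩

variable [IsIntegral X]

/-- A nonzero section of an invertible module generates it at the generic point. -/
theorem genericPoint_mem_genLocus {L : X.Modules} (hL : PicF.IsInvertible L) {t : Γ(L, ⊤)}
    (ht : t ≠ 0) : genericPoint X ∈ CohB1.genLocus L (Var76.Frames.ofSection L t) := by
  obtain ⟨U, hηU, e, he⟩ := Mero90.exists_frame' hL (genericPoint X)
  obtain ⟨c, hc⟩ := Amp73.exists_coord (Var76.Frames.ofSection L t) he
  rw [Var76.Frames.val_ofSection] at hc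
  have hc0 : c ≠ 0 := by
    intro h0
    refine ht (Crv77.eq_zero_of_res_eq_zero hL (le_top (a := U)) ⟨_, hηU⟩ t ?_)
    refine Eq.trans ?_ (zero_smul Γ(X, U) e)
    rw [← h0]
    exact hc.symm
  have hη : genericPoint X ∈ X.basicOpen c := by
    refine ((genericPoint_spec X).mem_open_set_iff (X.basicOpen c).2).2 ?_
    rw [Set.univ_inter]
    refine Set.nonempty_iff_ne_empty.2 fun h => hc0 ((basicOpen_eq_bot_iff c).1 ?_)
    exact SetLike.coe_injective h
  rw [← Amp73.genLocus_inf_eq_basicOpen (Var76.Frames.ofSection L t) he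
    (hc.trans (Var76.Frames.val_ofSection L t U).symm)] at hη
  exact hη.1

variable [IsProper (X ↘ Spec (CommRingCat.of k))]

include k in
theorem exists_closed_gen {L : X.Modules} (hL : PicF.IsInvertible L)
    (hs : Nontrivial (Coh.HH X L 0)) :
    ∃ (x : X) (_ : IsClosed ({x} : Set X)) (t : Γ(L, ⊤)),
      x ∈ CohB1.genLocus L (Var76.Frames.ofSection L t) := by
  obtain ⟨v, hv⟩ := exists_ne (0 : Coh.HH X L 0)
  have hsec : Crv77.sec L v ≠ 0 := fun h => hv ((Crv77.sec L).injective (h.trans (map_zero _).symm))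
  have : JacobsonSpace X :=
    LocallyOfFiniteType.jacobsonSpace (X ↘ Spec (CommRingCat.of k))
  obtain ⟨x, hx1, hx2⟩ := nonempty_inter_closedPoints
    ⟨_, genericPoint_mem_genLocus hL hsec⟩ (CohB1.genLocus L _).2.isLocallyClosed
  exact ⟨x, hx2, _, hx1⟩

variable [IsAlgClosed k] [Smooth (X ↘ Spec (CommRingCat.of k))]

/-- Removing a suitable point drops the number of sections by exactly one. -/
theorem exists_point_h0_drop (hdim : topologicalKrullDim X = 1) {L : X.Modules}
    (hL : PicF.IsInvertible L) {n : ℕ} (hn : Module.finrank k (Coh.HH X L 0) = n + 1) :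
    ∃ L' : X.Modules, PicF.IsInvertible L' ∧
      Curv2.deg k X L' 1 = Curv2.deg k X L 1 - 1 ∧ Module.finrank k (Coh.HH X L' 0) = n := by
  have : IsNoetherian X := Crv77.isNoetherian_of_proper k X
  have hC := Crv77.curveCoh_of_proper k X hdim.le
  have : Nontrivial (Coh.HH X L 0) := Module.nontrivial_of_finrank_eq_succ hn
  obtain ⟨x, hx, t, ht⟩ := exists_closed_gen (k := k) hL this
  refine ⟨CohB1.tensorMod (ClSub.idealMod (Crv77.ptIdeal hx)) L,
    EGA73.isInvertible_tensorMod (isInvertible_ptIdeal_of_smooth (k := k) hdim hx) hL,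
    deg_ptIdeal_tensor k hdim.le hx hL, ?_⟩
  have h1 := (hC.exists_gen_iff_h0_lt hx hL).1 ⟨t, ht⟩
  have h2 := hC.h0_le_add_point hx hL
  rw [Crv77.finrank_quot_point k hx, Crv77.finrank_residueField_eq_one k hx] at h2
  omega

/-- A module of positive degree with a single section vanishes somewhere. -/
theorem exists_point_h0_eq (hdim : topologicalKrullDim X = 1) {L : X.Modules}
    (hL : PicF.IsInvertible L) (hn : Module.finrank k (Coh.HH X L 0) = 1)
    (hdeg : 0 < Curv2.deg k X L 1) :
    ∃ L' : X.Modules, PicF.IsInvertible L' ∧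
      Curv2.deg k X L' 1 = Curv2.deg k X L 1 - 1 ∧ Module.finrank k (Coh.HH X L' 0) = 1 := by
  have : IsNoetherian X := Crv77.isNoetherian_of_proper k X
  have hC := Crv77.curveCoh_of_proper k X hdim.le
  obtain ⟨v₀, hv₀, hspan⟩ := finrank_eq_one_iff'.1 hn
  by_cases hex : ∃ (x : X) (hx : IsClosed ({x} : Set X)),
      x ∉ CohB1.genLocus L (Var76.Frames.ofSection L (Crv77.sec L v₀))
  · obtain ⟨x, hx, hxn⟩ := hex
    refine ⟨CohB1.tensorMod (ClSub.idealMod (Crv77.ptIdeal hx)) L,
      EGA73.isInvertible_tensorMod (isInvertible_ptIdeal_of_smooth (k := k) hdim hx) hL,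
      deg_ptIdeal_tensor k hdim.le hx hL, ?_⟩
    have hno : ¬ ∃ t : Γ(L, ⊤), x ∈ CohB1.genLocus L (Var76.Frames.ofSection L t) := by
      rintro ⟨t, ht⟩
      obtain ⟨a, ha⟩ := hspan ((Crv77.sec L).symm t)
      have h0 := (Crv77.CurveCoh.valueAt_hmap_eq_zero (k := k) hx hL v₀).2 hxn
      refine (Crv77.CurveCoh.valueAt_hmap_eq_zero (k := k) hx hL ((Crv77.sec L).symm t)).1 ?_
        (by rwa [AddEquiv.apply_symm_apply])
      rw [← ha, map_smul, h0, smul_zero]
    have h1 := mt (hC.exists_gen_iff_h0_lt hx hL).2 hno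
    have h2 : Module.finrank k (Coh.HH X (CohB1.tensorMod (ClSub.idealMod (Crv77.ptIdeal hx)) L) 0)
        ≤ Module.finrank k (Coh.HH X L 0) := by
      obtain ⟨j, hj, -⟩ := Crv77.exists_point_seq (k := k) (Crv77.ptIdeal hx) hL
      have := hC.finite _ (Crv77.isCoh_of_isInvertible hL) 0
      exact LinearMap.finrank_le_finrank_of_injective hj
    omega
  · push Not at hex
    exfalso
    have htop : CohB1.genLocus L (Var76.Frames.ofSection L (Crv77.sec L v₀)) = ⊤ := by
      refine eq_top_iff.2 fun y _ => ?_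
      obtain ⟨z, hz, hyz⟩ := Crv77.exists_isClosed_specializes y
      exact hyz.mem_open (CohB1.genLocus L _).2 (hex z hz)
    have hf := (Amp73.isFrame_iff_le_genLocus (Var76.Frames.ofSection L (Crv77.sec L v₀)) ⊤).2
      htop.ge
    rw [Var76.Frames.val_ofSection] at hf
    have := Crv77.isIso_unitHom_of_isFrame hf
    have hd := deg_congr k (asIso (EGA73.unitHom L (Var76.LineBundle.res L le_top (Crv77.sec L v₀))))
    rw [deg_structureModule] at hd
    omega

/-- Invertible modules of every natural degree exist. -/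
theorem exists_invertible_deg (hdim : topologicalKrullDim X = 1) (n : ℕ) :
    ∃ L : X.Modules, PicF.IsInvertible L ∧ Curv2.deg k X L 1 = n := by
  induction n with
  | zero => exact ⟨Coh.structureModule X, EGA73.isInvertible_structureModule,
      by rw [deg_structureModule]; rfl⟩
  | succ n ih =>
    obtain ⟨L, hL, hd⟩ := ih
    have : JacobsonSpace X :=
      LocallyOfFiniteType.jacobsonSpace (X ↘ Spec (CommRingCat.of k))
    obtain ⟨P, -, hP⟩ := nonempty_inter_closedPoints (Set.univ_nonempty (α := X))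
      isClosed_univ.isLocallyClosed
    obtain ⟨M, hM, e⟩ := exists_ptInverse (k := k) hdim hP
    refine ⟨CohB1.tensorMod L M, EGA73.isInvertible_tensorMod hL hM, ?_⟩
    obtain ⟨e'⟩ := nonempty_untwist (L := L) e
    have h1 := deg_ptIdeal_tensor k hdim.le hP (EGA73.isInvertible_tensorMod hL hM)
    rw [deg_congr k e', hd] at h1
    push_cast
    omega

end Groth.Agent.Curves2
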