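import Mathlib.RingTheory.MvPolynomial.Homogeneous
import Mathlib.RingTheory.MvPolynomial.EulerIdentity
import Mathlib.RingTheory.Nullstellensatz
import Mathlib.RingTheory.Polynomial.UniqueFactorization
import Mathlib.Algebra.MvPolynomial.PDeriv
import Mathlib.Algebra.MvPolynomial.NoZeroDivisors
import Mathlib.Algebra.Polynomial.Derivative
import Mathlib.Algebra.Squarefree.Basic
import Mathlib.FieldTheory.IsAlgClosed.Basic
import Mathlib.LinearAlgebra.CrossProduct
import Mathlib.LinearAlgebra.Dual.Lemmas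
import Mathlib.LinearAlgebra.FiniteDimensional.Lemmas
import Mathlib.Tactic
import Groth.Agent.Curves2.BinaryForms

/-! Singular points of plane forms. -/

universe u

namespace Groth.Agent.Curves2.PlaneForms

open MvPolynomial

variable {k : Type u} [Field k]

/-- `v` is a zero of `f` at which all partial derivatives vanish -/
def Sing (f : MvPolynomial (Fin 3) k) (v : Fin 3 → k) : Prop :=
  eval v f = 0 ∧ ∀ i, eval v (pderiv i f) = 0

theorem derivative_aeval {σ : Type*} [Fintype σ] (f : MvPolynomial σ k) (c : σ → Polynomial k) :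
    Polynomial.derivative (aeval c f) = ∑ i, aeval c (pderiv i f) * Polynomial.derivative (c i) := by
  classical
  induction f using MvPolynomial.induction_on with
  | C a => simp
  | add p q hp hq => simp [map_add, hp, hq, add_mul, Finset.sum_add_distrib]
  | mul_X p j hp =>
    rw [map_mul, Polynomial.derivative_mul, hp, aeval_X, Finset.sum_mul]
    have e : ∀ i, aeval c (pderiv i (p * X j)) * Polynomial.derivative (c i) =
        aeval c (pderiv i p) * Polynomial.derivative (c i) * c j +
          aeval c p * (if i = j then Polynomial.derivative (c i) else 0) := by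
      intro i
      rw [pderiv_mul, pderiv_X, map_add, map_mul, map_mul, aeval_X, Pi.single_apply]
      split_ifs with h h' h'
      · rw [map_one]; ring
      · exact absurd h.symm h'
      · exact absurd h'.symm h
      · rw [map_zero]; ring
    rw [Finset.sum_congr rfl fun i _ => e i, Finset.sum_add_distrib, ← Finset.mul_sum, Finset.sum_ite_eq']
    simp

theorem natDegree_aeval_le {σ : Type*} (f : MvPolynomial σ k) (c : σ → Polynomial k) {d e : ℕ}
    (hf : f.IsHomogeneous d) (hc : ∀ i, (c i).natDegree ≤ e) : (aeval c f).natDegree ≤ d * e := by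
  rw [aeval_def, eval₂_eq]
  refine Polynomial.natDegree_sum_le_of_forall_le _ _ fun m hm => ?_
  have hd : ∑ i ∈ m.support, m i = d := (hf.degree_eq_sum_deg_support hm).symm
  refine (Polynomial.natDegree_mul_le).trans ?_
  rw [Polynomial.algebraMap_eq, Polynomial.natDegree_C, zero_add]
  refine (Polynomial.natDegree_prod_le _ _).trans ?_
  calc ∑ i ∈ m.support, (c i ^ m i).natDegree ≤ ∑ i ∈ m.support, m i * e :=
        Finset.sum_le_sum fun i _ => Polynomial.natDegree_pow_le.trans (Nat.mul_le_mul_left _ (hc i))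
    _ = d * e := by rw [← Finset.sum_mul, hd]

theorem eval_aeval {σ : Type*} (f : MvPolynomial σ k) (c : σ → Polynomial k) (t : k) :
    (aeval c f).eval t = eval (fun i => (c i).eval t) f := by
  induction f using MvPolynomial.induction_on with
  | C a => simp
  | add p q hp hq => simp [hp, hq]
  | mul_X p j hp => simp [hp]

theorem eval_eq_zero_of_smul {σ : Type*} {f : MvPolynomial σ k} {d : ℕ} (hf : f.IsHomogeneous d)
    {v : σ → k} {r : k} (hr : r ≠ 0) (h : eval (r • v) f = 0) : eval v f = 0 := by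
  have := eval_smul_of_isHomogeneous hf r v
  rw [show (fun i => r * v i) = r • v from rfl, h] at this
  exact (mul_eq_zero.mp this.symm).resolve_left (pow_ne_zero d hr)

theorem eval_smul_eq_zero {σ : Type*} {f : MvPolynomial σ k} {d : ℕ} (hf : f.IsHomogeneous d)
    {v : σ → k} (r : k) (h : eval v f = 0) : eval (r • v) f = 0 := by
  show eval (fun i => r * v i) f = 0
  rw [eval_smul_of_isHomogeneous hf r v, h, mul_zero]

theorem sing_smul {f : MvPolynomial (Fin 3) k} {d : ℕ} (hf : f.IsHomogeneous d) {v : Fin 3 → k} (r : k)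
    (h : Sing f v) : Sing f (r • v) :=
  ⟨eval_smul_eq_zero hf r h.1, fun i => eval_smul_eq_zero (hf.pderiv) r (h.2 i)⟩

/-- many (double) zeros on a parametrised curve -/
theorem eval_param_eq_zero {f : MvPolynomial (Fin 3) k} {d e : ℕ} (hf : f.IsHomogeneous d)
    (c : Fin 3 → Polynomial k) (hc : ∀ i, (c i).natDegree ≤ e) (s : Finset k) (m : ℕ) (hm : m ≤ 2)
    (h1 : ∀ t ∈ s, eval (fun i => (c i).eval t) f = 0)
    (h2 : m = 2 → ∀ t ∈ s, ∀ i, eval (fun j => (c j).eval t) (pderiv i f) = 0)
    (hcard : d * e < m * s.card) (t : k) : eval (fun i => (c i).eval t) f = 0 := by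
  classical
  suffices h : aeval c f = 0 by rw [← eval_aeval, h, Polynomial.eval_zero]
  by_contra hP
  have hmult : ∀ r ∈ s, m ≤ (aeval c f).roots.count r := by
    intro r hr
    rw [Polynomial.count_roots]
    have hroot : (aeval c f).IsRoot r := (eval_aeval f c r).trans (h1 r hr)
    interval_cases m
    · exact Nat.zero_le _
    · exact (Polynomial.rootMultiplicity_pos hP).mpr hroot
    · refine (Polynomial.one_lt_rootMultiplicity_iff_isRoot hP).mpr ⟨hroot, ?_⟩
      rw [Polynomial.IsRoot, derivative_aeval, Polynomial.eval_finset_sum]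
      refine Finset.sum_eq_zero fun i _ => ?_
      rw [Polynomial.eval_mul, eval_aeval, h2 rfl r hr i, zero_mul]
  have : m * s.card ≤ d * e :=
    calc m * s.card = ∑ r ∈ s, m := by rw [Finset.sum_const, smul_eq_mul, mul_comm]
      _ ≤ ∑ r ∈ s, (aeval c f).roots.count r := Finset.sum_le_sum hmult
      _ ≤ (aeval c f).roots.card := by
        calc ∑ r ∈ s, (aeval c f).roots.count r
            ≤ ∑ r ∈ s ∪ (aeval c f).roots.toFinset, (aeval c f).roots.count r :=
              Finset.sum_le_sum_of_subset Finset.subset_union_left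
          _ = ∑ r ∈ (aeval c f).roots.toFinset, (aeval c f).roots.count r :=
              (Finset.sum_subset Finset.subset_union_right fun x _ hx => by
                rw [Multiset.count_eq_zero]; simpa using hx).symm
          _ = _ := Multiset.toFinset_sum_count_eq _
      _ ≤ (aeval c f).natDegree := Polynomial.card_roots' _
      _ ≤ d * e := natDegree_aeval_le f c hf hc
  omega

/-- linear forms -/
noncomputable def lin (n : Fin 3 → k) : MvPolynomial (Fin 3) k := ∑ i, C (n i) * X i

@[simp] theorem eval_lin (n v : Fin 3 → k) : eval v (lin n) = n ⬝ᵥ v := by simp [lin, dotProduct]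

theorem lin_isHomogeneous (n : Fin 3 → k) : (lin n).IsHomogeneous 1 :=
  IsHomogeneous.sum _ _ _ fun i _ => isHomogeneous_C_mul_X _ _

theorem pderiv_lin (n : Fin 3 → k) (i : Fin 3) : pderiv i (lin n) = C (n i) := by
  classical
  simp [lin, Pi.single_apply]

theorem lin_eq_zero_iff {n : Fin 3 → k} : lin n = 0 ↔ n = 0 := by
  refine ⟨fun h => funext fun i => ?_, fun h => by simp [h, lin]⟩
  simpa [h] using (congrArg (constantCoeff) (pderiv_lin n i)).symm

theorem irreducible_lin {n : Fin 3 → k} (hn : n ≠ 0) : Irreducible (lin n) := by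
  have hL0 : lin n ≠ 0 := fun h => hn (lin_eq_zero_iff.mp h)
  have hcu : ∀ p : MvPolynomial (Fin 3) k, p ≠ 0 → p.totalDegree = 0 → IsUnit p := by
    intro p hp hd
    rw [totalDegree_eq_zero_iff_eq_C.mp hd] at hp ⊢
    exact (IsUnit.mk0 _ fun e => hp (by rw [e, map_zero])).map C
  have hd := (lin_isHomogeneous n).totalDegree hL0
  refine ⟨fun hu => ?_, fun p q hpq => ?_⟩
  · have h := (hu.map (eval (0 : Fin 3 → k))).ne_zero
    rw [eval_lin, dotProduct_zero] at h
    exact h rfl
  · rw [hpq] at hd hL0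
    rw [totalDegree_mul_of_isDomain (left_ne_zero_of_mul hL0) (right_ne_zero_of_mul hL0)] at hd
    rcases (show p.totalDegree = 0 ∨ q.totalDegree = 0 by omega) with h | h
    · exact .inl (hcu p (left_ne_zero_of_mul hL0) h)
    · exact .inr (hcu q (right_ne_zero_of_mul hL0) h)

theorem dvd_of_vanishing [IsAlgClosed k] {q f : MvPolynomial (Fin 3) k} (hq : Irreducible q)
    (h : ∀ v, eval v q = 0 → eval v f = 0) : q ∣ f := by
  have hmem : f ∈ vanishingIdeal k (zeroLocus k (Ideal.span {q})) := by
    rw [mem_vanishingIdeal_iff]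
    intro x hx
    have hx' : aeval x q = 0 := hx q (Ideal.mem_span_singleton_self q)
    rw [aeval_eq_eval] at hx' ⊢
    exact h x hx'
  rw [vanishingIdeal_zeroLocus_eq_radical] at hmem
  obtain ⟨N, hN⟩ := hmem
  exact hq.prime.dvd_of_dvd_pow (Ideal.mem_span_singleton.mp hN)

theorem exists_homogeneous_factor {q f : MvPolynomial (Fin 3) k} {a b : ℕ} (hq : q.IsHomogeneous a)
    (hf : f.IsHomogeneous (a + b)) (h : q ∣ f) : ∃ g, g.IsHomogeneous b ∧ f = q * g := by
  obtain ⟨g, hg⟩ := h
  refine ⟨homogeneousComponent b g, homogeneousComponent_isHomogeneous b g, ?_⟩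
  rw [← homogeneousComponent_mul_left hq, ← hg, homogeneousComponent_of_mem hf, if_pos rfl]

theorem squarefree_factor {q g f : MvPolynomial (Fin 3) k} (hq : Irreducible q) (hf : Squarefree f)
    (he : f = q * g) : Squarefree g ∧ ¬ q ∣ g := by
  refine ⟨hf.squarefree_of_dvd (he ▸ dvd_mul_left g q), fun ⟨r, hr⟩ => ?_⟩
  exact hq.not_isUnit (hf q ⟨r, by rw [he, hr, mul_assoc]⟩)

theorem sing_of_mul_off {q g : MvPolynomial (Fin 3) k} {v : Fin 3 → k} (h : Sing (q * g) v)
    (hv : eval v q ≠ 0) : Sing g v := by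
  have hg : eval v g = 0 := (mul_eq_zero.mp ((map_mul _ _ _).symm.trans h.1)).resolve_left hv
  refine ⟨hg, fun i => ?_⟩
  have := h.2 i
  rw [pderiv_mul, map_add, map_mul, map_mul, hg, mul_zero, zero_add] at this
  exact (mul_eq_zero.mp this).resolve_left hv

theorem eval_eq_zero_of_mul_on {q g : MvPolynomial (Fin 3) k} {v : Fin 3 → k} (h : Sing (q * g) v)
    (hv : eval v q = 0) (hd : ∃ i, eval v (pderiv i q) ≠ 0) : eval v g = 0 := by
  obtain ⟨i, hi⟩ := hd
  have := h.2 i
  rw [pderiv_mul, map_add, map_mul, map_mul, hv, zero_mul, add_zero] at this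
  exact (mul_eq_zero.mp this).resolve_left hi

theorem sing_of_mul_line {n : Fin 3 → k} (hn : n ≠ 0) {g : MvPolynomial (Fin 3) k} {v : Fin 3 → k}
    (h : Sing (lin n * g) v) (hv : n ⬝ᵥ v = 0) : eval v g = 0 := by
  refine eval_eq_zero_of_mul_on h (by simpa using hv) ?_
  obtain ⟨i, hi⟩ := Function.ne_iff.mp hn
  exact ⟨i, by rw [pderiv_lin, eval_C]; exact hi⟩

/-- a family of representatives of distinct projective points -/
def Distinct {r : ℕ} (p : Fin r → Fin 3 → k) : Prop := ∀ i j, i ≠ j → LinearIndependent k ![p i, p j]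

theorem Distinct.comp {r s : ℕ} {p : Fin r → Fin 3 → k} (hp : Distinct p) {ι : Fin s → Fin r}
    (hι : Function.Injective ι) : Distinct (p ∘ ι) := fun i j hij => hp _ _ (fun e => hij (hι e))

theorem Distinct.ne_zero {r : ℕ} {p : Fin r → Fin 3 → k} (hp : Distinct p) (hr : 2 ≤ r) (i : Fin r) :
    p i ≠ 0 := by
  have : Nontrivial (Fin r) := Fin.nontrivial_iff_two_le.mpr hr
  obtain ⟨j, hj⟩ := exists_ne i
  exact (hp i j (Ne.symm hj)).ne_zero 0

theorem exists_normal (v w : Fin 3 → k) : ∃ n : Fin 3 → k, n ≠ 0 ∧ n ⬝ᵥ v = 0 ∧ n ⬝ᵥ w = 0 := by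
  let A : (Fin 3 → k) →ₗ[k] (Fin 2 → k) := LinearMap.pi ![
    { toFun := fun n => n ⬝ᵥ v, map_add' := fun a b => add_dotProduct a b v, map_smul' := fun c a => smul_dotProduct c a v },
    { toFun := fun n => n ⬝ᵥ w, map_add' := fun a b => add_dotProduct a b w, map_smul' := fun c a => smul_dotProduct c a w }]
  obtain ⟨n, hn, hn0⟩ := Submodule.exists_mem_ne_zero_of_ne_bot (p := LinearMap.ker A) fun h => by
    have h1 := LinearMap.finrank_range_add_finrank_ker A
    have h2 := Submodule.finrank_le (LinearMap.range A)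
    rw [h, finrank_bot] at h1
    simp at h1 h2
    omega
  exact ⟨n, hn0, congrFun (LinearMap.mem_ker.mp hn) 0, congrFun (LinearMap.mem_ker.mp hn) 1⟩

/-- a form with too many (double) zeros on a line contains the line -/
theorem lin_dvd [IsAlgClosed k] {f : MvPolynomial (Fin 3) k} {d : ℕ} (hf : f.IsHomogeneous d)
    {n : Fin 3 → k} (hn : n ≠ 0) {r : ℕ} (p : Fin r → Fin 3 → k) (hp : Distinct p) (hr : 2 ≤ r)
    (hon : ∀ i, n ⬝ᵥ p i = 0) (m : ℕ) (hm : m ≤ 2) (h1 : ∀ i, eval (p i) f = 0)
    (h2 : m = 2 → ∀ i, Sing f (p i)) (hcard : d < m * r) : lin n ∣ f := by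
  classical
  let i0 : Fin r := ⟨0, by omega⟩
  let i1 : Fin r := ⟨1, by omega⟩
  have h01 : i0 ≠ i1 := fun e => by simpa [i0, i1] using congrArg Fin.val e
  let K : Submodule k (Fin 3 → k) := LinearMap.ker
    ({ toFun := fun v => n ⬝ᵥ v, map_add' := dotProduct_add n, map_smul' := fun c v => dotProduct_smul c n v } : (Fin 3 → k) →ₗ[k] k)
  have hK : K = Submodule.span k (Set.range ![p i0, p i1]) := by
    refine (Submodule.eq_of_le_of_finrank_le ?_ ?_).symm
    · rw [Submodule.span_le]
      rintro _ ⟨j, rfl⟩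
      fin_cases j <;> exact hon _
    · rw [finrank_span_eq_card (hp i0 i1 h01)]
      simp only [Fintype.card_fin]
      let φ : (Fin 3 → k) →ₗ[k] k := { toFun := fun v => n ⬝ᵥ v, map_add' := dotProduct_add n, map_smul' := fun c v => dotProduct_smul c n v }
      have hφ : φ ≠ 0 := fun h => hn (funext fun i => by simpa [φ] using LinearMap.congr_fun h (Pi.single i 1))
      have h1 := LinearMap.finrank_range_add_finrank_ker φ
      have h3 : 0 < Module.finrank k (LinearMap.range φ) := by
        rw [Nat.pos_iff_ne_zero, Ne, Submodule.finrank_eq_zero, LinearMap.range_eq_bot]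
        exact hφ
      rw [Module.finrank_fin_fun] at h1
      show Module.finrank k (LinearMap.ker φ) ≤ 2
      omega
  have hcoord : ∀ v, n ⬝ᵥ v = 0 → ∃ x y : k, v = x • p i0 + y • p i1 := by
    intro v hv
    have : v ∈ K := hv
    rw [hK, Matrix.range_cons, Matrix.range_cons, Matrix.range_empty, Set.union_empty, Set.singleton_union,
      Submodule.mem_span_pair] at this
    obtain ⟨x, y, hxy⟩ := this
    exact ⟨x, y, hxy.symm⟩
  choose x y hxy using fun i => hcoord (p i) (hon i)
  refine dvd_of_vanishing (irreducible_lin hn) fun v hv => ?_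
  obtain ⟨s, t, rfl⟩ := hcoord v (by simpa using hv)
  -- move the point at infinity away from the points and from `v`
  obtain ⟨γ, hγ⟩ := Infinite.exists_notMem_finset
    (insert (s / t) ((Finset.univ : Finset (Fin r)).image fun i => x i / y i))
  have hne : ∀ i, x i - γ * y i ≠ 0 := fun i h => by
    by_cases hy : y i = 0
    · rw [hy, mul_zero, sub_zero] at h
      exact hp.ne_zero hr i (by rw [hxy i, h, hy]; simp)
    · exact hγ (Finset.mem_insert_of_mem (Finset.mem_image.mpr ⟨i, Finset.mem_univ _, by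
        rw [div_eq_iff hy]; exact sub_eq_zero.mp h⟩))
  let c : Fin 3 → Polynomial k := fun j =>
    (Polynomial.C (p i0 j) * (1 + Polynomial.C γ * Polynomial.X) + Polynomial.C (p i1 j) * Polynomial.X)
  have hc : ∀ T, (fun j => (c j).eval T) = (1 + γ * T) • p i0 + T • p i1 := fun T => by
    funext j; simp [c]; ring
  have hpt : ∀ a b : k, a - γ * b ≠ 0 → a • p i0 + b • p i1 =
      (a - γ * b) • fun j => (c j).eval (b / (a - γ * b)) := by
    intro a b hab
    rw [hc, smul_add, smul_smul, smul_smul, mul_div_cancel₀ _ hab]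
    congr 2
    field_simp
    ring
  let T : Fin r → k := fun i => y i / (x i - γ * y i)
  have hT : Function.Injective T := by
    intro i j hij
    by_contra hne'
    have ei := (hxy i).trans (hpt _ _ (hne i))
    have ej := (hxy j).trans (hpt _ _ (hne j))
    have hli := hp i j hne'
    rw [LinearIndependent.pair_iff] at hli
    have := (hli (x j - γ * y j) (-(x i - γ * y i)) (by
      rw [ei, ej, smul_smul, smul_smul, show y i / (x i - γ * y i) = y j / (x j - γ * y j) from hij,
        neg_mul, neg_smul, mul_comm]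
      exact add_neg_cancel _)).1
    exact hne j this
  have hz : ∀ T₀, eval (fun j => (c j).eval T₀) f = 0 := by
    refine eval_param_eq_zero hf c (e := 1) (fun j => ?_) (Finset.univ.image T) m hm ?_ ?_ ?_
    · refine (Polynomial.natDegree_add_le _ _).trans (max_le ?_ ?_)
      · refine Polynomial.natDegree_C_mul_le _ _ |>.trans ?_
        refine (Polynomial.natDegree_add_le _ _).trans (max_le (by simp) ?_)
        exact (Polynomial.natDegree_C_mul_le _ _).trans Polynomial.natDegree_X_le
      · exact (Polynomial.natDegree_C_mul_le _ _).trans Polynomial.natDegree_X_le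
    · intro t' ht'
      obtain ⟨i, -, rfl⟩ := Finset.mem_image.mp ht'
      have := h1 i
      rw [hxy i, hpt _ _ (hne i)] at this
      exact eval_eq_zero_of_smul hf (hne i) this
    · intro hm2 t' ht' j
      obtain ⟨i, -, rfl⟩ := Finset.mem_image.mp ht'
      have := (h2 hm2 i).2 j
      rw [hxy i, hpt _ _ (hne i)] at this
      exact eval_eq_zero_of_smul hf.pderiv (hne i) this
    · rw [Finset.card_image_of_injective _ hT, Finset.card_univ, Fintype.card_fin, mul_one]
      exact hcard
  by_cases hst : s - γ * t = 0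
  · have ht : t = 0 := by
      by_contra ht
      exact hγ (Finset.mem_insert.mpr (Or.inl (by rw [eq_div_iff ht]; exact (sub_eq_zero.mp hst).symm)))
    rw [ht, mul_zero, sub_zero] at hst
    rw [hst, ht, zero_smul, zero_smul, add_zero, ← zero_smul k (p i0)]
    exact eval_smul_eq_zero hf 0 (h1 i0)
  · rw [hpt _ _ hst]
    exact eval_smul_eq_zero hf _ (hz _)

theorem no_two_sing_conic [IsAlgClosed k] {h : MvPolynomial (Fin 3) k} (hh : h.IsHomogeneous 2)
    (hsq : Squarefree h) (p : Fin 2 → Fin 3 → k) (hp : Distinct p) (hs : ∀ i, Sing h (p i)) : False := by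
  obtain ⟨n, hn, h0, h1⟩ := exists_normal (p 0) (p 1)
  have hon : ∀ i, n ⬝ᵥ p i = 0 := Fin.forall_fin_two.mpr ⟨h0, h1⟩
  obtain ⟨g, hg, e⟩ := exists_homogeneous_factor (b := 1) (lin_isHomogeneous n) hh
    (lin_dvd hh hn p hp le_rfl hon 2 le_rfl (fun i => (hs i).1) (fun _ => hs) (by norm_num))
  obtain ⟨-, hnd⟩ := squarefree_factor (irreducible_lin hn) hsq e
  exact hnd (lin_dvd hg hn p hp le_rfl hon 1 (by norm_num)
    (fun i => sing_of_mul_line hn (e ▸ hs i) (hon i)) (by norm_num) (by norm_num))

theorem exists_sub_family {r : ℕ} (P : Fin r → Prop) [DecidablePred P] (s : ℕ)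
    (h : s ≤ (Finset.univ.filter P).card) : ∃ ι : Fin s → Fin r, Function.Injective ι ∧ ∀ i, P (ι i) := by
  obtain ⟨t, ht, htc⟩ := Finset.exists_subset_card_eq h
  let e := (t.equivFinOfCardEq htc).symm
  exact ⟨fun i => (e i).1, Subtype.val_injective.comp e.injective,
    fun i => (Finset.mem_filter.mp (ht (e i).2)).2⟩

theorem no_four_sing_cubic [IsAlgClosed k] {g : MvPolynomial (Fin 3) k} (hg : g.IsHomogeneous 3)
    (hsq : Squarefree g) (p : Fin 4 → Fin 3 → k) (hp : Distinct p) (hs : ∀ i, Sing g (p i)) : False := by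
  classical
  obtain ⟨n, hn, h0, h1⟩ := exists_normal (p 0) (p 1)
  let ι : Fin 2 → Fin 4 := ![0, 1]
  have hι : Function.Injective ι := by decide
  obtain ⟨h, hh, e⟩ := exists_homogeneous_factor (b := 2) (lin_isHomogeneous n) hg
    (lin_dvd hg hn (p ∘ ι) (hp.comp hι) le_rfl (Fin.forall_fin_two.mpr ⟨h0, h1⟩) 2 le_rfl
      (fun i => (hs _).1) (fun _ i => hs _) (by norm_num))
  obtain ⟨hsq', hnd⟩ := squarefree_factor (irreducible_lin hn) hsq e
  by_cases hc : 3 ≤ (Finset.univ.filter fun i => n ⬝ᵥ p i = 0).card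
  · obtain ⟨κ, hκ, hκ'⟩ := exists_sub_family (fun i => n ⬝ᵥ p i = 0) 3 hc
    exact hnd (lin_dvd hh hn (p ∘ κ) (hp.comp hκ) (by norm_num) hκ' 1 (by norm_num)
      (fun i => sing_of_mul_line hn (e ▸ hs _) (hκ' i)) (by norm_num) (by norm_num))
  · obtain ⟨κ, hκ, hκ'⟩ := exists_sub_family (fun i => ¬ n ⬝ᵥ p i = 0) 2 (by
      have := Finset.card_filter_add_card_filter_not (s := (Finset.univ : Finset (Fin 4))) (fun i => n ⬝ᵥ p i = 0)
      simp only [Finset.card_univ, Fintype.card_fin] at this
      omega)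
    exact no_two_sing_conic hh hsq' (p ∘ κ) (hp.comp hκ)
      (fun i => sing_of_mul_off (e ▸ hs _) (by simpa using hκ' i))

end Groth.Agent.Curves2.PlaneForms
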