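import Groth.Agent.Crv77.PlaneQuartic
import Groth.Agent.Crv77.Hyper
import Groth.Agent.Crv77.PlaneCoh

/-! Smooth plane curves of degree at least five have no pencil of degree two. -/

set_option autoImplicit false
set_option linter.style.haveILetI false
set_option backward.isDefEq.respectTransparency false
set_option maxHeartbeats 1000000
set_option synthInstance.maxHeartbeats 200000
universe u

open CategoryTheory CategoryTheory.Limits AlgebraicGeometry TopologicalSpace Opposite IntermediateField FunFld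
open Groth.Agent.Crv77

noncomputable section

namespace Groth.Agent.Curves2.PlaneGon

open An92.Lef (piece pcoord pconst pform overOf)

variable {k : Type u} [Field k] {d : ℕ}

variable (G : LefPen.Form 2 k d) [((LefPen.hypIdeal G).subscheme).Over (Spec (CommRingCat.of k))]
  [IsIntegral (LefPen.hypIdeal G).subscheme]

omit [((LefPen.hypIdeal G).subscheme).Over (Spec (CommRingCat.of k))] in
theorem exists_pieceZero (hd : 2 ≤ d) (_hG : G ≠ 0) :
    ∃ (_ : Nonempty (piece (LefPen.hypIdeal G).subschemeι (0 : Fin 3)))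
      (φ : MvPolynomial (Fin 2) k →ₐ[k] Γ((LefPen.hypIdeal G).subscheme, piece (LefPen.hypIdeal G).subschemeι (0 : Fin 3))),
      Function.Surjective φ ∧
      RingHom.ker φ.toRingHom =
        Ideal.span {MvPolynomial.aeval ![(1 : MvPolynomial (Fin 2) k), MvPolynomial.X 0, MvPolynomial.X 1] G.1} ∧
      ∀ t, φ (![(1 : MvPolynomial (Fin 2) k), MvPolynomial.X 0, MvPolynomial.X 1] t) =
        pcoord (LefPen.hypIdeal G).subschemeι (0 : Fin 3) t := by
  let ι := (LefPen.hypIdeal G).subschemeι
  let b₀ : Fin 3 → MvPolynomial (Fin 2) k := ![1, MvPolynomial.X 0, MvPolynomial.X 1]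
  let b₁ : Fin 3 → MvPolynomial (Fin 2) k := ![MvPolynomial.X 0, 1, MvPolynomial.X 1]
  obtain ⟨φ₀, hsur₀, hker₀, hφ₀⟩ := exists_pieceHom (m := 2) G 0 ![1, 2] b₀ rfl
    (fun i => by fin_cases i <;> rfl) (fun t => by fin_cases t <;> simp)
  obtain ⟨φ₁, hsur₁, hker₁, hφ₁⟩ := exists_pieceHom (m := 2) G 1 ![0, 2] b₁ rfl
    (fun i => by fin_cases i <;> rfl) (fun t => by fin_cases t <;> simp)
  refine ⟨?_, φ₀, hsur₀, hker₀, hφ₀⟩
  by_contra hne
  have hbot : piece ι (0 : Fin 3) = ⊥ :=
    Opens.ext (Set.eq_empty_of_forall_notMem fun x hx => hne ⟨⟨x, hx⟩⟩)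
  have hsub : Subsingleton Γ((LefPen.hypIdeal G).subscheme, piece ι (0 : Fin 3)) := by
    rw [hbot]; infer_instance
  have hu : IsUnit (MvPolynomial.aeval b₀ G.1) := by
    rw [← Ideal.span_singleton_eq_top, ← hker₀, Ideal.eq_top_iff_one, RingHom.mem_ker]
    exact Subsingleton.elim _ _
  obtain ⟨c, hc, hcg⟩ : ∃ c : k, c ≠ 0 ∧ MvPolynomial.aeval b₀ G.1 = MvPolynomial.C c := by
    obtain ⟨c, hc⟩ : ∃ c : k, MvPolynomial.aeval b₀ G.1 = MvPolynomial.C c :=
      ⟨_, MvPolynomial.totalDegree_eq_zero_iff_eq_C.1 (MvPolynomial.isUnit_iff_totalDegree_of_isReduced.1 hu).2⟩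
    refine ⟨c, fun h0 => hu.ne_zero (by rw [hc, h0, map_zero]), hc⟩
  have hGeq : G.1 = MvPolynomial.C c * MvPolynomial.X 0 ^ d := by
    rw [← sub_eq_zero]
    refine eq_zero_of_dehom_eq_zero (d := d) _ (MvPolynomial.IsHomogeneous.sub
      ((MvPolynomial.mem_homogeneousSubmodule _ _).1 G.2)
      (by simpa using ((MvPolynomial.isHomogeneous_X k (0 : Fin 3)).pow d).C_mul c)) ?_
    rw [map_sub, map_mul, map_pow, MvPolynomial.aeval_C, MvPolynomial.aeval_X, sub_eq_zero]
    exact hcg.trans (by simp [MvPolynomial.algebraMap_eq])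
  have hX : φ₁ (MvPolynomial.X 0) ^ d = 0 := by
    rw [← map_pow]
    show φ₁.toRingHom _ = 0
    rw [← RingHom.mem_ker, hker₁, hGeq, map_mul, map_pow, MvPolynomial.aeval_C, MvPolynomial.aeval_X,
      MvPolynomial.algebraMap_eq, Ideal.span_singleton_mul_left_unit (((isUnit_iff_ne_zero.2 hc)).map MvPolynomial.C)]
    exact Ideal.mem_span_singleton_self _
  have hX0 : φ₁ (MvPolynomial.X 0) = 0 := IsReduced.eq_zero _ ⟨d, hX⟩
  have hmem : MvPolynomial.X 0 ∈ RingHom.ker φ₁.toRingHom := hX0
  rw [hker₁, Ideal.mem_span_singleton'] at hmem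
  obtain ⟨t, ht⟩ := hmem
  have h2 := congrArg (fun f => (MvPolynomial.aeval (R := k) ![(Polynomial.X : Polynomial k), 0] f).coeff 1) ht
  rw [hGeq] at h2
  simp [b₁] at h2
  rw [← mul_assoc, Polynomial.coeff_mul_X_pow'] at h2
  simp at h2
  rw [if_neg (by omega)] at h2
  exact zero_ne_one h2

/-- A plane curve has dimension one. -/
theorem dim_eq_one [LocallyOfFiniteType ((LefPen.hypIdeal G).subscheme ↘ Spec (CommRingCat.of k))]
    (hd : 2 ≤ d) (hG : G ≠ 0) : topologicalKrullDim ↥(LefPen.hypIdeal G).subscheme = 1 := by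
  obtain ⟨hne, φ, hsur, hker, -⟩ := exists_pieceZero G hd hG
  set g : MvPolynomial (Fin 2) k :=
    MvPolynomial.aeval ![(1 : MvPolynomial (Fin 2) k), MvPolynomial.X 0, MvPolynomial.X 1] G.1 with hg
  have hA := An92.Lef.isAffineOpen_piece (LefPen.hypIdeal G).subschemeι (0 : Fin 3)
  rw [Var76.VarDim.dim_eq (k := k), ← WithBot.coe_one]
  have hg0 : g ≠ 0 := fun h0 => hG (Subtype.ext
    (eq_zero_of_dehom_eq_zero _ ((MvPolynomial.mem_homogeneousSubmodule _ _).1 G.2) h0))
  have hprime : (Ideal.span {g}).IsPrime := hker ▸ RingHom.ker_isPrime φ.toRingHom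
  have hnu : ¬ IsUnit g := fun hu => hprime.ne_top (Ideal.span_singleton_eq_top.2 hu)
  have h1 := Ideal.height_span_singleton_eq_one_of_mem_nonZeroDivisors (mem_nonZeroDivisors_of_ne_zero hg0) hnu
  have h2 := E4O.height_add_trdeg_eq k (MvPolynomial (Fin 2) k) (Ideal.span {g})
  rw [MvPolynomial.trdeg_of_isDomain, E4O.trdeg_eq_natCast k (MvPolynomial (Fin 2) k ⧸ Ideal.span {g}), h1,
    Cardinal.mk_fin, Cardinal.lift_natCast] at h2
  have h3 : Cardinal.toNat (Algebra.trdeg k (MvPolynomial (Fin 2) k ⧸ Ideal.span {g})) = 1 := by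
    have h4 : ((1 : ℕ) : Cardinal.{u}) + (Cardinal.toNat (Algebra.trdeg k (MvPolynomial (Fin 2) k ⧸ Ideal.span {g})) : ℕ) =
        ((2 : ℕ) : Cardinal.{u}) := by simpa using h2
    have h5 : 1 + Cardinal.toNat (Algebra.trdeg k (MvPolynomial (Fin 2) k ⧸ Ideal.span {g})) = 2 := by
      exact_mod_cast h4
    omega
  have h6 := E4O.ringKrullDim_eq_trdeg k (MvPolynomial (Fin 2) k ⧸ Ideal.span {g})
  rw [h3] at h6
  have h7 := Var76.VarDim.ringKrullDim_chart (k := k) hA
  rw [← ringKrullDim_eq_of_ringEquiv ((Ideal.quotEquivOfEq hker.symm).trans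
    (RingHom.quotientKerEquivOfSurjective (f := φ.toRingHom) hsur)), h6] at h7
  rw [← h7]
  rfl

attribute [local instance] CrvPic30.ffAlg

theorem germ_algebraMap' (hinst : (LefPen.hypIdeal G).subscheme ↘ Spec (CommRingCat.of k) =
      (LefPen.hypIdeal G).subschemeι ≫ CohB1.ProjSpace.toSpec 2 k)
    (j : Fin 3) (hj : genericPoint (LefPen.hypIdeal G).subscheme ∈ piece (LefPen.hypIdeal G).subschemeι j) (r : k) :
    (LefPen.hypIdeal G).subscheme.presheaf.germ _ (genericPoint (LefPen.hypIdeal G).subscheme) hj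
        (algebraMap k Γ((LefPen.hypIdeal G).subscheme, piece (LefPen.hypIdeal G).subschemeι j) r) =
      algebraMap k (LefPen.hypIdeal G).subscheme.functionField r := by
  have h1 : algebraMap k Γ((LefPen.hypIdeal G).subscheme, piece (LefPen.hypIdeal G).subschemeι j) r =
      Var76.BertiniScheme.const (k := k) (LefPen.hypIdeal G).subscheme (piece (LefPen.hypIdeal G).subschemeι j) r := by
    show (Scheme.Hom.appLE ((LefPen.hypIdeal G).subschemeι ≫ CohB1.ProjSpace.toSpec 2 k) ⊤ _ le_top).hom
      ((Scheme.ΓSpecIso (CommRingCat.of k)).inv r) = (Scheme.Hom.appLE _ ⊤ _ le_top).hom _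
    rw [hinst]
    rfl
  rw [h1, Var76.VarDim.germ_const]
  show (LefPen.hypIdeal G).subscheme.presheaf.germ ⊤ _ trivial (Var76.BertiniScheme.const (k := k) _ ⊤ r) =
    Cyc90.kStalk _ _ r
  rw [CrvPic30.kStalk_eq_stalkMap]
  simp only [Var76.BertiniScheme.const, Coh.toGlobal, Scheme.Hom.appTop, Scheme.Hom.app_eq_appLE]
  rfl

/-- Generators of the function field satisfying the equation. -/
theorem exists_relation (hinst : (LefPen.hypIdeal G).subscheme ↘ Spec (CommRingCat.of k) =
      (LefPen.hypIdeal G).subschemeι ≫ CohB1.ProjSpace.toSpec 2 k) (hd : 2 ≤ d) (hG : G ≠ 0) :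
    ∃ x y : (LefPen.hypIdeal G).subscheme.functionField,
      IntermediateField.adjoin k ({x, y} : Set (LefPen.hypIdeal G).subscheme.functionField) = ⊤ ∧
      MvPolynomial.aeval ![(1 : (LefPen.hypIdeal G).subscheme.functionField), x, y] G.1 = 0 := by
  classical
  let C := (LefPen.hypIdeal G).subscheme
  let ι := (LefPen.hypIdeal G).subschemeι
  let K := C.functionField
  obtain ⟨hne₀, φ₀, hsur₀, hker₀, hφ₀⟩ := exists_pieceZero G hd hG
  set P₀' : C.Opens := piece ι (0 : Fin 3) with hP₀'
  have hη₀ : genericPoint C ∈ P₀' := ((genericPoint_spec C).mem_open_set_iff P₀'.2).2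
    ⟨hne₀.some.1, Set.mem_univ _, hne₀.some.2⟩
  let γ₀ : MvPolynomial (Fin 2) k →ₐ[k] K :=
    { (C.presheaf.germ P₀' (genericPoint C) hη₀).hom.comp φ₀.toRingHom with
      commutes' := fun r => by
        show C.presheaf.germ P₀' (genericPoint C) hη₀ (φ₀ (algebraMap k _ r)) = _
        rw [φ₀.commutes]
        exact germ_algebraMap' G hinst 0 hη₀ r }
  set x : K := γ₀ (MvPolynomial.X 0) with hx_def
  set y : K := γ₀ (MvPolynomial.X 1) with hy_def
  have hγ₀ : γ₀ = MvPolynomial.aeval ![x, y] := MvPolynomial.algHom_ext fun i => by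
    rw [MvPolynomial.aeval_X]; fin_cases i <;> rfl
  have hrel : MvPolynomial.aeval ![(1 : K), x, y] G.1 = 0 := by
    have h1 : φ₀ (MvPolynomial.aeval ![(1 : MvPolynomial (Fin 2) k), MvPolynomial.X 0, MvPolynomial.X 1] G.1) = 0 := by
      show φ₀.toRingHom _ = 0
      rw [← RingHom.mem_ker, hker₀]
      exact Ideal.mem_span_singleton_self _
    have h2 : γ₀.comp (MvPolynomial.aeval ![(1 : MvPolynomial (Fin 2) k), MvPolynomial.X 0, MvPolynomial.X 1]) =
        MvPolynomial.aeval ![(1 : K), x, y] := MvPolynomial.algHom_ext fun i => by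
      rw [AlgHom.comp_apply, MvPolynomial.aeval_X, MvPolynomial.aeval_X]
      fin_cases i
      · exact map_one γ₀
      · rfl
      · rfl
    rw [← h2]
    show C.presheaf.germ P₀' (genericPoint C) hη₀ (φ₀ _) = 0
    exact (congrArg (C.presheaf.germ P₀' (genericPoint C) hη₀) h1).trans (map_zero _)
  have hA₀ : IsAffineOpen P₀' := An92.Lef.isAffineOpen_piece ι 0
  have hxy : IntermediateField.adjoin k ({x, y} : Set K) = ⊤ := by
    rw [eq_top_iff]
    intro z _
    have : Nonempty P₀' := hne₀
    have := functionField_isFractionRing_of_isAffineOpen C P₀' hA₀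
    obtain ⟨a, b, -, rfl⟩ := IsFractionRing.div_surjective (A := Γ(C, P₀')) z
    have hmem : ∀ a : Γ(C, P₀'), C.presheaf.germ P₀' (genericPoint C) hη₀ a ∈
        IntermediateField.adjoin k ({x, y} : Set K) := by
      intro a
      obtain ⟨p, rfl⟩ := hsur₀ a
      show γ₀ p ∈ _
      rw [hγ₀]
      induction p using MvPolynomial.induction_on with
      | C r => rw [MvPolynomial.aeval_C]; exact IntermediateField.algebraMap_mem _ _
      | add p q hp hq => rw [map_add]; exact add_mem hp hq
      | mul_X p i hp =>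
        rw [map_mul, MvPolynomial.aeval_X]
        refine mul_mem hp ?_
        fin_cases i
        · exact IntermediateField.subset_adjoin k _ (Or.inl rfl)
        · exact IntermediateField.subset_adjoin k _ (Or.inr rfl)
    exact div_mem (hmem a) (hmem b)
  exact ⟨x, y, hxy, hrel⟩

section Field

variable {K : Type u} [Field K] [Algebra k K]

/-- Castelnuovo's inequality for a rational quadratic subfield. -/
theorem genus_lt_finrank (hK : IsFunctionField k K) {z x : K} (hz : Module.finrank k⟮z⟯ K = 2)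
    (hzt : Transcendental k z) (hx : Transcendental k x) (hxz : x ∉ k⟮z⟯) :
    genus k K < Module.finrank k⟮x⟯ K := by
  classical
  have hF : FF30.FF k K := hK.1
  set g := genus k K
  set n := Module.finrank k⟮x⟯ K
  let D : Divisor k K := g • (FF30.poleDiv z : Divisor k K) + FF30.poleDiv x
  have hDd : D.deg = 2 * g + n := by
    simp only [D, FF30.deg_add, FF30.deg_nsmul, hF.deg_poleDiv hzt, hF.deg_poleDiv hx, hz]
    push_cast; ring
  have hl := FF30.ell_eq_of_deg_gt hK (D := D) (by rw [hDd]; omega)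
  rw [hDd] at hl
  have hx0 : x ≠ 0 := fun h0 => hx (h0 ▸ isAlgebraic_zero)
  have hmem : ∀ (i : Fin (g + 1)), z ^ (i : ℕ) ∈ L D ∧ z ^ (i : ℕ) * x ∈ L D := by
    intro i
    have key : ∀ P : Place k K, P.1 (z ^ (i : ℕ)) ≤ WithZero.exp ((g : ℤ) * (FF30.poleDiv z : Divisor k K) P) := by
      intro P
      rw [hF.poleDiv_apply, FF30.val_le_exp_iff P (pow_ne_zero _ fun h0 : z = 0 => hzt (h0 ▸ isAlgebraic_zero)),
        FF30.ord_pow]
      have hi : ((i : ℕ) : ℤ) ≤ g := by exact_mod_cast Nat.le_of_lt_succ i.2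
      rcases le_total 0 (P.ord z) with h | h
      · rw [max_eq_right (by omega)]; nlinarith
      · rw [max_eq_left (by omega)]; nlinarith
    have hD : ∀ P, D P = (g : ℤ) * (FF30.poleDiv z : Divisor k K) P + max (-P.ord x) 0 := fun P => by
      rw [← hF.poleDiv_apply (x := x) P]
      simp [D]
    refine ⟨fun P => (key P).trans (WithZero.exp_le_exp.2 ?_), fun P => ?_⟩
    · rw [hD]; omega
    · rw [map_mul, hD, WithZero.exp_add]
      refine mul_le_mul' (key P) ?_
      rw [FF30.val_le_exp_iff P hx0]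
      omega
  let v : Fin (g + 1) ⊕ Fin (g + 1) → L D :=
    Sum.elim (fun i => ⟨_, (hmem i).1⟩) fun i => ⟨_, (hmem i).2⟩
  have hv : LinearIndependent k v := by
    refine LinearIndependent.of_comp (L D).subtype (Fintype.linearIndependent_iff.2 fun c hc => ?_)
    let p : Polynomial k := ∑ i : Fin (g + 1), Polynomial.monomial (i : ℕ) (c (Sum.inl i))
    let q : Polynomial k := ∑ i : Fin (g + 1), Polynomial.monomial (i : ℕ) (c (Sum.inr i))
    have he : Polynomial.aeval z p + Polynomial.aeval z q * x = 0 := by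
      rw [← hc, Fintype.sum_sum_type]
      simp [p, q, v, map_sum, Polynomial.aeval_monomial, Algebra.smul_def, Finset.sum_mul, mul_assoc]
    have hq : q = 0 := by
      by_contra hq
      have hqz : Polynomial.aeval z q ≠ 0 := fun h0 => hzt ⟨q, hq, h0⟩
      refine hxz ?_
      rw [show x = -Polynomial.aeval z p / Polynomial.aeval z q by
        rw [eq_div_iff hqz]; linear_combination he]
      exact div_mem (neg_mem (IntermediateField.algebra_adjoin_le_adjoin k {z}
        (Polynomial.aeval_mem_adjoin_singleton k z))) (IntermediateField.algebra_adjoin_le_adjoin k {z}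
        (Polynomial.aeval_mem_adjoin_singleton k z))
    have hp : p = 0 := by
      by_contra hp
      exact hzt ⟨p, hp, by simpa [hq] using he⟩
    rintro (i | i)
    · have := congrArg (fun r : Polynomial k => r.coeff i) hp
      simpa [p, Polynomial.finsetSum_coeff, Polynomial.coeff_monomial, Fin.val_inj] using this
    · have := congrArg (fun r : Polynomial k => r.coeff i) hq
      simpa [q, Polynomial.finsetSum_coeff, Polynomial.coeff_monomial, Fin.val_inj] using this
  have := hF.finite_L D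
  have hc := hv.fintype_card_le_finrank
  simp only [Fintype.card_sum, Fintype.card_fin] at hc
  unfold ell at hl
  omega

/-- No rational quadratic subfield when the genus is at least the degree of the equation. -/
theorem no_double (hK : IsFunctionField k K) {x y : K}
    (hxy : IntermediateField.adjoin k ({x, y} : Set K) = ⊤) (G : MvPolynomial (Fin 3) k)
    (hG : G.IsHomogeneous d) (hG0 : G ≠ 0) (h : MvPolynomial.aeval ![(1 : K), x, y] G = 0)
    (hgd : d ≤ genus k K) (hg : genus k K ≠ 0) {z : K} (hz : Module.finrank k⟮z⟯ K = 2) : False := by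
  classical
  have hzt : Transcendental k z := FF30.transcendental_of_not_mem_range hK (by
    rintro ⟨c, rfl⟩
    have h1 : k⟮algebraMap k K c⟯ = ⊥ := IntermediateField.adjoin_simple_eq_bot_iff.2 ⟨c, rfl⟩
    rw [h1, IntermediateField.finrank_bot'] at hz
    have : FiniteDimensional k K := Module.finite_of_finrank_eq_succ hz
    exact (transcendental_fst hK hg hxy) (Algebra.IsAlgebraic.isAlgebraic x))
  have key : ∀ {x y : K}, IntermediateField.adjoin k ({x, y} : Set K) = ⊤ →
      ∀ G : MvPolynomial (Fin 3) k, G.IsHomogeneous d → G ≠ 0 →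
      MvPolynomial.aeval ![(1 : K), x, y] G = 0 → x ∈ k⟮z⟯ := by
    intro x y hxy G hG hG0 h
    by_contra hxz
    have hx := transcendental_fst hK hg hxy
    have h1 := genus_lt_finrank hK hz hzt hx hxz
    have h2 := finrank_le_of_relation hx hxy G hG hG0 h (e := d) fun s hs => by
      have := hG (MvPolynomial.mem_support_iff.1 hs)
      simp [Finsupp.weight_apply, Finsupp.sum_fintype, Fin.sum_univ_three] at this
      omega
    omega
  have hx := key hxy G hG hG0 h
  have hy : y ∈ k⟮z⟯ := by
    refine key (x := y) (y := x) (by rw [Set.pair_comm]; exact hxy)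
      (MvPolynomial.rename (Equiv.swap (1 : Fin 3) 2) G) hG.rename_isHomogeneous
      (fun h0 => hG0 (MvPolynomial.rename_injective _ (Equiv.injective _) (h0.trans (map_zero _).symm))) ?_
    rw [MvPolynomial.aeval_rename]
    refine Eq.trans ?_ h
    congr 2
    funext i
    fin_cases i <;> rfl
  have htop : k⟮z⟯ = ⊤ := top_le_iff.1 (hxy ▸
    IntermediateField.adjoin_le_iff.2 (Set.insert_subset hx (Set.singleton_subset_iff.2 hy)))
  rw [IntermediateField.finrank_eq_one_iff_eq_top.2 htop] at hz
  omega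

end Field

end Groth.Agent.Curves2.PlaneGon
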