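import Groth.Agent.Curves2.PlaneForms
import Mathlib.RingTheory.MvPolynomial.EulerIdentity

/-! A squarefree plane quartic has at most six singular points. -/

universe u

namespace Groth.Agent.Curves2.PlaneForms

open MvPolynomial

variable {k : Type u} [Field k]

theorem exists_lin_eq {r : MvPolynomial (Fin 3) k} (hr : r.IsHomogeneous 1) : ∃ n, r = lin n := by
  refine ⟨fun i => constantCoeff (pderiv i r), ?_⟩
  have h := hr.sum_X_mul_pderiv
  rw [one_smul] at h
  conv_lhs => rw [← h]
  refine Finset.sum_congr rfl fun i _ => ?_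
  have h0 : (pderiv i r).totalDegree = 0 := by
    have := (hr.pderiv (i := i)).totalDegree_le
    omega
  rw [mul_comm]
  congr 1
  rw [totalDegree_eq_zero_iff_eq_C.mp h0]
  simp [constantCoeff]

theorem totalDegree_lower {r : MvPolynomial (Fin 3) k} (hr : r.totalDegree = 1) :
    homogeneousComponent 1 r ≠ 0 := by
  intro h
  have hsum := sum_homogeneousComponent r
  rw [hr, Finset.sum_range_succ, Finset.sum_range_one, h, add_zero, homogeneousComponent_zero] at hsum
  rw [← hsum, totalDegree_C] at hr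
  omega

theorem component_two_mul {r s : MvPolynomial (Fin 3) k} (hr : r.totalDegree = 1) (hs : s.totalDegree = 1) :
    homogeneousComponent 2 (r * s) = homogeneousComponent 1 r * homogeneousComponent 1 s := by
  have e : ∀ {t : MvPolynomial (Fin 3) k}, t.totalDegree = 1 →
      t = C (coeff 0 t) + homogeneousComponent 1 t := by
    intro t ht
    conv_lhs => rw [← sum_homogeneousComponent t]
    rw [ht, Finset.sum_range_succ, Finset.sum_range_one, homogeneousComponent_zero]
  have hr1 := homogeneousComponent_isHomogeneous 1 r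
  have hs1 := homogeneousComponent_isHomogeneous 1 s
  conv_lhs => rw [e hr, e hs]
  rw [add_mul, mul_add, mul_add, map_add, map_add, map_add, ← C_mul, homogeneousComponent_of_mem (isHomogeneous_C _ _),
    homogeneousComponent_of_mem ((isHomogeneous_C (Fin 3) (coeff 0 r)).mul hs1),
    homogeneousComponent_of_mem (hr1.mul (isHomogeneous_C (Fin 3) (coeff 0 s))),
    homogeneousComponent_of_mem (hr1.mul hs1)]
  simp

theorem no_five_general [IsAlgClosed k] {f : MvPolynomial (Fin 3) k} (hf : f.IsHomogeneous 4)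
    (hsq : Squarefree f) (p : Fin 5 → Fin 3 → k) (hp : Distinct p) (hs : ∀ i, Sing f (p i))
    (hgen : ∀ n : Fin 3 → k, n ≠ 0 → ∀ i j l : Fin 5, i ≠ j → j ≠ l → i ≠ l →
      ¬ (n ⬝ᵥ p i = 0 ∧ n ⬝ᵥ p j = 0 ∧ n ⬝ᵥ p l = 0)) : False := by
  classical
  have hP : LinearIndependent k ![p 0, p 1, p 2] := by
    rw [Fintype.linearIndependent_iff]
    intro g hg
    simp only [Fin.sum_univ_three, Matrix.cons_val_zero, Matrix.cons_val_one, Matrix.cons_val] at hg
    have key : ∀ (i j l : Fin 5) (a b c : k), i ≠ j → j ≠ l → i ≠ l →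
        a • p i + b • p j + c • p l = 0 → c = 0 := by
      intro i j l a b c h1 h2 h3 he
      obtain ⟨n, hn, hi, hj⟩ := exists_normal (p i) (p j)
      have := congrArg (n ⬝ᵥ ·) he
      simp only [dotProduct_add, dotProduct_smul, hi, hj, dotProduct_zero, smul_eq_mul] at this
      have h0 : c * (n ⬝ᵥ p l) = 0 := by linear_combination this
      exact (mul_eq_zero.mp h0).resolve_right fun h => hgen n hn i j l h1 h2 h3 ⟨hi, hj, h⟩
    intro i
    fin_cases i
    · exact key 1 2 0 (g 1) (g 2) (g 0) (by decide) (by decide) (by decide) (by rw [← hg]; abel)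
    · exact key 0 2 1 (g 0) (g 2) (g 1) (by decide) (by decide) (by decide) (by rw [← hg]; abel)
    · exact key 0 1 2 (g 0) (g 1) (g 2) (by decide) (by decide) (by decide) hg
  let B := basisOfLinearIndependentOfCardEqFinrank hP (by simp)
  let N : Fin 3 → Fin 3 → k := fun r l => B.coord r (Pi.single l 1)
  have hN : ∀ r v, N r ⬝ᵥ v = B.repr v r := by
    intro r v
    rw [← B.coord_apply]
    conv_rhs => rw [show v = ∑ l, v l • (Pi.single l (1 : k) : Fin 3 → k) by ext; simp [Pi.single_apply]]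
    simp [dotProduct, N, mul_comm]
  have hB : ∀ r, B r = ![p 0, p 1, p 2] r := fun r => by simp [B]
  let cd : Fin 5 → Fin 3 → k := fun i r => B.repr (p i) r
  have hcd : ∀ i r, N r ⬝ᵥ p i = cd i r := fun i r => hN r (p i)
  have hbasis : ∀ r s, N r ⬝ᵥ (![p 0, p 1, p 2] s) = if r = s then 1 else 0 := by
    intro r s
    rw [hN, ← hB, Module.Basis.repr_self, Finsupp.single_apply]
    simp [eq_comm]
  have h00 : N 0 ⬝ᵥ p 0 = 1 := hbasis 0 0
  have h10 : N 1 ⬝ᵥ p 0 = 0 := hbasis 1 0
  have h20 : N 2 ⬝ᵥ p 0 = 0 := hbasis 2 0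
  have h01 : N 0 ⬝ᵥ p 1 = 0 := hbasis 0 1
  have h11 : N 1 ⬝ᵥ p 1 = 1 := hbasis 1 1
  have h21 : N 2 ⬝ᵥ p 1 = 0 := hbasis 2 1
  have h02 : N 0 ⬝ᵥ p 2 = 0 := hbasis 0 2
  have h12 : N 1 ⬝ᵥ p 2 = 0 := hbasis 1 2
  have h22 : N 2 ⬝ᵥ p 2 = 1 := hbasis 2 2
  have hNne : ∀ r, N r ≠ 0 := fun r h => by
    have := hbasis r r
    simp [h] at this
  -- the two remaining points have nonzero coordinates
  have hnz : ∀ i : Fin 5, 3 ≤ i.val → ∀ r, N r ⬝ᵥ p i ≠ 0 := by
    intro i hi r h
    have e0 : i ≠ 0 := fun e => by simp [e] at hi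
    have e1 : i ≠ 1 := fun e => by simp [e] at hi
    have e2 : i ≠ 2 := fun e => by simp [e] at hi
    fin_cases r
    · exact hgen _ (hNne 0) 1 2 i (by decide) e2.symm e1.symm ⟨h01, h02, h⟩
    · exact hgen _ (hNne 1) 0 2 i (by decide) e2.symm e0.symm ⟨h10, h12, h⟩
    · exact hgen _ (hNne 2) 0 1 i (by decide) e1.symm e0.symm ⟨h20, h21, h⟩
  let μ : Fin 5 → Fin 3 → k := fun i =>
    ![(N 0 ⬝ᵥ p i) * (N 1 ⬝ᵥ p i), (N 1 ⬝ᵥ p i) * (N 2 ⬝ᵥ p i), (N 2 ⬝ᵥ p i) * (N 0 ⬝ᵥ p i)]
  obtain ⟨A, hA, hA3, hA4⟩ := exists_normal (μ 3) (μ 4)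
  let a := A 0
  let b := A 1
  let c := A 2
  let qv : (Fin 3 → k) → k := fun v =>
    a * ((N 0 ⬝ᵥ v) * (N 1 ⬝ᵥ v)) + b * ((N 1 ⬝ᵥ v) * (N 2 ⬝ᵥ v)) + c * ((N 2 ⬝ᵥ v) * (N 0 ⬝ᵥ v))
  have hq34 : ∀ i : Fin 5, 3 ≤ i.val → qv (p i) = 0 := by
    intro i hi
    obtain rfl | rfl : i = 3 ∨ i = 4 := by omega
    · simpa [qv, μ, dotProduct, Fin.sum_univ_three] using hA3
    · simpa [qv, μ, dotProduct, Fin.sum_univ_three] using hA4
  have hlinear : ∀ (x y : k) (r s : Fin 3) (t : Fin 5), t.val < 3 →
      (x • N r + y • N s ≠ 0) → N r ⬝ᵥ p t = 0 → N s ⬝ᵥ p t = 0 →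
      x * (N r ⬝ᵥ p 3) + y * (N s ⬝ᵥ p 3) = 0 → x * (N r ⬝ᵥ p 4) + y * (N s ⬝ᵥ p 4) = 0 → False := by
    intro x y r s t ht hne hr hs' h3 h4
    refine hgen _ hne t 3 4 (fun e => by simp [e] at ht) (by decide) (fun e => by simp [e] at ht) ⟨?_, ?_, ?_⟩
    all_goals simp [add_dotProduct, smul_dotProduct, hr, hs', h3, h4]
  have hane : a ≠ 0 ∧ b ≠ 0 ∧ c ≠ 0 := by
    refine ⟨fun h => ?_, fun h => ?_, fun h => ?_⟩
    · refine hlinear b c 1 0 2 (by decide) ?_ h12 h02 ?_ ?_
      · intro e
        have e0 := congrArg (· ⬝ᵥ p 0) e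
        have e1 := congrArg (· ⬝ᵥ p 1) e
        simp [add_dotProduct, smul_dotProduct, h00, h10, h01, h11] at e0 e1
        exact hA (funext fun l => by fin_cases l <;> [exact h; exact e1; exact e0])
      · refine (mul_eq_zero.mp ?_).resolve_left (hnz 3 (by decide) 2)
        have := hq34 3 (by decide); simp only [qv, h] at this; linear_combination this
      · refine (mul_eq_zero.mp ?_).resolve_left (hnz 4 (by decide) 2)
        have := hq34 4 (by decide); simp only [qv, h] at this; linear_combination this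
    · refine hlinear a c 1 2 0 (by decide) ?_ h10 h20 ?_ ?_
      · intro e
        have e0 := congrArg (· ⬝ᵥ p 2) e
        have e1 := congrArg (· ⬝ᵥ p 1) e
        simp [add_dotProduct, smul_dotProduct, h22, h12, h21, h11] at e0 e1
        exact hA (funext fun l => by fin_cases l <;> [exact e1; exact h; exact e0])
      · refine (mul_eq_zero.mp ?_).resolve_left (hnz 3 (by decide) 0)
        have := hq34 3 (by decide); simp only [qv, h] at this; linear_combination this
      · refine (mul_eq_zero.mp ?_).resolve_left (hnz 4 (by decide) 0)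
        have := hq34 4 (by decide); simp only [qv, h] at this; linear_combination this
    · refine hlinear a b 0 2 1 (by decide) ?_ h01 h21 ?_ ?_
      · intro e
        have e0 := congrArg (· ⬝ᵥ p 0) e
        have e1 := congrArg (· ⬝ᵥ p 2) e
        simp [add_dotProduct, smul_dotProduct, h22, h02, h20, h00] at e0 e1
        exact hA (funext fun l => by fin_cases l <;> [exact e0; exact e1; exact h])
      · refine (mul_eq_zero.mp ?_).resolve_left (hnz 3 (by decide) 1)
        have := hq34 3 (by decide); simp only [qv, h] at this; linear_combination this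
      · refine (mul_eq_zero.mp ?_).resolve_left (hnz 4 (by decide) 1)
        have := hq34 4 (by decide); simp only [qv, h] at this; linear_combination this
  obtain ⟨ha, hb, hc⟩ := hane
  have hq5 : ∀ i, qv (p i) = 0 := by
    intro i
    fin_cases i
    · simp [qv, h10, h20]
    · simp [qv, h01, h21]
    · simp [qv, h02, h12]
    · exact hq34 3 (by decide)
    · exact hq34 4 (by decide)
  let q : MvPolynomial (Fin 3) k :=
    C a * (lin (N 0) * lin (N 1)) + C b * (lin (N 1) * lin (N 2)) + C c * (lin (N 2) * lin (N 0))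
  have hqv : ∀ v, eval v q = qv v := fun v => by simp [q, qv]
  have hqh : q.IsHomogeneous 2 :=
    ((((lin_isHomogeneous _).mul (lin_isHomogeneous _)).C_mul a).add
      (((lin_isHomogeneous _).mul (lin_isHomogeneous _)).C_mul b)).add
      (((lin_isHomogeneous _).mul (lin_isHomogeneous _)).C_mul c)
  have hq0 : q ≠ 0 := fun e => by
    have := hqv (p 0 + p 1)
    rw [e] at this
    simp [qv, dotProduct_add, h00, h10, h20, h01, h11, h21] at this
    exact ha this.symm
  have hqirr : Irreducible q := by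
    refine ⟨fun hu => ?_, fun r s hrs => ?_⟩
    · have h1 := (hu.map (eval (p 0))).ne_zero
      rw [hqv, hq5 0] at h1
      exact h1 rfl
    · by_contra hcon
      push Not at hcon
      have hr0 : r ≠ 0 := fun e => hq0 (by rw [hrs, e, zero_mul])
      have hs0 : s ≠ 0 := fun e => hq0 (by rw [hrs, e, mul_zero])
      have hdeg := hqh.totalDegree hq0
      rw [hrs, totalDegree_mul_of_isDomain hr0 hs0] at hdeg
      have hpos : ∀ t : MvPolynomial (Fin 3) k, t ≠ 0 → ¬ IsUnit t → t.totalDegree ≠ 0 := by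
        intro t ht hu hd
        rw [totalDegree_eq_zero_iff_eq_C.mp hd] at ht hu
        exact hu ((IsUnit.mk0 _ fun e => ht (by rw [e, map_zero])).map C)
      have hr' := hpos r hr0 hcon.1
      have hs1 := hpos s hs0 hcon.2
      have hrd : r.totalDegree = 1 := by omega
      have hsd : s.totalDegree = 1 := by omega
      obtain ⟨n, hn⟩ := exists_lin_eq (homogeneousComponent_isHomogeneous 1 r)
      obtain ⟨m, hm⟩ := exists_lin_eq (homogeneousComponent_isHomogeneous 1 s)
      have hqnm : q = lin n * lin m := by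
        rw [← hn, ← hm, ← component_two_mul hrd hsd, ← hrs, homogeneousComponent_of_mem hqh, if_pos rfl]
      have hn0 : n ≠ 0 := fun e => hq0 (by rw [hqnm, lin_eq_zero_iff.mpr e, zero_mul])
      have hm0 : m ≠ 0 := fun e => hq0 (by rw [hqnm, lin_eq_zero_iff.mpr e, mul_zero])
      have hcases : ∀ i, n ⬝ᵥ p i = 0 ∨ m ⬝ᵥ p i = 0 := fun i => by
        have := (hqv (p i)).trans (hq5 i)
        rw [hqnm, map_mul, eval_lin, eval_lin] at this
        exact mul_eq_zero.mp this
      have two : ∀ v : Fin 3 → k, v ≠ 0 → (Finset.univ.filter fun i : Fin 5 => v ⬝ᵥ p i = 0).card ≤ 2 := by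
        intro v hv
        by_contra hlt
        obtain ⟨ι, hι, hι'⟩ := exists_sub_family (fun i : Fin 5 => v ⬝ᵥ p i = 0) 3 (by omega)
        exact hgen v hv (ι 0) (ι 1) (ι 2) (hι.ne (by decide)) (hι.ne (by decide)) (hι.ne (by decide))
          ⟨hι' 0, hι' 1, hι' 2⟩
      have := Finset.card_union_le (Finset.univ.filter fun i : Fin 5 => n ⬝ᵥ p i = 0)
        (Finset.univ.filter fun i : Fin 5 => m ⬝ᵥ p i = 0)
      rw [show (Finset.univ.filter fun i : Fin 5 => n ⬝ᵥ p i = 0) ∪ (Finset.univ.filter fun i : Fin 5 => m ⬝ᵥ p i = 0) = Finset.univ from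
        Finset.eq_univ_of_forall fun i => by simpa using hcases i] at this
      have := two n hn0
      have := two m hm0
      simp only [Finset.card_univ, Fintype.card_fin] at *
      omega
  -- parametrisation of the conic
  let Φ : k → k → Fin 3 → k := fun s t =>
    (-(b * t + c * s) * s) • p 0 + (-(b * t + c * s) * t) • p 1 + (a * t * s) • p 2
  have hΦ : ∀ w s t : k, Φ (w * s) (w * t) = w ^ 2 • Φ s t := fun w s t => by
    funext l; simp [Φ]; ring
  have hexp : ∀ v, v = (N 0 ⬝ᵥ v) • p 0 + (N 1 ⬝ᵥ v) • p 1 + (N 2 ⬝ᵥ v) • p 2 := by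
    intro v
    have := B.sum_repr v
    simp only [Fin.sum_univ_three, hB, ← hN] at this
    exact this.symm
  have hback : ∀ v, qv v = 0 →
      Φ (N 0 ⬝ᵥ v) (N 1 ⬝ᵥ v) = (-(b * (N 1 ⬝ᵥ v) + c * (N 0 ⬝ᵥ v))) • v := by
    intro v hv
    rw [congrArg (fun u => (-(b * (N 1 ⬝ᵥ v) + c * (N 0 ⬝ᵥ v))) • u) (hexp v)]
    simp only [Φ, smul_add, smul_smul]
    congr 2
    simp only [qv] at hv
    linear_combination hv
  have hparam : ∀ i, ∃ s t r : k, r ≠ 0 ∧ Φ s t = r • p i := by
    intro i
    by_cases h0 : i = 0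
    · exact ⟨1, 0, -c, neg_ne_zero.mpr hc, by subst h0; simp [Φ]⟩
    by_cases h1 : i = 1
    · exact ⟨0, 1, -b, neg_ne_zero.mpr hb, by subst h1; simp [Φ]⟩
    by_cases h2 : i = 2
    · refine ⟨-b, c, a * c * -b, mul_ne_zero (mul_ne_zero ha hc) (neg_ne_zero.mpr hb), ?_⟩
      subst h2
      funext l; simp [Φ]; ring
    · have hi : 3 ≤ i.val := by omega
      refine ⟨_, _, _, ?_, hback (p i) (hq5 i)⟩
      intro e
      have := hq5 i
      simp only [qv] at this
      exact mul_ne_zero (mul_ne_zero ha (hnz i hi 0)) (hnz i hi 1)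
        (by linear_combination this + (N 2 ⬝ᵥ p i) * e)
  choose S T R hR hST using hparam
  have hvanish : ∀ (G : MvPolynomial (Fin 3) k) (d m : ℕ), G.IsHomogeneous d → m ≤ 2 →
      (∀ i, eval (p i) G = 0) → (m = 2 → ∀ i l, eval (p i) (pderiv l G) = 0) → d * 2 < m * 5 →
      ∀ v, eval v q = 0 → eval v G = 0 := by
    intro G d m hG hm hz hz2 hlt v hv
    rw [hqv] at hv
    have hall : ∀ s t : k, eval (Φ s t) G = 0 := by
      intro s t
      obtain ⟨γ, hγ⟩ := Infinite.exists_notMem_finset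
        (insert (s / t) ((Finset.univ : Finset (Fin 5)).image fun i => S i / T i))
      have hne : ∀ i, S i - γ * T i ≠ 0 := fun i h => by
        by_cases hy : T i = 0
        · rw [hy, mul_zero, sub_zero] at h
          have := hST i
          rw [h, hy] at this
          exact smul_ne_zero (hR i) (hp.ne_zero (by norm_num) i) (by rw [← this]; simp [Φ])
        · exact hγ (Finset.mem_insert_of_mem (Finset.mem_image.mpr ⟨i, Finset.mem_univ _, by
            rw [div_eq_iff hy]; exact sub_eq_zero.mp h⟩))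
      let L : Polynomial k := 1 + Polynomial.C γ * Polynomial.X
      let U : Polynomial k := -(Polynomial.C b * Polynomial.X + Polynomial.C c * L)
      let cp : Fin 3 → Polynomial k := fun l =>
        Polynomial.C (p 0 l) * (U * L) + Polynomial.C (p 1 l) * (U * Polynomial.X) +
          Polynomial.C (p 2 l) * (Polynomial.C a * Polynomial.X * L)
      have hcp : ∀ τ, (fun l => (cp l).eval τ) = Φ (1 + γ * τ) τ := fun τ => by
        funext l; simp [cp, U, L, Φ]; ring
      have hpt : ∀ s t : k, s - γ * t ≠ 0 →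
          Φ s t = (s - γ * t) ^ 2 • fun l => (cp l).eval (t / (s - γ * t)) := by
        intro s t hst
        rw [hcp, ← hΦ, mul_div_cancel₀ _ hst]
        congr 1
        rw [mul_add, mul_one, mul_left_comm, mul_div_cancel₀ _ hst]
        ring
      let τ : Fin 5 → k := fun i => T i / (S i - γ * T i)
      have hτ : Function.Injective τ := by
        intro i j hij
        by_contra hne'
        have ei := (hST i).symm.trans (hpt _ _ (hne i))
        have ej := (hST j).symm.trans (hpt _ _ (hne j))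
        rw [show T i / (S i - γ * T i) = T j / (S j - γ * T j) from hij] at ei
        have hli := LinearIndependent.pair_iff.mp (hp i j hne') ((S j - γ * T j) ^ 2 * R i)
          (-((S i - γ * T i) ^ 2 * R j)) (by
            rw [mul_smul, neg_smul, mul_smul, ei, ej, smul_smul, smul_smul, mul_comm]
            exact add_neg_cancel _)
        exact mul_ne_zero (pow_ne_zero 2 (hne j)) (hR i) hli.1
      have hzero : ∀ (H : MvPolynomial (Fin 3) k) (e : ℕ), H.IsHomogeneous e → ∀ i, eval (p i) H = 0 →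
          eval (fun l => (cp l).eval (τ i)) H = 0 := fun H e hH i h0 =>
        eval_eq_zero_of_smul hH (pow_ne_zero 2 (hne i))
          (by rw [← hpt _ _ (hne i), hST i]; exact eval_smul_eq_zero hH _ h0)
      have hz' : ∀ x, eval (fun l => (cp l).eval x) G = 0 := by
        refine eval_param_eq_zero hG cp (e := 2) (fun l => ?_) (Finset.univ.image τ) m hm ?_ ?_ ?_
        · simp only [cp, U, L]
          compute_degree
        · intro x hx
          obtain ⟨i, -, rfl⟩ := Finset.mem_image.mp hx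
          exact hzero G d hG i (hz i)
        · intro h2 x hx l
          obtain ⟨i, -, rfl⟩ := Finset.mem_image.mp hx
          exact hzero _ _ hG.pderiv i (hz2 h2 i l)
        · rw [Finset.card_image_of_injective _ hτ, Finset.card_univ, Fintype.card_fin]
          exact hlt
      by_cases hst : s - γ * t = 0
      · have ht : t = 0 := by
          by_contra ht
          exact hγ (Finset.mem_insert.mpr (Or.inl (by rw [eq_div_iff ht]; exact (sub_eq_zero.mp hst).symm)))
        rw [ht, mul_zero, sub_zero] at hst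
        rw [show Φ s t = (0 : k) • p 0 by subst hst ht; simp [Φ]]
        exact eval_smul_eq_zero hG 0 (hz 0)
      · rw [hpt _ _ hst]
        exact eval_smul_eq_zero hG _ (hz' _)
    by_cases hw : b * (N 1 ⬝ᵥ v) + c * (N 0 ⬝ᵥ v) = 0
    · have hxy : (N 0 ⬝ᵥ v) * (N 1 ⬝ᵥ v) = 0 := by
        have : a * ((N 0 ⬝ᵥ v) * (N 1 ⬝ᵥ v)) = 0 := by
          simp only [qv] at hv
          linear_combination hv - (N 2 ⬝ᵥ v) * hw
        exact (mul_eq_zero.mp this).resolve_left ha
      have hx : N 0 ⬝ᵥ v = 0 := by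
        rcases mul_eq_zero.mp hxy with h | h
        · exact h
        · rw [h, mul_zero, zero_add] at hw; exact (mul_eq_zero.mp hw).resolve_left hc
      have hy : N 1 ⬝ᵥ v = 0 := by
        rw [hx, mul_zero, add_zero] at hw; exact (mul_eq_zero.mp hw).resolve_left hb
      rw [hexp v, hx, hy, zero_smul, zero_smul, zero_add, zero_add]
      exact eval_smul_eq_zero hG _ (hz 2)
    · exact eval_eq_zero_of_smul hG (neg_ne_zero.mpr hw) (by rw [← hback v hv]; exact hall _ _)
  obtain ⟨h, hh, e⟩ := exists_homogeneous_factor (b := 2) hqh hf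
    (dvd_of_vanishing hqirr (hvanish f 4 2 hf le_rfl (fun i => (hs i).1) (fun _ i l => (hs i).2 l) (by norm_num)))
  obtain ⟨-, hnd⟩ := squarefree_factor hqirr hsq e
  refine hnd (dvd_of_vanishing hqirr (hvanish h 2 1 hh (by norm_num) (fun i => ?_) (by norm_num) (by norm_num)))
  refine eval_eq_zero_of_mul_on (e ▸ hs i) ((hqv _).trans (hq5 i)) ?_
  by_contra hall
  push Not at hall
  have hdir : ∀ w : Fin 3 → k, ∑ l, w l * eval (p i) (pderiv l q) = 0 := fun w => by simp [hall]
  have hD : ∀ w : Fin 3 → k, ∑ l, w l * eval (p i) (pderiv l q) =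
      a * ((N 0 ⬝ᵥ w) * (N 1 ⬝ᵥ p i) + (N 0 ⬝ᵥ p i) * (N 1 ⬝ᵥ w)) +
      b * ((N 1 ⬝ᵥ w) * (N 2 ⬝ᵥ p i) + (N 1 ⬝ᵥ p i) * (N 2 ⬝ᵥ w)) +
      c * ((N 2 ⬝ᵥ w) * (N 0 ⬝ᵥ p i) + (N 2 ⬝ᵥ p i) * (N 0 ⬝ᵥ w)) := fun w => by
    simp only [q, map_add, pderiv_mul, pderiv_C, pderiv_lin, map_mul, eval_C, eval_lin, zero_mul, zero_add]
    simp only [dotProduct, Fin.sum_univ_three]
    ring
  have k0 := (hD (p 0)).symm.trans (hdir _)
  have k1 := (hD (p 1)).symm.trans (hdir _)
  have k2 := (hD (p 2)).symm.trans (hdir _)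
  simp only [h00, h10, h20, h01, h11, h21, h02, h12, h22] at k0 k1 k2
  by_cases h0 : i = 0
  · subst h0; simp only [h00, h10, h20] at k1; exact ha (by linear_combination k1)
  by_cases h1 : i = 1
  · subst h1; simp only [h01, h11, h21] at k0; exact ha (by linear_combination k0)
  by_cases h2 : i = 2
  · subst h2; simp only [h02, h12, h22] at k1; exact hb (by linear_combination k1)
  · have hi : 3 ≤ i.val := by omega
    have := hq5 i
    simp only [qv] at this
    exact mul_ne_zero (mul_ne_zero ha (hnz i hi 0)) (hnz i hi 1)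
      (by linear_combination this - (N 2 ⬝ᵥ p i) * k2)

theorem no_seven_sing_quartic [IsAlgClosed k] {f : MvPolynomial (Fin 3) k} (hf : f.IsHomogeneous 4)
    (hsq : Squarefree f) (p : Fin 7 → Fin 3 → k) (hp : Distinct p) (hs : ∀ i, Sing f (p i)) : False := by
  classical
  by_cases hcol : ∃ n : Fin 3 → k, n ≠ 0 ∧ 3 ≤ (Finset.univ.filter fun i => n ⬝ᵥ p i = 0).card
  · obtain ⟨n, hn, hc⟩ := hcol
    obtain ⟨κ, hκ, hκ'⟩ := exists_sub_family (fun i => n ⬝ᵥ p i = 0) 3 hc
    obtain ⟨g, hg, e⟩ := exists_homogeneous_factor (b := 3) (lin_isHomogeneous n) hf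
      (lin_dvd hf hn (p ∘ κ) (hp.comp hκ) (by norm_num) hκ' 2 le_rfl (fun i => (hs _).1)
        (fun _ i => hs _) (by norm_num))
    obtain ⟨hsq', hnd⟩ := squarefree_factor (irreducible_lin hn) hsq e
    by_cases hc4 : 4 ≤ (Finset.univ.filter fun i => n ⬝ᵥ p i = 0).card
    · obtain ⟨ι, hι, hι'⟩ := exists_sub_family (fun i => n ⬝ᵥ p i = 0) 4 hc4
      exact hnd (lin_dvd hg hn (p ∘ ι) (hp.comp hι) (by norm_num) hι' 1 (by norm_num)
        (fun i => sing_of_mul_line hn (e ▸ hs _) (hι' i)) (by norm_num) (by norm_num))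
    · obtain ⟨ι, hι, hι'⟩ := exists_sub_family (fun i => ¬ n ⬝ᵥ p i = 0) 4 (by
        have := Finset.card_filter_add_card_filter_not (s := (Finset.univ : Finset (Fin 7))) (fun i => n ⬝ᵥ p i = 0)
        simp only [Finset.card_univ, Fintype.card_fin] at this
        omega)
      exact no_four_sing_cubic hg hsq' (p ∘ ι) (hp.comp hι)
        (fun i => sing_of_mul_off (e ▸ hs _) (by simpa using hι' i))
  · push Not at hcol
    refine no_five_general hf hsq (p ∘ Fin.castLE (by norm_num)) (hp.comp (Fin.castLE_injective _))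
      (fun i => hs _) fun n hn i j l hij hjl hil => ?_
    rintro ⟨hi, hj, hl⟩
    have := hcol n hn
    have hsub : ({Fin.castLE (by norm_num : 5 ≤ 7) i, Fin.castLE (by norm_num : 5 ≤ 7) j,
        Fin.castLE (by norm_num : 5 ≤ 7) l} : Finset (Fin 7)) ⊆ Finset.univ.filter fun i => n ⬝ᵥ p i = 0 := by
      intro x hx
      simp only [Finset.mem_insert, Finset.mem_singleton] at hx
      rcases hx with rfl | rfl | rfl <;> simp_all
    have h3 := Finset.card_le_card hsub
    rw [Finset.card_insert_of_notMem, Finset.card_pair] at h3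
    · omega
    · exact (Fin.castLE_injective _).ne hjl
    · simp [(Fin.castLE_injective _).eq_iff, hij, hil]

end Groth.Agent.Curves2.PlaneForms
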