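import Groth.Agent.Curves2.ProjModelAlg
import Groth.Agent.Curves2.ProjLineProper
import Mathlib.AlgebraicGeometry.FunctionField

/-! The closure in `P^n` of a `K`-point with nonzero homogeneous coordinates. -/

universe u

open CategoryTheory CategoryTheory.Limits AlgebraicGeometry Opposite TopologicalSpace

noncomputable section

set_option backward.isDefEq.respectTransparency false

namespace Groth.Agent.Curves2.ProjModel

open Var76.ProjCoord HomogeneousLocalization

variable (k : Type u) [Field k] {n : ℕ} {K : Type u} [Field K] [Algebra k K] (h : Fin (n + 1) → K)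

local notation "𝒜" => CohB1.polyGrading n k

/-- evaluation at the point on the fractions with denominators powers of `t` -/
def evalAway (t : MvPolynomial (Fin (n + 1)) k) (ht : MvPolynomial.aeval h t ≠ 0) : Away 𝒜 t →+* K :=
  (IsLocalization.Away.lift (S := Localization.Away t) t
    (g := (MvPolynomial.aeval h).toRingHom) (IsUnit.mk0 _ ht)).comp (algebraMap _ _)

theorem evalAway_mk {t : MvPolynomial (Fin (n + 1)) k} (ht : MvPolynomial.aeval h t ≠ 0)
    (c : HomogeneousLocalization.NumDenSameDeg 𝒜 (Submonoid.powers t)) :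
    evalAway k h t ht (HomogeneousLocalization.mk c) =
      MvPolynomial.aeval h c.num.1 / MvPolynomial.aeval h c.den.1 := by
  obtain ⟨m, hm⟩ := c.den_mem
  have h0 : MvPolynomial.aeval h c.den.1 ≠ 0 := by
    rw [← show t ^ m = c.den.1 from hm, map_pow]; exact pow_ne_zero _ ht
  rw [eq_div_iff h0, evalAway, RingHom.comp_apply, HomogeneousLocalization.algebraMap_apply,
    HomogeneousLocalization.val_mk, Localization.mk_eq_mk']
  have := congrArg (IsLocalization.Away.lift (S := Localization.Away t) t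
    (g := (MvPolynomial.aeval h).toRingHom) (IsUnit.mk0 _ ht))
    (IsLocalization.mk'_spec (Localization.Away t) c.num.1 ⟨c.den.1, c.den_mem⟩)
  rwa [map_mul, IsLocalization.Away.lift_eq, IsLocalization.Away.lift_eq] at this

theorem aeval_X_ne_zero (hh : ∀ i, h i ≠ 0) (j : Fin (n + 1)) :
    MvPolynomial.aeval h (MvPolynomial.X j : MvPolynomial (Fin (n + 1)) k) ≠ 0 := by
  rw [MvPolynomial.aeval_X]; exact hh j

variable (hh : ∀ i, h i ≠ 0)

/-- the point, in the chart `j` -/
def ptAt (j : Fin (n + 1)) : Spec (CommRingCat.of K) ⟶ CohB1.ProjSpace n k :=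
  Spec.map (CommRingCat.ofHom (evalAway k h _ (aeval_X_ne_zero k h hh j))) ≫
    Proj.awayι 𝒜 (MvPolynomial.X j) (X₁ k n j).2 one_pos

theorem evalAway_awayMap (t s : MvPolynomial (Fin (n + 1)) k) {d : ℕ} (hs : s ∈ 𝒜 d) {x}
    (hx : x = t * s) (ht : MvPolynomial.aeval h t ≠ 0) (hxn : MvPolynomial.aeval h x ≠ 0) :
    (evalAway k h x hxn).comp (awayMap 𝒜 hs hx) = evalAway k h t ht := by
  refine RingHom.ext fun z => ?_
  obtain ⟨c, rfl⟩ := HomogeneousLocalization.mk_surjective z
  obtain ⟨e, a, ⟨b, hb⟩, ⟨i, (rfl : _ = b)⟩⟩ := c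
  rw [RingHom.comp_apply]
  have hkey : MvPolynomial.aeval h t ^ i ≠ 0 := pow_ne_zero _ ht
  have hs0 : MvPolynomial.aeval h s ≠ 0 := fun h0 => hxn (by rw [hx, map_mul, h0, mul_zero])
  rw [evalAway_mk, evalAway, RingHom.comp_apply, HomogeneousLocalization.algebraMap_apply,
    HomogeneousLocalization.val_awayMap_mk, Localization.mk_eq_mk', IsLocalization.Away.lift,
    IsLocalization.lift_mk'_spec]
  simp only [AlgHom.toRingHom_eq_coe, RingHom.coe_coe, map_mul, map_pow, hx]
  field_simp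
  try ring

theorem ptAt_eq (i j : Fin (n + 1)) : ptAt k h hh i = ptAt k h hh j := by
  let x : MvPolynomial (Fin (n + 1)) k := MvPolynomial.X i * MvPolynomial.X j
  have hx : MvPolynomial.aeval h x ≠ 0 := by
    rw [map_mul]; exact mul_ne_zero (aeval_X_ne_zero k h hh i) (aeval_X_ne_zero k h hh j)
  rw [ptAt, ptAt, ← evalAway_awayMap k h (MvPolynomial.X i) (MvPolynomial.X j) (X₁ k n j).2 (x := x) rfl _ hx,
    ← evalAway_awayMap k h (MvPolynomial.X j) (MvPolynomial.X i) (X₁ k n i).2 (x := x) (mul_comm _ _) _ hx,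
    CommRingCat.ofHom_comp, CommRingCat.ofHom_comp, Spec.map_comp, Spec.map_comp, Category.assoc,
    Category.assoc, Proj.SpecMap_awayMap_awayι, Proj.SpecMap_awayMap_awayι]

theorem range_evalAway (j : Fin (n + 1)) :
    (∀ i, h i / h j ∈ (evalAway k h _ (aeval_X_ne_zero k h hh j)).range) ∧
      (∀ r : k, algebraMap k K r ∈ (evalAway k h _ (aeval_X_ne_zero k h hh j)).range) := by
  refine ⟨fun i => ⟨frac k n j (X₁ k n i), ?_⟩,
    fun r => ⟨fromZeroRingHom 𝒜 _ (algebraMap k (𝒜 0) r), ?_⟩⟩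
  · rw [frac, evalAway_mk]
    simp [X₁]
  · show evalAway k h _ _ (HomogeneousLocalization.mk ⟨0, algebraMap k (𝒜 0) r, ⟨1, SetLike.GradedOne.one_mem⟩, one_mem _⟩) = _
    rw [evalAway_mk]
    simp

theorem ptAt_toSpec (j : Fin (n + 1)) :
    ptAt k h hh j ≫ CohB1.ProjSpace.toSpec n k = Spec.map (CommRingCat.ofHom (algebraMap k K)) := by
  rw [ptAt, CohB1.ProjSpace.toSpec, Category.assoc, Proj.awayι_toSpecZero_assoc,
    ← Spec.map_comp, ← Spec.map_comp]
  congr 1
  ext r
  show evalAway k h _ (aeval_X_ne_zero k h hh j)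
    (HomogeneousLocalization.mk ⟨0, algebraMap k (𝒜 0) r, ⟨1, SetLike.GradedOne.one_mem⟩, one_mem _⟩) = algebraMap k K r
  rw [evalAway_mk]
  simp

theorem fromSpec_U (j : Fin (n + 1)) :
    (isAffineOpen_U k n j).fromSpec = Spec.map (Proj.awayToSection 𝒜 (MvPolynomial.X j)) ≫
      Proj.awayι 𝒜 (MvPolynomial.X j) (X₁ k n j).2 one_pos := by
  let f : MvPolynomial (Fin (n + 1)) k := MvPolynomial.X j
  have hU : IsAffineOpen (U k n j) := isAffineOpen_U k n j
  have h1 : hU.isoSpec.inv = Spec.map (Proj.awayToSection 𝒜 f) ≫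
      (Proj.basicOpenIsoSpec 𝒜 f (X₁ k n j).2 one_pos).inv := by
    rw [Iso.eq_comp_inv, Proj.basicOpenIsoSpec_hom]
    show hU.isoSpec.inv ≫ (U k n j).toSpecΓ ≫ _ = _
    rw [← hU.isoSpec_hom, Iso.inv_hom_id_assoc]
  show hU.isoSpec.inv ≫ (U k n j).ι = _
  rw [h1, Category.assoc, Proj.basicOpenIsoSpec_inv_ι]

include hh in
/-- The closure of the point, with an injective evaluation on every chart. -/
theorem exists_closure :
    ∃ (Y : Scheme.{u}) (_ : IsIntegral Y) (i : Y ⟶ CohB1.ProjSpace n k) (ξ : Spec (CommRingCat.of K) ⟶ Y),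
      IsClosedImmersion i ∧
      ξ ≫ i ≫ CohB1.ProjSpace.toSpec n k = Spec.map (CommRingCat.ofHom (algebraMap k K)) ∧
      (∀ p, ξ p = genericPoint Y) ∧
      ∀ y : Y, ∃ (V : Y.Opens) (hV : IsAffineOpen V) (j : Fin (n + 1)) (φ : Γ(Y, V) →+* K),
        y ∈ V ∧ Function.Injective φ ∧ (∀ l, h l / h j ∈ φ.range) ∧
        (∀ r : k, algebraMap k K r ∈ φ.range) ∧ Spec.map (CommRingCat.ofHom φ) ≫ hV.fromSpec = ξ := by
  classical
  let S := Spec (CommRingCat.of K)
  let P := ptAt k h hh 0
  let Y := P.image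
  let ξ : S ⟶ Y := P.toImage
  have : QuasiCompact P := inferInstance
  have hsub : Subsingleton S := inferInstanceAs (Subsingleton (PrimeSpectrum K))
  let pt : S := IsLocalRing.closedPoint K
  let η : Y := ξ pt
  have hη : IsGenericPoint η (Set.univ : Set Y) := by
    have hr : Set.range ξ = {η} := Set.ext fun z =>
      ⟨fun ⟨q, hq⟩ => by rw [← hq, Subsingleton.elim q pt]; rfl, fun hz => ⟨pt, hz.symm⟩⟩
    have := (inferInstance : IsDominant ξ).denseRange.closure_range
    rwa [hr] at this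
  have : IrreducibleSpace Y := by
    rw [irreducibleSpace_def]
    show IsIrreducible (Set.univ : Set Y)
    rw [← hη.def]
    exact isIrreducible_singleton.closure
  have hcharts : ∀ y : Y, ∃ (V : Y.Opens) (hV : IsAffineOpen V) (j : Fin (n + 1)) (φ : Γ(Y, V) →+* K),
      y ∈ V ∧ Function.Injective φ ∧ (∀ l, h l / h j ∈ φ.range) ∧
      (∀ r : k, algebraMap k K r ∈ φ.range) ∧ Spec.map (CommRingCat.ofHom φ) ≫ hV.fromSpec = ξ := by
    intro y
    obtain ⟨j, hj⟩ := exists_mem_U k n (P.imageι y)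
    let V : Y.Opens := P.imageι ⁻¹ᵁ U k n j
    have hU := isAffineOpen_U k n j
    have hV : IsAffineOpen V := hU.preimage P.imageι
    have hle : (⊤ : S.Opens) ≤ ξ ⁻¹ᵁ V := by
      intro q _
      show P.imageι (ξ q) ∈ U k n j
      rw [← Scheme.Hom.comp_apply, Scheme.Hom.toImage_imageι, show P = ptAt k h hh j from ptAt_eq k h hh 0 j,
        ptAt, Scheme.Hom.comp_apply]
      exact (Proj.opensRange_awayι 𝒜 (MvPolynomial.X j) (X₁ k n j).2 one_pos).le ⟨_, rfl⟩
    let φ : Γ(Y, V) ⟶ CommRingCat.of K := ξ.appLE V ⊤ hle ≫ (Scheme.ΓSpecIso (CommRingCat.of K)).hom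
    have hsp : Spec.map φ ≫ hV.fromSpec = ξ := by
      rw [Spec.map_comp, Category.assoc, IsAffineOpen.SpecMap_appLE_fromSpec ξ hV (isAffineOpen_top _) hle,
        IsAffineOpen.fromSpec_top, Scheme.isoSpec_Spec_inv, ← Spec.map_comp_assoc, Iso.inv_hom_id,
        Spec.map_id, Category.id_comp]
    let π : CommRingCat.of (Away 𝒜 (MvPolynomial.X j : MvPolynomial (Fin (n + 1)) k)) ⟶ Γ(Y, V) :=
      Proj.awayToSection 𝒜 (MvPolynomial.X j) ≫ P.imageι.appLE (U k n j) V le_rfl
    have hπ : Spec.map π ≫ Proj.awayι 𝒜 (MvPolynomial.X j) (X₁ k n j).2 one_pos = hV.fromSpec ≫ P.imageι := by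
      rw [Spec.map_comp, Category.assoc, ← fromSpec_U, IsAffineOpen.SpecMap_appLE_fromSpec]
    have hcomp : π ≫ φ = CommRingCat.ofHom (evalAway k h _ (aeval_X_ne_zero k h hh j)) := by
      refine Spec.map_injective ((cancel_mono (Proj.awayι 𝒜 (MvPolynomial.X j) (X₁ k n j).2 one_pos)).1 ?_)
      rw [Spec.map_comp, Category.assoc, hπ, ← Category.assoc, hsp, Scheme.Hom.toImage_imageι]
      exact ptAt_eq k h hh 0 j
    have hinj : Function.Injective φ := by
      have h1 : Function.Injective (P.toImage.app V) := P.toImage_app_injective ⟨U k n j, hU⟩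
      have h2 : Function.Injective (ξ.appLE V ⊤ hle) := by
        rw [Scheme.Hom.appLE]
        have he : (⊤ : S.Opens) = ξ ⁻¹ᵁ V := le_antisymm hle le_top
        have : IsIso (S.presheaf.map (homOfLE hle).op) := by
          have : IsIso (homOfLE hle) := ⟨homOfLE he.ge, Subsingleton.elim _ _, Subsingleton.elim _ _⟩
          infer_instance
        exact (ConcreteCategory.bijective_of_isIso (S.presheaf.map (homOfLE hle).op)).1.comp h1
      exact (Scheme.ΓSpecIso (CommRingCat.of K)).commRingCatIsoToRingEquiv.injective.comp h2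
    obtain ⟨r1, r2⟩ := range_evalAway k h hh j
    have hrange : (evalAway k h _ (aeval_X_ne_zero k h hh j)).range ≤ φ.hom.range := by
      rintro _ ⟨z, rfl⟩
      exact ⟨π z, congr($hcomp z)⟩
    exact ⟨V, hV, j, φ.hom, hj, hinj, fun l => hrange (r1 l), fun r => hrange (r2 r), hsp⟩
  have : _root_.AlgebraicGeometry.IsReduced Y := by
    have : ∀ y : Y, _root_.IsReduced (Y.presheaf.stalk y) := fun y => by
      obtain ⟨V, hV, j, φ, hy, hinj, -⟩ := hcharts y
      have : IsDomain Γ(Y, V) := hinj.isDomain φ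
      let := TopCat.Presheaf.algebra_section_stalk Y.presheaf ⟨y, hy⟩
      have := hV.isLocalization_stalk ⟨y, hy⟩
      have : IsDomain (Y.presheaf.stalk y) :=
        IsLocalization.isDomain_of_le_nonZeroDivisors (R := Γ(Y, V)) (Y.presheaf.stalk y)
          (hV.primeIdealOf ⟨y, hy⟩).asIdeal.primeCompl_le_nonZeroDivisors
      infer_instance
    exact isReduced_of_isReduced_stalk Y
  have hint : IsIntegral Y := isIntegral_of_irreducibleSpace_of_isReduced Y
  refine ⟨Y, hint, P.imageι, ξ, inferInstance, ?_, fun p => ?_, hcharts⟩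
  · rw [Scheme.Hom.toImage_imageι_assoc]; exact ptAt_toSpec k h hh 0
  · rw [Subsingleton.elim p pt]
    exact hη.eq (genericPoint_spec Y)

end Groth.Agent.Curves2.ProjModel
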