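import Mathlib.RingTheory.Valuation.LocalSubring
import Mathlib.RingTheory.DedekindDomain.Dvr
import Mathlib.RingTheory.Localization.FractionRing
import Mathlib.FieldTheory.IntermediateField.Adjoin.Algebra

/-!
Local rings of the projective model of a function field: if every valuation ring of `K/k` contains one of two
affine models `k[f]`, `k[g]` and is a localization of it, then every local ring of the closure of the point
`(fᵢ gⱼ)` in projective space is a valuation ring.
-/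

universe u v

namespace Groth.Agent.Curves2.ProjModel

variable {k : Type u} {K : Type u} [Field k] [Field K] [Algebra k K]

/-- every element of `O` is a fraction from `A` with denominator a unit of `O` -/
def IsLoc (A : Subalgebra k K) (O : ValuationSubring K) : Prop :=
  (∀ a ∈ A, a ∈ O) ∧ ∀ x ∈ O, ∃ a ∈ A, ∃ s ∈ A, s ≠ 0 ∧ s⁻¹ ∈ O ∧ x = a / s

theorem isLoc_of_isDedekindDomain (A : Subalgebra k K) [IsDedekindDomain A] [IsFractionRing A K]
    (O : ValuationSubring K) (hle : ∀ a ∈ A, a ∈ O) : IsLoc A O := by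
  refine ⟨hle, fun x hx => ?_⟩
  let j : A →+* O := A.val.toRingHom.codRestrict O.toSubring fun a => hle a a.2
  let q : Ideal A := (IsLocalRing.maximalIdeal O).comap j
  have : q.IsPrime := Ideal.IsPrime.comap j
  have hv : ValuationRing (Localization.AtPrime q) := by
    by_cases hq : q = ⊥
    · let hF : IsField (Localization.AtPrime q) := by
        rw [IsLocalRing.isField_iff_maximalIdeal_eq, ← IsLocalization.AtPrime.map_eq_maximalIdeal q (Localization.AtPrime q)]
        rw [Ideal.map_eq_bot_iff_of_injective (IsLocalization.injective (Localization.AtPrime q) q.primeCompl_le_nonZeroDivisors)]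
        exact hq
      let := hF.toField
      infer_instance
    · have := IsLocalization.AtPrime.isDiscreteValuationRing_of_dedekind_domain A hq (Localization.AtPrime q)
      infer_instance
  obtain ⟨a, c, hc, rfl⟩ := IsFractionRing.div_surjective A (K := K) x
  have hc0 : (c : K) ≠ 0 := fun h => nonZeroDivisors.ne_zero hc (Subtype.ext h)
  have hu : ∀ w : A, w ∉ q → (w : K) ≠ 0 ∧ (w : K)⁻¹ ∈ O := by
    intro w hw
    have hwu : IsUnit (j w) := IsLocalRing.notMem_maximalIdeal.1 hw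
    obtain ⟨v, hv⟩ := hwu.exists_right_inv
    have hv' : (w : K) * (v : K) = 1 := congrArg Subtype.val hv
    exact ⟨left_ne_zero_of_mul_eq_one hv', by rw [inv_eq_of_mul_eq_one_right hv']; exact v.2⟩
  have hcancel : ∀ {y z : A}, algebraMap A (Localization.AtPrime q) y ∣ algebraMap A (Localization.AtPrime q) z →
      ∃ e w : A, w ∉ q ∧ z * w = y * e := by
    rintro y z ⟨t, ht⟩
    obtain ⟨⟨e, w⟩, hew⟩ := IsLocalization.surj q.primeCompl t
    refine ⟨e, w, w.2, IsLocalization.injective (Localization.AtPrime q) q.primeCompl_le_nonZeroDivisors ?_⟩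
    rw [map_mul, map_mul, ht, mul_assoc, hew]
  rcases (ValuationRing.iff_dvd_total.1 hv).total (algebraMap A (Localization.AtPrime q) c)
    (algebraMap A (Localization.AtPrime q) a) with h | h
  · obtain ⟨e, w, hw, he⟩ := hcancel h
    obtain ⟨hw0, hwO⟩ := hu w hw
    refine ⟨e, e.2, w, w.2, hw0, hwO, ?_⟩
    show (a : K) / (c : K) = (e : K) / (w : K)
    rw [div_eq_div_iff hc0 hw0, mul_comm (e : K)]
    exact congrArg Subtype.val he
  · obtain ⟨e, w, hw, he⟩ := hcancel h
    obtain ⟨hw0, hwO⟩ := hu w hw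
    have he' : (c : K) * w = a * e := congrArg Subtype.val he
    have hxe : (a : K) / c * e = w := by
      rw [div_mul_eq_mul_div, ← he', mul_div_cancel_left₀ _ hc0]
    have he0 : (e : K) ≠ 0 := fun h0 => hw0 (by rw [← hxe, h0, mul_zero])
    refine ⟨w, w.2, e, e.2, he0, ?_, ?_⟩
    · have : (e : K)⁻¹ = (a : K) / c * (w : K)⁻¹ := by
        rw [← hxe, mul_inv, ← mul_assoc, mul_inv_cancel₀ (left_ne_zero_of_mul (hxe ▸ hw0)), one_mul]
      rw [this]; exact mul_mem hx hwO
    · show (a : K) / (c : K) = (w : K) / (e : K)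
      rw [eq_div_iff he0, hxe]

variable {ι κ : Type v} (f : ι → K) (g : κ → K)

theorem subset_range (i0 : ι) (hf1 : f i0 = 1) (hf : ∀ i, f i ≠ 0) (hg : ∀ j, g j ≠ 0) (a : ι) (b : κ)
    {S : Type u} [CommRing S] (ψ : S →+* K) (O : ValuationSubring K) (hψ : ∀ s, ψ s ∈ O)
    (hloc : ∀ s, (ψ s)⁻¹ ∈ O → ψ s ≠ 0 → IsUnit s)
    (hgen : ∀ i j, f i * g j / (f a * g b) ∈ ψ.range) (hk : ∀ r : k, algebraMap k K r ∈ ψ.range)
    (hO : IsLoc (Algebra.adjoin k (Set.range f)) O) : ∀ x ∈ O, x ∈ ψ.range := by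
  have hquot : ∀ i, f i / f a ∈ ψ.range := fun i => by
    have := hgen i b
    rwa [mul_div_mul_right _ _ (hg b)] at this
  obtain ⟨α, hα⟩ := hquot i0
  rw [hf1, one_div] at hα
  obtain ⟨u, rfl⟩ := hloc α (by rw [hα, inv_inv]; exact hO.1 _ (Algebra.subset_adjoin ⟨a, rfl⟩))
    (by rw [hα]; exact inv_ne_zero (hf a))
  have hinv : ψ (u⁻¹ : Sˣ) = f a := by
    rw [map_units_inv, hα, inv_inv]
  have hfr : ∀ i, f i ∈ ψ.range := fun i => by
    have := ψ.range.mul_mem (hquot i) ⟨_, hinv⟩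
    rwa [div_mul_cancel₀ _ (hf a)] at this
  let L : Subalgebra k K := { ψ.range.toSubsemiring with algebraMap_mem' := hk }
  have hle : Algebra.adjoin k (Set.range f) ≤ L := Algebra.adjoin_le (Set.range_subset_iff.2 hfr)
  intro x hx
  obtain ⟨y, hy, s, hs, hs0, hsO, rfl⟩ := hO.2 x hx
  obtain ⟨σ, hσ⟩ : s ∈ ψ.range := hle hs
  obtain ⟨v, rfl⟩ := hloc σ (by rw [hσ]; exact hsO) (by rw [hσ]; exact hs0)
  obtain ⟨τ, hτ⟩ : y ∈ ψ.range := hle hy
  exact ⟨τ * (v⁻¹ : Sˣ), by rw [map_mul, hτ, map_units_inv, hσ, div_eq_mul_inv]⟩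

/-- The local rings of the product embedding are valuation rings. -/
theorem frac_total (i0 : ι) (j0 : κ) (hf1 : f i0 = 1) (hg1 : g j0 = 1) (hf : ∀ i, f i ≠ 0)
    (hg : ∀ j, g j ≠ 0)
    (hcov : ∀ O : ValuationSubring K, (∀ r : k, algebraMap k K r ∈ O) →
      IsLoc (Algebra.adjoin k (Set.range f)) O ∨ IsLoc (Algebra.adjoin k (Set.range g)) O)
    {R : Type u} [CommRing R] (φ : R →+* K) (hφ : Function.Injective φ) (a : ι) (b : κ)
    (hgen : ∀ i j, f i * g j / (f a * g b) ∈ φ.range) (hk : ∀ r : k, algebraMap k K r ∈ φ.range)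
    (p : Ideal R) [p.IsPrime] (x : K) :
    (∃ c d, d ∉ p ∧ φ d ≠ 0 ∧ x = φ c / φ d) ∨ (∃ c d, d ∉ p ∧ φ d ≠ 0 ∧ x⁻¹ = φ c / φ d) := by
  have hu : ∀ d : p.primeCompl, IsUnit (φ d) := fun d =>
    IsUnit.mk0 _ fun h => d.2 (by rw [hφ (h.trans (map_zero φ).symm)]; exact p.zero_mem)
  let ψ : Localization.AtPrime p →+* K := IsLocalization.lift hu
  obtain ⟨O, hψ, hl⟩ := IsLocalRing.exists_factor_valuationRing ψ
  have hloc : ∀ s, (ψ s)⁻¹ ∈ O → ψ s ≠ 0 → IsUnit s := fun s h h0 =>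
    hl.map_nonunit s (IsUnit.of_mul_eq_one ⟨_, h⟩ (Subtype.ext (mul_inv_cancel₀ h0)))
  have hr : φ.range ≤ ψ.range := by
    rintro _ ⟨r, rfl⟩; exact ⟨algebraMap R _ r, IsLocalization.lift_eq hu r⟩
  have hsub : ∀ y ∈ O, y ∈ ψ.range := by
    rcases hcov O (fun r => by obtain ⟨s, hs⟩ := hr (hk r); rw [← hs]; exact hψ s) with h | h
    · exact subset_range f g i0 hf1 hf hg a b ψ O hψ hloc (fun i j => hr (hgen i j)) (fun r => hr (hk r)) h
    · refine subset_range g f j0 hg1 hg hf b a ψ O hψ hloc (fun j i => hr ?_) (fun r => hr (hk r)) h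
      rw [mul_comm, mul_comm (g b)]; exact hgen i j
  have hfr : ∀ y ∈ O, ∃ c d, d ∉ p ∧ φ d ≠ 0 ∧ y = φ c / φ d := by
    intro y hy
    obtain ⟨s, rfl⟩ := hsub y hy
    obtain ⟨⟨c, d⟩, hcd⟩ := IsLocalization.surj p.primeCompl s
    refine ⟨c, d, d.2, (hu d).ne_zero, ?_⟩
    rw [eq_div_iff (hu d).ne_zero]
    have := congrArg ψ hcd
    rwa [map_mul, IsLocalization.lift_eq, IsLocalization.lift_eq] at this
  exact (O.mem_or_inv_mem x).imp (hfr x) (hfr x⁻¹)

end Groth.Agent.Curves2.ProjModel
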