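import Groth.Agent.Crv77.Sections
import Groth.Agent.EGA73.Invertible
import Groth.Prelude.Def_Omega4

/-!
# Pulling back global sections, linearly over the base
-/

set_option autoImplicit false

universe u

open CategoryTheory AlgebraicGeometry

namespace Groth.Agent.Curves2

variable (A : Type u) [CommRing A] {X X' : Scheme.{u}} [X.Over (Spec (CommRingCat.of A))]
  [X'.Over (Spec (CommRingCat.of A))]

theorem toGlobal_comp (h : X' ⟶ X) (hh : h ≫ X ↘ Spec (CommRingCat.of A) = X' ↘ Spec (CommRingCat.of A))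
    (a : A) : h.app ⊤ (Coh.toGlobal (X ↘ Spec (CommRingCat.of A)) a) =
      Coh.toGlobal (X' ↘ Spec (CommRingCat.of A)) a := by
  rw [← hh]
  rfl

/-- `H⁰(X, M) → H⁰(X', h^* M)`, linear over the base ring. -/
noncomputable def h0PullSect (h : X' ⟶ X)
    (hh : h ≫ X ↘ Spec (CommRingCat.of A) = X' ↘ Spec (CommRingCat.of A)) (M : X.Modules) :
    Coh.HH X M 0 →ₗ[A] Coh.HH X' ((Scheme.Modules.pullback h).obj M) 0 where
  toFun x := (Crv77.sec ((Scheme.Modules.pullback h).obj M)).symm
    (OmegaSh.pullSect h M ⊤ (Crv77.sec M x))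
  map_add' x y := by
    apply (Crv77.sec ((Scheme.Modules.pullback h).obj M)).injective
    simp only [AddEquiv.apply_symm_apply, map_add]
    rfl
  map_smul' a x := by
    apply (Crv77.sec ((Scheme.Modules.pullback h).obj M)).injective
    rw [RingHom.id_apply, AddEquiv.apply_symm_apply, Crv77.sec_smul, Crv77.sec_smul,
      AddEquiv.apply_symm_apply, OmegaSh.pullSect_smul]
    exact congrArg (· • OmegaSh.pullSect h M ⊤ (Crv77.sec M x)) (toGlobal_comp A h hh a)

theorem sec_h0PullSect (h : X' ⟶ X)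
    (hh : h ≫ X ↘ Spec (CommRingCat.of A) = X' ↘ Spec (CommRingCat.of A)) (M : X.Modules)
    (x : Coh.HH X M 0) :
    Crv77.sec ((Scheme.Modules.pullback h).obj M) (h0PullSect A h hh M x) =
      OmegaSh.pullSect h M ⊤ (Crv77.sec M x) :=
  AddEquiv.apply_symm_apply _ _

theorem h0PullSect_injective (h : X' ⟶ X)
    (hh : h ≫ X ↘ Spec (CommRingCat.of A) = X' ↘ Spec (CommRingCat.of A)) (M : X.Modules)
    (hinj : ∀ s : Γ(M, ⊤), s ≠ 0 → OmegaSh.pullSect h M ⊤ s ≠ 0) :
    Function.Injective (h0PullSect A h hh M) := by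
  refine (injective_iff_map_eq_zero _).2 fun x hx => ?_
  by_contra hne
  refine hinj (Crv77.sec M x) (fun h0 => hne ((Crv77.sec M).injective (h0.trans (map_zero _).symm))) ?_
  rw [← sec_h0PullSect A h hh M x, hx]
  exact map_zero _

end Groth.Agent.Curves2
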