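import Groth.Agent.Props58.PullTensor
import Groth.Agent.Curves2.PullSections

/-! Pullback of sections along a dominant morphism of integral schemes is injective. -/

set_option autoImplicit false
universe u

open CategoryTheory AlgebraicGeometry TopologicalSpace

namespace Groth.Agent.Curves2

theorem pullSect_ne_zero_of_dominant {X Y : Scheme.{u}} [IsIntegral X] [IsIntegral Y] (f : X ⟶ Y)
    (e : f (genericPoint X) = genericPoint Y) {L : Y.Modules} (hL : FlatMod.IsFinLocFreeOfRank 1 L)
    (s : Γ(L, ⊤)) (hs : s ≠ 0) : OmegaSh.pullSect f L ⊤ s ≠ 0 := by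
  intro h0
  refine hs (Var76.ZeroScheme.eq_of_locally L s 0 fun y _ => ?_)
  obtain ⟨U, hyU, t, ht⟩ := Var76.LineBundle.exists_frame hL y
  refine ⟨U, le_top, hyU, ?_⟩
  obtain ⟨a, ha⟩ := (ht U le_rfl).2 (Var76.LineBundle.res L le_top s)
  simp only [Amp73.res_self] at ha
  have h1 : Amp73.pullS f L U (Var76.LineBundle.res L le_top s) = 0 := by
    refine (OmegaSh.pullSect_map f L (le_top : U ≤ ⊤) s).trans ?_
    rw [h0]
    exact map_zero _
  rw [← ha, Amp73.pullS_smul] at h1
  have h2 : f.app U a = 0 := by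
    refine (Props58.PullTensor.isFrame_pullS f ht _ le_rfl).1 ?_
    simp only [Amp73.res_self]
    rw [h1, zero_smul]
  have h3 : a = 0 := by
    rw [← basicOpen_eq_bot_iff]
    refine bot_unique fun z hz => ?_
    have hg : genericPoint Y ∈ Y.basicOpen a :=
      ((genericPoint_spec Y).mem_open_set_iff (Y.basicOpen a).2).2 ⟨z, trivial, hz⟩
    have h4 : genericPoint X ∈ f ⁻¹ᵁ Y.basicOpen a := show f (genericPoint X) ∈ Y.basicOpen a from e ▸ hg
    rw [Scheme.preimage_basicOpen, h2, Scheme.basicOpen_zero] at h4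
    exact h4
  rw [← ha, h3, zero_smul]
  exact (map_zero _).symm

end Groth.Agent.Curves2
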