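import Groth.Agent.Curves2.LineExists
import Groth.Agent.Curves2.ProjLineProper

/-! One-dimensional separated schemes of finite type over a field are quasi-projective. -/

set_option autoImplicit false

universe u

open CategoryTheory CategoryTheory.Limits AlgebraicGeometry Opposite TopologicalSpace

noncomputable section

set_option backward.isDefEq.respectTransparency false

namespace Groth.Agent.Curves2

variable (k : Type u) [Field k] (X : Scheme.{u}) [X.Over (Spec (CommRingCat.of k))]
  [IsSeparated (X ↘ Spec (CommRingCat.of k))] [LocallyOfFiniteType (X ↘ Spec (CommRingCat.of k))]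
  [QuasiCompact (X ↘ Spec (CommRingCat.of k))]

include k in
theorem exists_linePair (hdim : topologicalKrullDim X ≤ 1) : Nonempty (LinePair X) := by
  have : IsLocallyNoetherian X := LocallyOfFiniteType.isLocallyNoetherian (X ↘ Spec (CommRingCat.of k))
  have : CompactSpace X := QuasiCompact.compactSpace_of_compactSpace (X ↘ Spec (CommRingCat.of k))
  have : IsNoetherian X := {}
  let R : X.IdealSheafData := Scheme.IdealSheafData.vanishingIdeal ⊤
  have : AlgebraicGeometry.IsReduced R.subscheme := SchBasics.isReduced_vanishingIdeal_subscheme _
  have : Surjective R.subschemeι := ⟨fun x => by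
    have h : x ∈ Set.range R.subschemeι := by rw [range_vanishingIdeal]; trivial
    exact h⟩
  let : R.subscheme.Over (Spec (CommRingCat.of k)) := ⟨R.subschemeι ≫ (X ↘ Spec (CommRingCat.of k))⟩
  have : IsSeparated (R.subscheme ↘ Spec (CommRingCat.of k)) :=
    inferInstanceAs (IsSeparated (R.subschemeι ≫ (X ↘ Spec (CommRingCat.of k))))
  have : LocallyOfFiniteType (R.subscheme ↘ Spec (CommRingCat.of k)) :=
    inferInstanceAs (LocallyOfFiniteType (R.subschemeι ≫ (X ↘ Spec (CommRingCat.of k))))
  have : IsLocallyNoetherian R.subscheme := LocallyOfFiniteType.isLocallyNoetherian R.subschemeι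
  have : CompactSpace R.subscheme := QuasiCompact.compactSpace_of_compactSpace R.subschemeι
  have : IsNoetherian R.subscheme := {}
  have hdR : topologicalKrullDim R.subscheme ≤ 1 :=
    (R.subschemeι.isClosedEmbedding.isInducing.topologicalKrullDim_le).trans hdim
  obtain ⟨D⟩ := exists_linePair_of_isReduced k R.subscheme hdR
  exact exists_linePair_of_surjective_closedImmersion R.subschemeι D

/-- A separated one-dimensional scheme of finite type over a field is quasi-projective. -/
theorem exists_immersion_projSpace (hdim : topologicalKrullDim X ≤ 1) :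
    ∃ (N : ℕ) (φ : X ⟶ CohB1.ProjSpace N k), IsImmersion φ ∧
      φ ≫ CohB1.ProjSpace.toSpec N k = X ↘ Spec (CommRingCat.of k) := by
  obtain ⟨D⟩ := exists_linePair k X hdim
  exact exists_immersion_of_linePair X D

end Groth.Agent.Curves2
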