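import Mathlib.RingTheory.Smooth.Fiber
import Mathlib.RingTheory.Smooth.Locus
import Mathlib.RingTheory.Unramified.LocalRing
import Mathlib.RingTheory.DiscreteValuationRing.TFAE
import Mathlib.RingTheory.Flat.TorsionFree
import Mathlib.RingTheory.Etale.Field
import Mathlib.RingTheory.FinitePresentation
import Mathlib.RingTheory.Algebraic.Integral
import Mathlib.FieldTheory.PurelyInseparable.Basic

/-! A one-dimensional normal finite type domain is smooth at points with separable residue field. -/

set_option autoImplicit false
universe u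

open Polynomial

namespace Groth.Agent.Curves2

theorem transcendental_of_mem_prime {k A : Type*} [Field k] [CommRing A] [IsDomain A] [Algebra k A]
    (m : Ideal A) [m.IsPrime] {t : A} (ht : t ∈ m) (ht0 : t ≠ 0) :
    Function.Injective (Polynomial.aeval t : k[X] →ₐ[k] A) := by
  refine transcendental_iff_injective.mp fun halg => ?_
  obtain ⟨p, hp0, hpt⟩ := halg
  obtain ⟨j, q, hq0, rfl⟩ : ∃ j q, q.coeff 0 ≠ 0 ∧ p = X ^ j * q := by
    obtain ⟨q, hq, hq'⟩ := Polynomial.exists_eq_pow_rootMultiplicity_mul_and_not_dvd p hp0 0
    refine ⟨p.rootMultiplicity 0, q, ?_, by simpa using hq⟩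
    rw [map_zero, sub_zero] at hq'
    exact fun h => hq' (Polynomial.X_dvd_iff.mpr h)
  rw [map_mul, map_pow, aeval_X, mul_eq_zero] at hpt
  have hq : aeval t q = 0 := hpt.resolve_left (pow_ne_zero _ ht0)
  apply (inferInstance : m.IsPrime).ne_top
  refine Ideal.eq_top_of_isUnit_mem m (x := algebraMap k A (q.coeff 0)) ?_ ((Ne.isUnit hq0).map _)
  have h1 : aeval t q = t * aeval t q.divX + algebraMap k A (q.coeff 0) := by
    conv_lhs => rw [← Polynomial.X_mul_divX_add q, map_add, map_mul, aeval_X, aeval_C]
  rw [hq] at h1
  rw [eq_neg_of_add_eq_zero_right h1.symm]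
  exact neg_mem (m.mul_mem_right _ ht)

theorem isSmoothAt_of_separable_residue (k A : Type u) [Field k] [CommRing A] [IsDomain A] [Algebra k A]
    [Algebra.FiniteType k A] (m : Ideal A) [hm : m.IsMaximal]
    (hic : IsIntegrallyClosed (Localization.AtPrime m))
    (hdim : Ring.KrullDimLE 1 (Localization.AtPrime m))
    (hsep : Algebra.IsSeparable k m.ResidueField) :
    Algebra.IsSmoothAt k m := by
  have : IsNoetherianRing A := Algebra.FiniteType.isNoetherianRing k A
  set O := Localization.AtPrime m
  have : IsNoetherianRing O := IsLocalization.isNoetherianRing m.primeCompl O inferInstance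
  by_cases hm0 : m = ⊥
  · -- `A` is a field, separable over `k`
    have hF : IsField A := by
      by_contra h
      exact (Ring.ne_bot_of_isMaximal_of_not_isField hm h) hm0
    let := hF.toField
    have hb : Function.Bijective (algebraMap A m.ResidueField) :=
      ⟨(algebraMap A m.ResidueField).injective, fun y => by
        obtain ⟨z, hz⟩ := m.bijective_algebraMap_quotient_residueField.2 y
        obtain ⟨a, rfl⟩ := Ideal.Quotient.mk_surjective z
        exact ⟨a, by rw [← hz]; rfl⟩⟩
    have : Algebra.IsSeparable k A :=
      AlgEquiv.Algebra.isSeparable (AlgEquiv.ofBijective (IsScalarTower.toAlgHom k A m.ResidueField) hb).symm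
    have : Algebra.FormallyEtale k A := Algebra.FormallyEtale.of_isSeparable k A
    have : Algebra.FormallyEtale A O := .of_isLocalization m.primeCompl
    exact Algebra.FormallySmooth.comp k A O
  -- uniformizer
  have hp : IsPrincipalIdealRing O :=
    ((tfae_of_isNoetherianRing_of_isLocalRing_of_isDomain O).out 0 3 rfl rfl).mpr
      ⟨hic, fun P hP0 hP => IsLocalRing.eq_maximalIdeal
        (Ring.krullDimLE_one_iff_of_noZeroDivisors.mp hdim P hP0 hP)⟩
  obtain ⟨π, hπ⟩ := (hp.principal (IsLocalRing.maximalIdeal O))
  rw [← Ideal.span] at hπ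
  obtain ⟨t, s, rfl⟩ := IsLocalization.exists_mk'_eq m.primeCompl π
  have hspan : Ideal.span {algebraMap A O t} = IsLocalRing.maximalIdeal O := by
    rw [hπ, ← IsLocalization.mk'_spec O t s]
    exact Ideal.span_singleton_mul_right_unit (IsLocalization.map_units O s) _
  have htm : t ∈ m := by
    have h : algebraMap A O t ∈ IsLocalRing.maximalIdeal O := hspan ▸ Ideal.mem_span_singleton_self _
    exact (IsLocalization.AtPrime.to_map_mem_maximal_iff O m t).mp h
  have ht0 : t ≠ 0 := by
    rintro rfl
    rw [map_zero, Ideal.span_singleton_eq_bot.mpr rfl, ← Localization.AtPrime.map_eq_maximalIdeal, eq_comm,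
      Ideal.map_eq_bot_iff_of_injective (IsLocalization.injective O m.primeCompl_le_nonZeroDivisors)] at hspan
    exact hm0 hspan
  let φ : k[X] →ₐ[k] A := Polynomial.aeval t
  let : Algebra k[X] A := φ.toRingHom.toAlgebra
  have : IsScalarTower k k[X] A := .of_algebraMap_eq fun r => (φ.commutes r).symm
  have : FaithfulSMul k[X] A :=
    (faithfulSMul_iff_algebraMap_injective _ _).mpr (transcendental_of_mem_prime m htm ht0)
  have : Algebra.FiniteType k[X] A := Algebra.FiniteType.of_restrictScalars_finiteType k k[X] A
  have : Algebra.FinitePresentation k[X] A := Algebra.FinitePresentation.of_finiteType.mp ‹_›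
  have : Module.IsTorsionFree k[X] A :=
    Module.isTorsionFree_iff_algebraMap_injective.mpr (transcendental_of_mem_prime m htm ht0)
  have : Module.Flat k[X] A := inferInstance
  set p := m.under k[X] with hp'
  let := Localization.AtPrime.algebraOfLiesOver p m
  have : Algebra.IsUnramifiedAt k[X] m := by
    rw [Algebra.isUnramifiedAt_iff_map_eq k[X] p m]
    refine ⟨Algebra.isSeparable_tower_top_of_isSeparable k p.ResidueField m.ResidueField,
      le_antisymm ?_ (hspan ▸ ?_)⟩
    · rw [IsScalarTower.algebraMap_eq k[X] A O, ← Ideal.map_map, ← Localization.AtPrime.map_eq_maximalIdeal]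
      exact Ideal.map_mono Ideal.map_comap_le
    · rw [Ideal.span_singleton_le_iff_mem, IsScalarTower.algebraMap_eq k[X] A O, ← Ideal.map_map]
      refine Ideal.mem_map_of_mem _ ?_
      have hX : algebraMap k[X] A X = t := Polynomial.aeval_X t
      rw [← hX]
      exact Ideal.mem_map_of_mem _ (show algebraMap k[X] A X ∈ m by rw [hX]; exact htm)
  have := Algebra.IsEtaleAt.of_isUnramifiedAt_of_flat (R := k[X]) m
  have : Algebra.FormallySmooth k[X] O := inferInstance
  exact Algebra.FormallySmooth.comp k k[X] O

end Groth.Agent.Curves2
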