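import Groth.Agent.Curves2.CurveToolkit

/-!
# Invertible submodules of invertible modules on curves
-/

set_option autoImplicit false

universe u

open CategoryTheory CategoryTheory.Limits AlgebraicGeometry

namespace Groth.Agent.Curves2

open Groth.Agent.Crv77

variable {k : Type u} [Field k] {X : Scheme.{u}} [X.Over (Spec (CommRingCat.of k))] [IsIntegral X]

/-- A proper submodule with a section has smaller degree. -/
theorem deg_lt_of_mono (hX : CurveCoh k X) [IsNoetherian X] (hdim : topologicalKrullDim X ≤ 1)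
    {M L : X.Modules} (hM : PicF.IsInvertible M) (hL : PicF.IsInvertible L) (ι : M ⟶ L) [Mono ι]
    (hι : ¬ IsIso ι) (h0 : Nontrivial (Coh.HH X M 0)) :
    Curv2.deg k X M 1 < Curv2.deg k X L 1 := by
  obtain ⟨x, hx⟩ := exists_ne (0 : Coh.HH X M 0)
  have hsec : (toHom x ≫ ι).app ⊤ (1 : Γ(X, ⊤)) ≠ 0 := by
    intro h
    refine hx ((sec M).injective ?_)
    rw [map_zero]
    refine QC70.app_injective_of_mono ι ⊤ ?_
    rw [map_zero, ← toHom_app_one x]
    exact h
  obtain ⟨-, hgen⟩ := section_of_invertible hL (toHom x ≫ ι) hsec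
  have hsurj : Function.Surjective (QC70.stalkMapM ι (genericPoint X)) := by
    intro e
    obtain ⟨d, hd⟩ := hgen e
    refine ⟨QC70.stalkMapM (toHom x) _ d, ?_⟩
    rw [← hd]
    obtain ⟨W, hW, m, rfl⟩ := QC70.germM_exist d
    rw [QC70.stalkMapM_germ, QC70.stalkMapM_germ, QC70.stalkMapM_germ]
    rfl
  have hMc := isCoh_of_isInvertible hM
  have hLc := isCoh_of_isInvertible hL
  have hQ := isCoh_cokernel ι hMc hLc
  obtain ⟨S, hS, hcl, hsupp⟩ := exists_suppIn hdim hQ (QC70.subsingleton_stalk_cokernel ι _ hsurj)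
  let T := ShortComplex.mk ι (cokernel.π ι) (cokernel.condition _)
  have hT : T.ShortExact :=
    { exact := ShortComplex.exact_of_g_is_cokernel _ (cokernelIsCokernel _)
      mono_f := inferInstanceAs (Mono ι)
      epi_g := inferInstanceAs (Epi (cokernel.π _)) }
  have e := hX.euler_add hT hMc hLc
  rw [hX.euler_eq_of_suppIn hQ hsupp hS hcl] at e
  simp only [Curv2.deg]
  change Curv2.euler k X L = _ at e
  change _ - _ < _
  have hpos : 0 < Module.finrank k (Coh.HH X (cokernel ι) 0) := by
    have := hX.finite _ hQ 0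
    by_contra hcon
    have h0' : Subsingleton (Coh.HH X (cokernel ι) 0) := by
      rw [← Module.finrank_zero_iff (R := k)]; omega
    have : Epi ι := CategoryTheory.Abelian.epi_of_cokernel_π_eq_zero ι
      ((Crv77.SuppIn.isZero hsupp hS hcl h0').eq_zero_of_tgt _)
    exact hι (isIso_of_mono_of_epi ι)
  simp only [Crv77.h] at e
  change _ = Curv2.euler k X M + _ at e
  omega

end Groth.Agent.Curves2
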