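import Mathlib.RingTheory.Kaehler.Basic
import Mathlib.RingTheory.Unramified.LocalRing
import Mathlib.RingTheory.Unramified.Field
import Mathlib.RingTheory.Etale.Basic
import Mathlib.RingTheory.RingHom.StandardSmooth
import Mathlib.RingTheory.Smooth.Flat
import Mathlib.RingTheory.Jacobson.Ring
import Mathlib.RingTheory.Flat.Stability
import Mathlib.RingTheory.Flat.TorsionFree

/-! Ramified points with separable relative residue extension on a smooth curve have separable
residue fields. -/

set_option autoImplicit false
universe u

open KaehlerDifferential IsLocalRing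

namespace Groth.Agent.Curves2

/-- A derivation into a module with `Ω[B⁄A] = 0` killing `A` vanishes. -/
theorem derivation_eq_zero_of_vanish {k A B M : Type u} [CommRing k] [CommRing A] [CommRing B]
    [Algebra k A] [Algebra k B] [Algebra A B] [IsScalarTower k A B]
    [Algebra.FormallyUnramified A B] [AddCommGroup M] [Module k M] [Module B M] [IsScalarTower k B M]
    (D : Derivation k B M) (h : ∀ a : A, D (algebraMap A B a) = 0) : D = 0 := by
  let : Module A M := Module.compHom M (algebraMap A B)
  have : IsScalarTower A B M := ⟨fun a b m => by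
    show (a • b) • m = algebraMap A B a • b • m
    rw [Algebra.smul_def, mul_smul]⟩
  let L : B →ₗ[A] M :=
    { toFun := D
      map_add' := map_add D
      map_smul' := fun a b => by
        rw [Algebra.smul_def, Derivation.leibniz, h, smul_zero, add_zero, RingHom.id_apply]
        rfl }
  let D' : Derivation A B M := Derivation.mk' L fun a b => D.leibniz a b
  have : Subsingleton Ω[B⁄A] := (Algebra.formallyUnramified_iff A B).mp inferInstance
  ext b
  have e := Derivation.congr_fun (Derivation.liftKaehlerDifferential_comp D') b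
  show D' b = 0
  rw [← e]
  show D'.liftKaehlerDifferential (KaehlerDifferential.D A B b) = 0
  rw [Subsingleton.elim (KaehlerDifferential.D A B b) 0, map_zero]

theorem span_D_eq_top {k P O : Type u} [CommRing k] [CommRing P] [CommRing O] [Algebra k P]
    [Algebra k O] [Algebra P O] [IsScalarTower k P O] [Algebra.FormallyUnramified P O]
    (T : P) (hgen : Algebra.adjoin k ({T} : Set P) = ⊤) :
    Submodule.span O {KaehlerDifferential.D k O (algebraMap P O T)} = ⊤ := by
  set N := Submodule.span O {KaehlerDifferential.D k O (algebraMap P O T)}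
  let D : Derivation k O (Ω[O⁄k] ⧸ N) := N.mkQ.compDer (KaehlerDifferential.D k O)
  have h : ∀ a : P, D (algebraMap P O a) = 0 := by
    intro a
    have ha : a ∈ Algebra.adjoin k ({T} : Set P) := hgen ▸ Algebra.mem_top
    induction ha using Algebra.adjoin_induction with
    | mem x hx =>
      obtain rfl := Set.mem_singleton_iff.mp hx
      exact (Submodule.Quotient.mk_eq_zero _).mpr (Submodule.mem_span_singleton_self _)
    | algebraMap r => rw [← IsScalarTower.algebraMap_apply, Derivation.map_algebraMap]
    | add x y _ _ hx hy => rw [map_add, map_add, hx, hy, add_zero]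
    | mul x y _ _ hx hy => rw [map_mul, Derivation.leibniz, hx, hy, smul_zero, smul_zero, add_zero]
  have hD := derivation_eq_zero_of_vanish D h
  rw [eq_top_iff, ← KaehlerDifferential.span_range_derivation, Submodule.span_le]
  rintro _ ⟨b, rfl⟩
  exact (Submodule.Quotient.mk_eq_zero _).mp (Derivation.congr_fun hD b)

theorem formallyUnramified_of_inseparable {k R O : Type u} [Field k] [CommRing R] [CommRing O]
    [IsLocalRing R] [IsLocalRing O] [Algebra k R] [Algebra k O] [Algebra R O] [IsScalarTower k R O]
    [IsLocalHom (algebraMap R O)] [Algebra.EssFiniteType k O]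
    (η : Ω[O⁄k]) (hη : Submodule.span O {η} = ⊤)
    (hsep : Algebra.IsSeparable (ResidueField R) (ResidueField O))
    (hins : ¬ Algebra.IsSeparable k (ResidueField O)) : Algebra.FormallyUnramified R O := by
  have : Algebra.EssFiniteType O (ResidueField O) :=
    inferInstanceAs (Algebra.EssFiniteType O (O ⧸ maximalIdeal O))
  have : Algebra.EssFiniteType k (ResidueField O) := Algebra.EssFiniteType.comp k O _
  have : Algebra.FormallyUnramified (ResidueField R) (ResidueField O) :=
    Algebra.FormallyUnramified.of_isSeparable _ _
  obtain ⟨r, hr⟩ : ∃ r : R,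
      KaehlerDifferential.D k (ResidueField O) (residue O (algebraMap R O r)) ≠ 0 := by
    by_contra hc
    push Not at hc
    apply hins
    rw [← Algebra.FormallyUnramified.iff_isSeparable, Algebra.formallyUnramified_iff]
    have h0 : KaehlerDifferential.D k (ResidueField O) = 0 := by
      refine derivation_eq_zero_of_vanish (A := ResidueField R) _ fun a => ?_
      obtain ⟨a, rfl⟩ := residue_surjective a
      exact hc a
    refine subsingleton_of_forall_eq 0 fun w => ?_
    have hw : w ∈ Submodule.span (ResidueField O)
        (Set.range (KaehlerDifferential.D k (ResidueField O))) :=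
      (KaehlerDifferential.span_range_derivation k (ResidueField O)).symm ▸ Submodule.mem_top
    induction hw using Submodule.span_induction with
    | mem x hx => obtain ⟨b, rfl⟩ := hx; rw [h0]; rfl
    | zero => rfl
    | add x y _ _ hx hy => rw [hx, hy, add_zero]
    | smul c x _ hx => rw [hx, smul_zero]
  obtain ⟨c, hc⟩ := Submodule.mem_span_singleton.mp
    (hη ▸ Submodule.mem_top : KaehlerDifferential.D k O (algebraMap R O r) ∈ Submodule.span O {η})
  have hcu : IsUnit c := by
    by_contra hcu
    apply hr
    have h := KaehlerDifferential.map_D k k O (ResidueField O) (algebraMap R O r)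
    rw [← hc, map_smul, ← algebraMap_smul (ResidueField O) c,
      show algebraMap O (ResidueField O) c = 0 from (residue_eq_zero_iff c).mpr hcu, zero_smul] at h
    exact h.symm
  rw [Algebra.formallyUnramified_iff]
  refine subsingleton_of_forall_eq 0 fun w => ?_
  obtain ⟨v, rfl⟩ := KaehlerDifferential.map_surjective k R O w
  obtain ⟨d, rfl⟩ := Submodule.mem_span_singleton.mp (hη ▸ Submodule.mem_top : v ∈ Submodule.span O {η})
  have e : η = (hcu.unit⁻¹ : Oˣ).1 • KaehlerDifferential.D k O (algebraMap R O r) := by
    rw [← hc, smul_smul, IsUnit.val_inv_mul, one_smul]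
  rw [e, map_smul, map_smul, KaehlerDifferential.map_D, Algebra.algebraMap_self_apply,
    Derivation.map_algebraMap, smul_zero, smul_zero]

theorem adjoin_X_eq_top (k : Type u) [CommRing k] :
    Algebra.adjoin k ({MvPolynomial.X 0} : Set (MvPolynomial (Fin 1) k)) = ⊤ := by
  rw [← MvPolynomial.adjoin_range_X (R := k) (σ := Fin 1)]
  congr 1
  ext
  simp [eq_comm]

/-- the two facts about a point of a smooth curve -/
theorem smoothCurve_local {k : Type u} [Field k] {B : Type u} [CommRing B] [Algebra k B]
    (h : (algebraMap k B).IsStandardSmoothOfRelativeDimension 1) (Q : Ideal B) [Q.IsMaximal]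
    (O : Type u) [CommRing O] [Algebra B O] [IsLocalization.AtPrime O Q] [Algebra k O]
    [IsScalarTower k B O] [IsLocalRing O] :
    Algebra.EssFiniteType k O ∧ IsNoetherianRing O ∧ maximalIdeal O ≠ ⊥ ∧
      ∃ η : Ω[O⁄k], Submodule.span O {η} = ⊤ := by
  obtain ⟨g, hg, het⟩ := h.exists_etale_mvPolynomial
  algebraize [g]
  let P := MvPolynomial (Fin 1) k
  have : IsScalarTower k P B := .of_algebraMap_eq' hg.symm
  let : Algebra P O := ((algebraMap B O).comp g).toAlgebra
  have : IsScalarTower P B O := .of_algebraMap_eq' rfl
  have : IsScalarTower k P O := .to₁₂₄ _ _ B _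
  have : Algebra.Etale P B := het
  have : Algebra.FiniteType k B := Algebra.FiniteType.trans (inferInstance : Algebra.FiniteType k P) (inferInstance : Algebra.FiniteType P B)
  have : Algebra.EssFiniteType B O := Algebra.EssFiniteType.of_isLocalization O Q.primeCompl
  have : IsNoetherianRing B := Algebra.FiniteType.isNoetherianRing k B
  have : Algebra.FormallyEtale B O := .of_isLocalization Q.primeCompl
  have : Algebra.FormallyUnramified P O := Algebra.FormallyUnramified.comp P B O
  refine ⟨Algebra.EssFiniteType.comp k B O, IsLocalization.isNoetherianRing Q.primeCompl O inferInstance,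
    ?_, _, span_D_eq_top (MvPolynomial.X 0 : P) (adjoin_X_eq_top k)⟩
  intro hbot
  have hQ : Q.map (algebraMap B O) = ⊥ := by rw [IsLocalization.AtPrime.map_eq_maximalIdeal Q O, hbot]
  set p := Q.under P
  have hp : p.IsMaximal := by
    let : Field (B ⧸ Q) := Ideal.Quotient.field Q
    have := finite_of_finite_type_of_isJacobsonRing k (B ⧸ Q)
    have : Algebra.IsIntegral k (B ⧸ Q) := Algebra.IsIntegral.of_finite k _
    have : Algebra.IsIntegral P (B ⧸ Q) := Algebra.IsIntegral.tower_top (R := k)
    have h1 := Ideal.isMaximal_comap_of_isIntegral_of_isMaximal (R := P) (⊥ : Ideal (B ⧸ Q))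
    have h2 : (⊥ : Ideal (B ⧸ Q)).comap (algebraMap P (B ⧸ Q)) = p := by
      rw [IsScalarTower.algebraMap_eq P B (B ⧸ Q), ← Ideal.comap_comap]
      congr 1
      exact Ideal.mk_ker
    rwa [h2] at h1
  have hp0 : p ≠ ⊥ := by
    intro h0
    have hX : (MvPolynomial.X 0 : P) ≠ 0 := MvPolynomial.X_ne_zero _
    have hfld : IsField P := by
      by_contra hnf
      exact Ring.ne_bot_of_isMaximal_of_not_isField hp hnf h0
    obtain ⟨y, hy⟩ := hfld.mul_inv_cancel hX
    have := congrArg (MvPolynomial.eval (0 : Fin 1 → k)) hy
    simp at this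
  obtain ⟨a, ha, ha0⟩ := Submodule.exists_mem_ne_zero_of_ne_bot hp0
  have h0 : algebraMap B O (g a) = 0 := by
    have : algebraMap B O (g a) ∈ Q.map (algebraMap B O) := Ideal.mem_map_of_mem _ ha
    rwa [hQ, Ideal.mem_bot] at this
  obtain ⟨s, hs⟩ := (IsLocalization.map_eq_zero_iff Q.primeCompl O _).mp h0
  have hs' : a • (s : B) = 0 := by rw [Algebra.smul_def, mul_comm]; exact hs
  have : Module.Flat P B := inferInstance
  have hreg : IsSMulRegular B a :=
    Module.Flat.isSMulRegular_of_nonZeroDivisors (mem_nonZeroDivisors_of_ne_zero ha0)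
  exact s.2 (by rw [show (s : B) = 0 from hreg (hs'.trans (smul_zero a).symm)]; exact Q.zero_mem)

theorem ne_pow_of_formallyUnramified {R O : Type u} [CommRing R] [CommRing O] [IsLocalRing R]
    [IsLocalRing O] [Algebra R O] [IsLocalHom (algebraMap R O)] [Algebra.EssFiniteType R O]
    [IsNoetherianRing O] [Algebra.FormallyUnramified R O] (h0 : maximalIdeal O ≠ ⊥)
    {e : ℕ} (h2 : 2 ≤ e) :
    (maximalIdeal R).map (algebraMap R O) ≠ maximalIdeal O ^ e := by
  intro he
  rw [Algebra.FormallyUnramified.map_maximalIdeal] at he
  apply h0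
  refine Submodule.eq_bot_of_le_smul_of_le_jacobson_bot (maximalIdeal O) _ (IsNoetherian.noetherian _) ?_
    (maximalIdeal_le_jacobson _)
  calc maximalIdeal O = maximalIdeal O ^ e := he
    _ ≤ maximalIdeal O ^ 2 := Ideal.pow_le_pow_right h2
    _ = maximalIdeal O • maximalIdeal O := by rw [pow_two, smul_eq_mul]

end Groth.Agent.Curves2
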