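import Groth.Agent.CAlg7.GroupAlgUnits
import Mathlib.AlgebraicGeometry.Morphisms.Affine
import Mathlib.AlgebraicGeometry.Limits
import Mathlib.AlgebraicGeometry.Properties
import Mathlib.AlgebraicGeometry.Restrict
import Mathlib.Algebra.MonoidAlgebra.MapDomain
import Mathlib.Algebra.MonoidAlgebra.Lift

/-! Units on the product of an integral scheme with a split torus. -/

universe u

open CategoryTheory CategoryTheory.Limits AlgebraicGeometry Opposite TopologicalSpace

namespace Groth.Agent.Curves2.TorusUnits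

/-- sections of the structure sheaf that agree on an open cover agree -/
theorem eq_of_appTop_ι {P : Scheme.{u}} {ι : Type*} (U : ι → P.Opens) (hU : ∀ x, ∃ i, x ∈ U i)
    {a b : Γ(P, ⊤)} (h : ∀ i, (U i).ι.appTop a = (U i).ι.appTop b) : a = b := by
  refine TopCat.Presheaf.section_ext P.sheaf ⊤ a b fun x _ => ?_
  obtain ⟨i, hi⟩ := hU x
  have : IsIso ((U i).ι.stalkMap ⟨x, hi⟩) :=
    (IsOpenImmersion.iff_isIso_stalkMap.mp (inferInstance : IsOpenImmersion (U i).ι)).2 ⟨x, hi⟩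
  apply (ConcreteCategory.bijective_of_isIso ((U i).ι.stalkMap ⟨x, hi⟩)).1
  refine (Scheme.Hom.germ_stalkMap_apply (U i).ι ⊤ ⟨x, hi⟩ trivial a).trans ?_
  refine Eq.trans ?_ (Scheme.Hom.germ_stalkMap_apply (U i).ι ⊤ ⟨x, hi⟩ trivial b).symm
  exact congrArg (fun t => (U i).toScheme.presheaf.germ ⊤ ⟨x, hi⟩ trivial t) (h i)

theorem subsingleton_hom_terminal (S : CommRingCat.{u}) : Subsingleton (Γ(⊤_ Scheme.{u}, ⊤) ⟶ S) := by
  constructor
  intro f g
  let i : Γ(⊤_ Scheme.{u}, ⊤) ≅ CommRingCat.of (ULift.{u} ℤ) :=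
    (Scheme.Γ.mapIso (terminalIsTerminal.uniqueUpToIso specULiftZIsTerminal).symm.op) ≪≫
      Scheme.ΓSpecIso _
  rw [← cancel_epi i.inv]
  ext ⟨m⟩
  exact congrArg (fun φ : ℤ →+* S => φ m) (RingHom.ext_int ((i.inv ≫ f).hom.comp ULift.ringEquiv.symm.toRingHom)
    ((i.inv ≫ g).hom.comp ULift.ringEquiv.symm.toRingHom))

theorem ringHom_ext_monomial {G S : Type*} [AddCommGroup G] [CommRing S]
    (f g : AddMonoidAlgebra ℤ G →+* S)
    (h : ∀ e, f (AddMonoidAlgebra.single e 1) = g (AddMonoidAlgebra.single e 1)) : f = g :=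
  AddMonoidAlgebra.ringHom_ext
    (fun m => congrArg (fun φ : ℤ →+* S => φ m)
      (RingHom.ext_int (f.comp AddMonoidAlgebra.singleZeroRingHom) (g.comp AddMonoidAlgebra.singleZeroRingHom))) h

variable (X : Scheme.{u}) (n : ℕ)

/-- the coordinate ring of the torus -/
noncomputable abbrev T : CommRingCat.{u} := CommRingCat.of (ULift.{u} (AddMonoidAlgebra ℤ (Fin n → ℤ)))

/-- the monomial `t^e` on `X × 𝔾ₘⁿ` -/
noncomputable def tm (e : Fin n → ℤ) : Γ(X ⨯ Spec (T n), ⊤) :=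
  (prod.snd : X ⨯ Spec (T n) ⟶ _).appTop ((Scheme.ΓSpecIso (T n)).inv (ULift.up (AddMonoidAlgebra.single e 1)))

/-- the part of `X × 𝔾ₘⁿ` over `U` -/
noncomputable abbrev PU (U : X.Opens) : (X ⨯ Spec (T n)).Opens := (prod.fst : X ⨯ Spec (T n) ⟶ X) ⁻¹ᵁ U

/-- sections pulled back from `U` -/
noncomputable abbrev pr (U : X.Opens) : Γ(U, ⊤) →+* Γ(PU X n U, ⊤) :=
  ((prod.fst : X ⨯ Spec (T n) ⟶ X) ∣_ U).appTop.hom

variable {X n}

theorem local_repr {U : X.Opens} (hU : IsAffineOpen U) [IsDomain Γ(U, ⊤)]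
    (v : Γ(X ⨯ Spec (T n), ⊤)) (hv : IsUnit v) :
    ∃! p : (Γ(U, ⊤))ˣ × (Fin n → ℤ),
      (PU X n U).ι.appTop v = pr X n U (p.1 : Γ(U, ⊤)) * (PU X n U).ι.appTop (tm X n p.2) := by
  have : IsAffine (U : Scheme.{u}) := hU
  let P := X ⨯ Spec (T n)
  let Q : Scheme.{u} := (PU X n U).toScheme
  let s : Q ⟶ Spec (T n) := (PU X n U).ι ≫ prod.snd
  have hpb := (isPullback_morphismRestrict (prod.fst : P ⟶ X) U).paste_vert
    (IsPullback.of_hasBinaryProduct' X (Spec (T n)))
  have po := isPushout_appTop_of_isPullback hpb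
  let R := Γ(U, ⊤)
  let G := Fin n → ℤ
  let a : R ⟶ CommRingCat.of (AddMonoidAlgebra R G) := CommRingCat.ofHom AddMonoidAlgebra.singleZeroRingHom
  let b : Γ(Spec (T n), ⊤) ⟶ CommRingCat.of (AddMonoidAlgebra R G) := (Scheme.ΓSpecIso (T n)).hom ≫
    CommRingCat.ofHom ((AddMonoidAlgebra.mapRingHom G (Int.castRingHom R)).comp ULift.ringEquiv.toRingHom)
  have := subsingleton_hom_terminal (CommRingCat.of (AddMonoidAlgebra R G))
  let θ := po.desc a b (Subsingleton.elim _ _)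
  have hθ1 : ∀ r, θ (pr X n U r) = AddMonoidAlgebra.single 0 r := fun r => congr($(po.inl_desc a b _) r)
  have hθ2 : ∀ e : G, θ ((PU X n U).ι.appTop (tm X n e)) = AddMonoidAlgebra.single e 1 := fun e => by
    refine (congr($(po.inr_desc a b (Subsingleton.elim _ _))
      ((Scheme.ΓSpecIso (T n)).inv (ULift.up (AddMonoidAlgebra.single e 1))))).trans ?_
    show AddMonoidAlgebra.mapRingHom G (Int.castRingHom R)
      (ULift.down (((Scheme.ΓSpecIso (T n)).inv ≫ (Scheme.ΓSpecIso (T n)).hom) (ULift.up (AddMonoidAlgebra.single e 1)))) = _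
    rw [Iso.inv_hom_id]
    simp
  have hθ : ∀ r (e : G), θ (pr X n U r * (PU X n U).ι.appTop (tm X n e)) = AddMonoidAlgebra.single e r :=
    fun r e => by rw [map_mul, hθ1, hθ2, AddMonoidAlgebra.single_mul_single, zero_add, mul_one]
  let sT : AddMonoidAlgebra ℤ G →+* Γ(Q, ⊤) :=
    s.appTop.hom.comp ((Scheme.ΓSpecIso (T n)).inv.hom.comp ULift.ringEquiv.symm.toRingHom)
  have hsT : ∀ e : G, sT (AddMonoidAlgebra.single e 1) = (PU X n U).ι.appTop (tm X n e) := fun e => rfl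
  let tmh : Multiplicative G →* Γ(Q, ⊤) := sT.toMonoidHom.comp (AddMonoidAlgebra.of ℤ G)
  let η : AddMonoidAlgebra R G →+* Γ(Q, ⊤) :=
    AddMonoidAlgebra.liftNCRingHom (pr X n U) tmh fun _ _ => Commute.all _ _
  have hη : ∀ r (e : G), η (AddMonoidAlgebra.single e r) = pr X n U r * (PU X n U).ι.appTop (tm X n e) := fun r e => by
    show AddMonoidAlgebra.liftNC _ _ _ = _
    rw [AddMonoidAlgebra.liftNC_single]
    rfl
  have hid : θ ≫ CommRingCat.ofHom η = 𝟙 _ := by
    refine po.hom_ext ?_ ?_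
    · ext r
      show η (θ (pr X n U r)) = pr X n U r
      rw [hθ1, hη]
      have : tm X n 0 = 1 := by
        rw [tm, ← AddMonoidAlgebra.one_def]
        exact (congrArg _ (map_one _)).trans (map_one _)
      rw [this, map_one, mul_one]
    · rw [← cancel_epi (Scheme.ΓSpecIso (T n)).inv]
      ext1
      apply RingHom.ext
      intro x
      have key : η.comp (θ.hom.comp sT) = sT := ringHom_ext_monomial _ _ fun e => by
        rw [RingHom.comp_apply, RingHom.comp_apply, hsT, hθ2, hη, map_one, one_mul]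
      exact congr($key x.down)
  have hinv : ∀ z, η (θ z) = z := fun z => congr($hid z)
  obtain ⟨u, hu⟩ := (hv.map (PU X n U).ι.appTop.hom).map θ.hom
  obtain ⟨r, e, hre⟩ := CAlg7.exists_unit_eq_single
    (fun c hc => IsIdempotentElem.iff_eq_zero_or_one.mp hc) u
  refine ⟨(r, e), ?_, ?_⟩
  · show (PU X n U).ι.appTop v = _
    rw [← hinv ((PU X n U).ι.appTop v), show θ ((PU X n U).ι.appTop v) = _ from hu.symm.trans hre, hη]
  · rintro ⟨r', e'⟩ h'
    have h1 : AddMonoidAlgebra.single e' (r' : R) = AddMonoidAlgebra.single e (r : R) := by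
      rw [← hθ, ← h']
      exact hu.symm.trans hre
    have h2 := congrArg AddMonoidAlgebra.coeff h1
    simp only [AddMonoidAlgebra.coeff_single] at h2
    obtain ⟨rfl, h3⟩ | ⟨h3, -⟩ := Finsupp.single_eq_single_iff _ _ _ _ |>.mp h2
    · exact Prod.ext (Units.ext h3) rfl
    · exact absurd h3 r'.ne_zero

/-- restriction between opens, on global sections of the open subschemes -/
noncomputable abbrev res {V U : X.Opens} (h : V ≤ U) : Γ(U, ⊤) →+* Γ(V, ⊤) := (X.homOfLE h).appTop.hom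

theorem pr_res {V U : X.Opens} (h : V ≤ U) (a : Γ(U, ⊤)) :
    pr X n V (res h a) =
      ((X ⨯ Spec (T n)).homOfLE (show PU X n V ≤ PU X n U from fun _ hy => h hy)).appTop (pr X n U a) := by
  have e : ((prod.fst : X ⨯ Spec (T n) ⟶ X) ∣_ V) ≫ X.homOfLE h =
      (X ⨯ Spec (T n)).homOfLE (show PU X n V ≤ PU X n U from fun _ hy => h hy) ≫
        ((prod.fst : X ⨯ Spec (T n) ⟶ X) ∣_ U) := by
    rw [← cancel_mono U.ι]
    simp [morphismRestrict_ι]
  have := congr($(congrArg Scheme.Hom.appTop e) a)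
  simp only [Scheme.Hom.comp_appTop, CommRingCat.comp_apply] at this
  exact this

theorem ι_res {P : Scheme.{u}} {V U : P.Opens} (h : V ≤ U) (w : Γ(P, ⊤)) :
    (P.homOfLE h).appTop (U.ι.appTop w) = V.ι.appTop w := by
  have := congr($(congrArg Scheme.Hom.appTop (P.homOfLE_ι h)) w)
  simp only [Scheme.Hom.comp_appTop, CommRingCat.comp_apply] at this
  exact this

theorem repr_res {V U : X.Opens} (h : V ≤ U) {v : Γ(X ⨯ Spec (T n), ⊤)} {a : (Γ(U, ⊤))ˣ} {e : Fin n → ℤ}
    (he : (PU X n U).ι.appTop v = pr X n U (a : Γ(U, ⊤)) * (PU X n U).ι.appTop (tm X n e)) :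
    (PU X n V).ι.appTop v =
      pr X n V ((Units.map (res h).toMonoidHom a : (Γ(V, ⊤))ˣ) : Γ(V, ⊤)) * (PU X n V).ι.appTop (tm X n e) := by
  rw [Units.coe_map, RingHom.toMonoidHom_eq_coe, MonoidHom.coe_coe, pr_res h,
    ← ι_res (show PU X n V ≤ PU X n U from fun _ hy => h hy) v,
    ← ι_res (show PU X n V ≤ PU X n U from fun _ hy => h hy) (tm X n e), he, map_mul]

theorem pr_top {U : X.Opens} (a : Γ(X, ⊤)) :
    pr X n U (U.ι.appTop a) =
      (PU X n U).ι.appTop ((prod.fst : X ⨯ Spec (T n) ⟶ X).appTop a) := by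
  have := congr($(congrArg Scheme.Hom.appTop (morphismRestrict_ι (prod.fst : X ⨯ Spec (T n) ⟶ X) U)) a)
  simp only [Scheme.Hom.comp_appTop, CommRingCat.comp_apply] at this
  exact this

end Groth.Agent.Curves2.TorusUnits
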